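/- Modules of `SL₂(q)` in defining characteristic, part 1: linear algebra and the highest weight. -/
import Cfsg.Agent.Base

set_option autoImplicit false
set_option linter.unusedSectionVars false

namespace H56.SL2M

open Module Polynomial Matrix
open scoped MatrixGroups

section Lin
variable {k : Type*} [Field k] {V : Type*} [AddCommGroup V] [Module k V]

open Module.Basis in
theorem charpoly_sub_quot [FiniteDimensional k V] (W : Submodule k V) (e : V →ₗ[k] V)
    (he : W ≤ W.comap e) :
    e.charpoly = (e.restrict he).charpoly * (W.mapQ W e he).charpoly := by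
  let m := Module.Free.ChooseBasisIndex k W
  let bW : Basis m k W := Module.Free.chooseBasis k W
  let n := Module.Free.ChooseBasisIndex k (V ⧸ W)
  let bQ : Basis n k (V ⧸ W) := Module.Free.chooseBasis k (V ⧸ W)
  let b := sumQuot bW bQ
  let A : Matrix m m k := LinearMap.toMatrix bW bW (e.restrict he)
  let B : Matrix m n k := Matrix.of fun i l ↦
    ((sumQuot bW bQ).repr (e ((sumQuot bW bQ) (Sum.inr l)))) (Sum.inl i)
  let D : Matrix n n k := LinearMap.toMatrix bQ bQ (W.mapQ W e he)
  suffices LinearMap.toMatrix b b e = Matrix.fromBlocks A B 0 D by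
    rw [← LinearMap.charpoly_toMatrix _ b, this, ← LinearMap.charpoly_toMatrix _ bW,
      ← LinearMap.charpoly_toMatrix _ bQ, Matrix.charpoly_fromBlocks_zero₂₁]
  ext u v
  cases u with
  | inl i =>
    cases v with
    | inl k =>
      simp only [b, sumQuot_inl, Matrix.fromBlocks_apply₁₁, A, LinearMap.toMatrix_apply]
      apply sumQuot_repr_inl_of_mem
    | inr l => simp [b, LinearMap.toMatrix_apply, Matrix.fromBlocks_apply₁₂, B]
  | inr j =>
    cases v with
    | inl k =>
      suffices W.mkQ (e (bW k)) = 0 by simp [LinearMap.toMatrix_apply, b, this]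
      rw [← LinearMap.mem_ker, Submodule.ker_mkQ]
      exact he (Submodule.coe_mem (bW k))
    | inr l =>
      simp only [LinearMap.toMatrix_apply, sumQuot_repr_inr,
        Matrix.fromBlocks_apply₂₂, b, D]
      rw [← sumQuot_inr bW bQ l, W.mapQ_apply]
      simp

theorem charpoly_of_eigenbasis {ι : Type*} [Fintype ι] [FiniteDimensional k V] (b : Basis ι k V)
    (e : V →ₗ[k] V) (d : ι → k) (h : ∀ i, e (b i) = d i • b i) :
    e.charpoly = ∏ i, (X - C (d i)) := by
  classical
  rw [← LinearMap.charpoly_toMatrix _ b, ← Matrix.charpoly_diagonal]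
  congr 1
  ext i j
  rw [LinearMap.toMatrix_apply, h, map_smul, b.repr_self, diagonal_apply]
  by_cases hij : i = j
  · subst hij; simp
  · simp [hij]

/-- Commuting nilpotent operators have a common kernel. -/
theorem exists_common_ker {ι : Type*} (s : Finset ι) (N : ι → End k V) (hN : ∀ i, IsNilpotent (N i))
    (hc : ∀ i j, Commute (N i) (N j)) {v : V} (hv : v ≠ 0) : ∃ w ≠ 0, ∀ i ∈ s, N i w = 0 := by
  classical
  induction s using Finset.induction_on with
  | empty => exact ⟨v, hv, by simp⟩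
  | insert a s _ ih =>
    obtain ⟨w, hw, h⟩ := ih
    have hex : ∃ n, (N a ^ n) w = 0 := by
      obtain ⟨n, hn⟩ := hN a
      exact ⟨n, by rw [hn]; rfl⟩
    have h0 : Nat.find hex ≠ 0 := fun e => hw (by simpa [e] using Nat.find_spec hex)
    obtain ⟨n, hn⟩ := Nat.exists_eq_succ_of_ne_zero h0
    refine ⟨(N a ^ n) w, Nat.find_min hex (by omega), fun i hi => ?_⟩
    rcases Finset.mem_insert.1 hi with rfl | hi
    · rw [← End.mul_apply, ← pow_succ', ← Nat.succ_eq_add_one, ← hn]; exact Nat.find_spec hex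
    · rw [← End.mul_apply, ((hc i a).pow_right n).eq, End.mul_apply, h i hi, map_zero]

variable {F : Type*} [Field F] [Fintype F] (ι : F →+* k)

/-- Vandermonde argument with vector coefficients. -/
theorem mem_of_sum_mem (W : Submodule k V) {j : ℕ} (hj : j < Fintype.card F) (w : ℕ → V)
    (h : ∀ t : F, ∑ m ∈ Finset.range (j + 1), ι t ^ m • w m ∈ W) {m : ℕ} (hm : m ≤ j) :
    w m ∈ W := by
  by_contra hw
  obtain ⟨ψ, h1, h2⟩ := W.exists_dual_map_eq_bot_of_notMem hw inferInstance
  have h3 : ∑ m ∈ Finset.range (j + 1), monomial m (ψ (w m)) = 0 := by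
    refine eq_zero_of_natDegree_lt_card_of_eval_eq_zero _ ι.injective (fun t => ?_) ?_
    · have : ψ (∑ m ∈ Finset.range (j + 1), ι t ^ m • w m) ∈ W.map ψ := ⟨_, h t, rfl⟩
      rw [h2, Submodule.mem_bot] at this
      rw [← this]
      simp [eval_finsetSum, mul_comm]
    · refine lt_of_le_of_lt (natDegree_sum_le_of_forall_le _ _ fun i hi => ?_) hj
      exact (natDegree_monomial_le _).trans (Nat.lt_succ_iff.1 (Finset.mem_range.1 hi))
  have := congrArg (coeff · m) h3
  simp only [finsetSum_coeff, coeff_monomial, Finset.sum_ite_eq', Finset.mem_range, coeff_zero,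
    Nat.lt_succ_iff.2 hm, if_true] at this
  exact h1 this

end Lin

section Elts
variable {F : Type*} [Field F]

def xx (t : F) : SL(2, F) := ⟨!![1, t; 0, 1], by simp [det_fin_two]⟩
def yy (t : F) : SL(2, F) := ⟨!![1, 0; t, 1], by simp [det_fin_two]⟩
def hh (s : Fˣ) : SL(2, F) := ⟨!![(s : F), 0; 0, ((s⁻¹ : Fˣ) : F)], by simp [det_fin_two]⟩
def ww : SL(2, F) := ⟨!![0, -1; 1, 0], by simp [det_fin_two]⟩

theorem xx_coe (t : F) : (xx t).1 = !![1, t; 0, 1] := rfl
theorem yy_coe (t : F) : (yy t).1 = !![1, 0; t, 1] := rfl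
theorem hh_coe (s : Fˣ) : (hh s).1 = !![(s : F), 0; 0, ((s⁻¹ : Fˣ) : F)] := rfl
theorem ww_coe : (ww (F := F)).1 = !![0, -1; 1, 0] := rfl

theorem xx_add (t u : F) : xx (t + u) = xx t * xx u := by
  ext i j; fin_cases i <;> fin_cases j <;> simp [xx_coe, add_comm]

theorem xx_zero : xx (0 : F) = 1 := by
  ext i j; fin_cases i <;> fin_cases j <;> simp [xx]

theorem xx_pow (t : F) (n : ℕ) : xx t ^ n = xx (n * t) := by
  induction n with
  | zero => simp [xx_zero]
  | succ n ih => rw [pow_succ, ih, ← xx_add]; congr 1; push_cast; ring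

theorem hh_mul (s u : Fˣ) : hh (s * u) = hh s * hh u := by
  ext i j; fin_cases i <;> fin_cases j <;> simp [hh_coe, mul_comm]

theorem hh_one : hh (1 : Fˣ) = 1 := by
  ext i j; fin_cases i <;> fin_cases j <;> simp [hh]

theorem hh_xx (s : Fˣ) (t : F) : hh s * xx t = xx (s * s * t) * hh s := by
  ext i j; fin_cases i <;> fin_cases j <;> simp [hh_coe, xx_coe]
  field_simp

theorem bruhat_zero (g : SL(2, F)) (h : g 1 0 = 0) : ∃ s t, g = hh s * xx t := by
  have hd : g 0 0 * g 1 1 = 1 := by
    have := g.2; rw [det_fin_two, h] at this; simpa using this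
  have h0 : g 0 0 ≠ 0 := left_ne_zero_of_mul_eq_one hd
  refine ⟨Units.mk0 _ h0, g 0 1 / g 0 0, ?_⟩
  ext i j; fin_cases i <;> fin_cases j <;> simp [hh_coe, xx_coe, h]
  · field_simp
  · exact eq_inv_of_mul_eq_one_right hd

theorem bruhat_ne (g : SL(2, F)) (h : g 1 0 ≠ 0) :
    ∃ t u, g = xx t * hh (Units.mk0 _ h)⁻¹ * ww * xx u := by
  have hd : g 0 0 * g 1 1 - g 0 1 * g 1 0 = 1 := by
    have := g.2; rwa [det_fin_two] at this
  refine ⟨g 0 0 / g 1 0, g 1 1 / g 1 0, ?_⟩
  ext i j; fin_cases i <;> fin_cases j <;> simp [hh_coe, xx_coe, ww_coe]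
  · field_simp
  · field_simp; linear_combination -hd
  · field_simp

theorem wxw (t : F) : (ww * xx t * ww : SL(2, F)) 1 0 = t := by
  simp [xx_coe, ww_coe]

theorem wxw_zero : (ww * xx 0 * ww : SL(2, F)) = hh (-1) := by
  ext i j; fin_cases i <;> fin_cases j <;> simp [hh_coe, xx_coe, ww_coe]

end Elts

variable {k : Type*} [Field k] {V : Type*} [AddCommGroup V] [Module k V]
variable {F : Type*} [Field F] [Fintype F] (ι : F →+* k)

include ι in
theorem exists_fixed {M : Type*} [AddCommGroup M] [Module k M] (X : F → End k M)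
    (h0 : X 0 = 1) (ha : ∀ t u, X (t + u) = X t * X u) {v : M} (hv : v ≠ 0) :
    ∃ w ≠ 0, ∀ t, X t w = w := by
  obtain ⟨p, hp⟩ := CharP.exists F
  have hpp : Fact p.Prime := ⟨CharP.char_is_prime F p⟩
  have : CharP k p := (ι.charP_iff_charP p).1 hp
  have : Nontrivial M := nontrivial_of_ne v 0 hv
  have : CharP (End k M) p := charP_of_injective_algebraMap (algebraMap k (End k M)).injective p
  have hpow : ∀ (t : F) (n : ℕ), X t ^ n = X (n * t) := fun t n => by
    induction n with
    | zero => simp [h0]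
    | succ n ih => rw [pow_succ, ih, ← ha]; congr 1; push_cast; ring
  have hc : ∀ t u, Commute (X t) (X u) := fun t u => by
    rw [Commute, SemiconjBy, ← ha, ← ha, add_comm]
  obtain ⟨w, hw, h⟩ := exists_common_ker Finset.univ (fun t => X t - 1) (fun t => ⟨p, by
    rw [sub_pow_char_of_commute p (Commute.one_right _), hpow]; simp [h0]⟩)
    (fun t u => ((hc t u).sub_right (Commute.one_right _)).sub_left (Commute.one_left _)) hv
  exact ⟨w, hw, fun t => sub_eq_zero.1 (h t (Finset.mem_univ t))⟩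

/-- A functional that is an eigenvector of the Borel subgroup. -/
theorem exists_weight (ρ : Representation k SL(2, F) V) [Nontrivial V] :
    ∃ φ : Dual k V, φ ≠ 0 ∧ ∃ a, 1 ≤ a ∧ a ≤ Fintype.card F - 1 ∧ (∀ t v, φ (ρ (xx t) v) = φ v) ∧
      ∀ s v, φ (ρ (hh s) v) = ι ((s⁻¹ : Fˣ) : F) ^ a * φ v := by
  classical
  obtain ⟨φ₀, h0⟩ := exists_ne (0 : Dual k V)
  obtain ⟨φ, hφ, h1⟩ := exists_fixed ι (fun t : F => (ρ (xx t)).dualMap)
    (by rw [xx_zero, map_one]; rfl)
    (fun t u => by rw [add_comm, xx_add, map_mul]; rfl) h0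
  have h1' : ∀ t v, φ (ρ (xx t) v) = φ v := fun t v => LinearMap.congr_fun (h1 t) v
  let ψ : ℕ → Dual k V := fun a => ∑ s : Fˣ, ι s ^ a • (ρ (hh s)).dualMap φ
  have hq : 1 < Fintype.card F := Fintype.one_lt_card
  have h2 : ∑ a ∈ Finset.range (Fintype.card F - 1), ψ (a + 1) = -φ := by
    simp only [ψ]
    rw [Finset.sum_comm, Finset.sum_eq_single 1]
    · have : ((Fintype.card F - 1 : ℕ) : k) = -1 := by
        rw [← map_natCast ι, Nat.cast_sub hq.le, FiniteField.cast_card_eq_zero]; simp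
      rw [← Finset.sum_smul, hh_one, map_one]
      simp only [Units.val_one, map_one, one_pow, Finset.sum_const, Finset.card_range,
        nsmul_eq_mul, mul_one, this, neg_smul, one_smul]
      rfl
    · intro s _ hs
      rw [← Finset.sum_smul]
      have h3 : ι s - 1 ≠ 0 := by
        rw [← map_one ι, ← map_sub, _root_.map_ne_zero, sub_ne_zero]
        exact fun e => hs (Units.ext e)
      have h4 := geom_sum_mul (ι s) (Fintype.card F - 1)
      rw [← map_pow, FiniteField.pow_card_sub_one_eq_one _ s.ne_zero, map_one, sub_self,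
        mul_eq_zero] at h4
      simp only [pow_succ, ← Finset.sum_mul, h4.resolve_right h3, zero_mul, zero_smul]
    · simp
  obtain ⟨a, ha, h3⟩ := Finset.exists_ne_zero_of_sum_ne_zero (h2 ▸ neg_ne_zero.2 hφ)
  have ha' := Finset.mem_range.1 ha
  refine ⟨ψ (a + 1), h3, a + 1, by omega, by omega, fun t v => ?_, fun s v => ?_⟩
  · simp only [ψ, LinearMap.sum_apply, LinearMap.smul_apply, LinearMap.dualMap_apply]
    refine Finset.sum_congr rfl fun s _ => ?_
    rw [← End.mul_apply, ← map_mul, hh_xx, map_mul, End.mul_apply, h1']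
  · simp only [ψ, LinearMap.sum_apply, LinearMap.smul_apply, LinearMap.dualMap_apply,
      Finset.mul_sum, smul_eq_mul]
    refine Fintype.sum_equiv (Equiv.mulRight s) _ _ fun u => ?_
    rw [← End.mul_apply, ← map_mul, ← hh_mul, Equiv.coe_mulRight, ← mul_assoc, ← mul_pow,
      ← map_mul]
    congr 3
    rw [← Units.val_mul]; congr 1; simp [mul_comm]

/-- A vector whose matrix coefficient is a power of the lower left entry. -/
theorem exists_top (ρ : Representation k SL(2, F) V) [Nontrivial V] :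
    ∃ φ : Dual k V, φ ≠ 0 ∧ ∃ v : V, v ≠ 0 ∧ ∃ j < Fintype.card F, ∃ β : k,
      ∀ g, φ (ρ g v) = β * ι (g 1 0) ^ j := by
  classical
  obtain ⟨φ, hφ, a, ha1, ha2, hx, hh'⟩ := exists_weight ι ρ
  have hq : 1 < Fintype.card F := Fintype.one_lt_card
  have big : ∀ v, (∀ t, ρ (xx t) v = v) → ∀ g : SL(2, F), g 1 0 ≠ 0 →
      φ (ρ g v) = φ (ρ ww v) * ι (g 1 0) ^ a := fun v hv g hg => by
    obtain ⟨t, u, e⟩ := bruhat_ne g hg
    conv_lhs => rw [e]
    simp only [map_mul, End.mul_apply, hv, hx, hh', inv_inv, Units.val_mk0]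
    ring
  have small : ∀ v, (∀ t, ρ (xx t) v = v) → ∀ g : SL(2, F), g 1 0 = 0 →
      ∃ s : Fˣ, φ (ρ g v) = ι s ^ a * φ v := fun v hv g hg => by
    obtain ⟨s, t, e⟩ := bruhat_zero g hg
    exact ⟨s⁻¹, by rw [e, map_mul, End.mul_apply, hv, hh']⟩
  have fin : ∀ v, (∀ t, ρ (xx t) v = v) → φ v = 0 → ∀ g : SL(2, F),
      φ (ρ g v) = φ (ρ ww v) * ι (g 1 0) ^ a := fun v hv h0 g => by
    by_cases hg : g 1 0 = 0
    · obtain ⟨s, e⟩ := small v hv g hg
      rw [e, h0, hg, map_zero, zero_pow (by omega), mul_zero, mul_zero]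
    · exact big v hv g hg
  obtain ⟨v₀, h0⟩ := exists_ne (0 : V)
  obtain ⟨v, hv0, hv⟩ := exists_fixed ι (fun t : F => ρ (xx t)) (by rw [xx_zero, map_one])
    (fun t u => by rw [xx_add, map_mul]) h0
  by_cases hT : ∑ t : F, ρ (xx t) (ρ ww v) = 0
  · have h1 := congrArg (fun z => φ (ρ ww z)) hT
    simp only [map_sum, map_zero] at h1
    have h2 : ∀ t : F, φ (ρ ww (ρ (xx t) (ρ ww v))) =
        (if t = 0 then ι (-1) ^ a * φ v else 0) + φ (ρ ww v) * ι (t ^ a) := fun t => by
      rw [← End.mul_apply, ← End.mul_apply, ← map_mul, ← map_mul]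
      split_ifs with ht
      · rw [ht, wxw_zero, hh', zero_pow (by omega)]; simp
      · rw [big v hv _ (by rwa [wxw]), wxw, map_pow, zero_add]
    simp only [h2, Finset.sum_add_distrib, Finset.sum_ite_eq', Finset.mem_univ, if_true,
      ← Finset.mul_sum, ← map_sum] at h1
    rcases ha2.lt_or_eq with ha | ha
    · rw [FiniteField.sum_pow_lt_card_sub_one _ _ ha, map_zero, mul_zero, add_zero, mul_eq_zero] at h1
      exact ⟨φ, hφ, v, hv0, a, by omega, _,
        fin v hv (h1.resolve_left (pow_ne_zero _ (by simp)))⟩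
    · have h3 : ∀ s : F, s ≠ 0 → ι s ^ a = 1 := fun s hs => by
        rw [← map_pow, ha, FiniteField.pow_card_sub_one_eq_one _ hs, map_one]
      have h4 : ∑ t : F, t ^ a = -1 := by
        rw [← Finset.add_sum_erase _ _ (Finset.mem_univ 0), zero_pow (by omega), zero_add,
          Finset.sum_congr rfl fun t ht => by
            rw [ha, FiniteField.pow_card_sub_one_eq_one _ (Finset.ne_of_mem_erase ht)]]
        simp [Nat.cast_sub hq.le]
      rw [h4, h3 _ (by simp)] at h1
      refine ⟨φ, hφ, v, hv0, 0, by omega, φ v, fun g => ?_⟩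
      by_cases hg : g 1 0 = 0
      · obtain ⟨s, e⟩ := small v hv g hg
        rw [e, h3 _ s.ne_zero]; ring
      · rw [big v hv g hg, h3 _ hg]
        simp only [map_neg, map_one] at h1
        linear_combination -h1
  · refine ⟨φ, hφ, _, hT, a, by omega, _, fin _ (fun u => ?_) ?_⟩
    · rw [map_sum]
      exact Fintype.sum_equiv (Equiv.addLeft u) _ _ fun t => by
        rw [← End.mul_apply, ← map_mul, ← xx_add]; rfl
    · simp only [map_sum, hx, Finset.sum_const, Finset.card_univ, nsmul_eq_mul]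
      rw [← map_natCast ι, FiniteField.cast_card_eq_zero, map_zero, zero_mul]

end H56.SL2M
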