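/- Modules of `SL₂(q)` in defining characteristic, part 2: the eigenvalues of semisimple elements. -/
import Cfsg.Agent.H56.SL2M1

set_option autoImplicit false
set_option linter.unusedSectionVars false

namespace H56.SL2M

open Module Polynomial Matrix
open scoped MatrixGroups

variable {k : Type*} [Field k] {F : Type*} [Field F] [Fintype F] (ι : F →+* k)

open Classical in
variable (k) in
/-- The exponents that occur in the simple module of highest weight `j`. -/
noncomputable def wt (j : ℕ) : Finset ℕ :=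
  (Finset.range (j + 1)).filter fun m => (j.choose m : k) ≠ 0

theorem mem_wt {j m : ℕ} : m ∈ wt k j ↔ m ≤ j ∧ (j.choose m : k) ≠ 0 := by
  simp [wt]

theorem wt_subset (j : ℕ) : wt k j ⊆ Finset.range (j + 1) := fun _ h =>
  Finset.mem_range.2 (Nat.lt_succ_iff.2 (mem_wt.1 h).1)

/-- `y` has the eigenvalues `μ, ν` with independent eigenvectors. -/
def Eig (y : SL(2, F)) (μ ν : k) : Prop := ∃ ξ η : Fin 2 → k, ξ 0 * η 1 - ξ 1 * η 0 ≠ 0 ∧
  (∀ i, ι (y i 0) * ξ 0 + ι (y i 1) * ξ 1 = μ * ξ i) ∧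
    ∀ i, ι (y i 0) * η 0 + ι (y i 1) * η 1 = ν * η i

def rr (h : SL(2, F)) (ξ : Fin 2 → k) : k := ι (h 1 0) * ξ 0 + ι (h 1 1) * ξ 1

def ff (j : ℕ) (ξ η : Fin 2 → k) (m : ℕ) : SL(2, F) → k :=
  fun h => rr ι h ξ ^ m * rr ι h η ^ (j - m)

theorem rr_mul (h y : SL(2, F)) {ξ : Fin 2 → k} {μ : k}
    (hy : ∀ i, ι (y i 0) * ξ 0 + ι (y i 1) * ξ 1 = μ * ξ i) : rr ι (h * y) ξ = μ * rr ι h ξ := by
  simp only [rr, Matrix.SpecialLinearGroup.coe_mul, Matrix.mul_apply, Fin.sum_univ_two, map_add, map_mul]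
  linear_combination ι (h 1 0) * hy 0 + ι (h 1 1) * hy 1

theorem pow_eq_sum (j : ℕ) (ξ η : Fin 2 → k) (a b : k) :
    (fun h : SL(2, F) => (a * rr ι h ξ + b * rr ι h η) ^ j) =
      ∑ m ∈ Finset.range (j + 1), (a ^ m * b ^ (j - m) * j.choose m) • ff ι j ξ η m := by
  funext h
  rw [add_pow, Finset.sum_apply]
  refine Finset.sum_congr rfl fun m _ => ?_
  simp only [ff, Pi.smul_apply, smul_eq_mul, mul_pow]
  ring

theorem ff_indep {j : ℕ} (hj : j < Fintype.card F) :
    LinearIndependent k fun m : wt k j => ff ι j ![1, 0] ![0, 1] m := by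
  rw [Fintype.linearIndependent_iff]
  intro c hc m
  have := mem_of_sum_mem ι (⊥ : Submodule k k) hj
    (fun m => if h : m ∈ wt k j then c ⟨m, h⟩ else 0) (fun t => ?_) (m := m)
    (mem_wt.1 m.2).1
  · simpa using this
  · have h1 := congrFun hc (yy t)
    simp only [Finset.sum_apply, Pi.smul_apply, ff, rr, yy_coe, smul_eq_mul] at h1
    rw [Submodule.mem_bot, ← Finset.sum_subset (wt_subset (k := k) j)
      (fun m _ hm => by rw [dif_neg hm, smul_zero]), ← Finset.sum_coe_sort]
    refine Eq.trans (Finset.sum_congr rfl fun m _ => ?_) h1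
    rw [dif_pos m.2]
    simp [mul_comm]

section Simple
variable {V : Type*} [AddCommGroup V] [Module k V] [FiniteDimensional k V]

theorem simple_charpoly (ρ : Representation k SL(2, F) V) [Nontrivial V]
    (hs : ∀ W : Submodule k V, (∀ g, W ≤ W.comap (ρ g)) → W = ⊥ ∨ W = ⊤) :
    ∃ j < Fintype.card F, ∀ y μ ν, Eig ι y μ ν →
      (ρ y).charpoly = ∏ m ∈ wt k j, (X - C (μ ^ m * ν ^ (j - m))) := by
  obtain ⟨φ, hφ, v, hv, j, hj, β, h⟩ := exists_top ι ρ
  let Φ : V →ₗ[k] SL(2, F) → k := LinearMap.pi fun g => φ ∘ₗ ρ g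
  have hΦ : ∀ l g, Φ l g = φ (ρ g l) := fun _ _ => rfl
  have hΦ' : ∀ l g g', Φ (ρ g l) g' = Φ l (g' * g) := fun l g g' => by
    rw [hΦ, hΦ, map_mul, End.mul_apply]
  have inj : Function.Injective Φ := by
    rw [← LinearMap.ker_eq_bot]
    refine (hs _ fun g l hl => ?_).resolve_right fun e => hφ (LinearMap.ext fun l => ?_)
    · exact funext fun g' => (hΦ' l g g').trans (congrFun hl _)
    · have : l ∈ LinearMap.ker Φ := e ▸ trivial
      simpa [hΦ] using congrFun this 1
  have hβ : β ≠ 0 := fun e => hv (inj (funext fun g => by simp [hΦ, h, e]))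
  have hspan : Submodule.span k (Set.range fun g => ρ g v) = ⊤ := by
    refine (hs _ fun g => Submodule.span_le.2 ?_).resolve_left fun e => hv ?_
    · rintro _ ⟨g', rfl⟩
      exact Submodule.subset_span ⟨g * g', by simp⟩
    · have : v ∈ Submodule.span k (Set.range fun g => ρ g v) := Submodule.subset_span ⟨1, by simp⟩
      rwa [e] at this
  have hg : ∀ g (ξ η : Fin 2 → k) (a b : k), (∀ i, ι (g i 0) = a * ξ i + b * η i) → Φ (ρ g v) =
      ∑ m ∈ Finset.range (j + 1), (β * (a ^ m * b ^ (j - m) * j.choose m)) • ff ι j ξ η m := by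
    intro g ξ η a b hab
    simp only [mul_smul β, ← Finset.smul_sum, ← pow_eq_sum]
    funext g'
    rw [hΦ', hΦ, h, Pi.smul_apply, smul_eq_mul]
    simp only [rr, Matrix.SpecialLinearGroup.coe_mul, Matrix.mul_apply, Fin.sum_univ_two, map_add,
      map_mul, hab]
    congr 2
    ring
  -- lower bound for the dimension
  have low : Fintype.card (wt k j) ≤ finrank k (LinearMap.range Φ) := by
    have h1 : ∀ m ∈ wt k j, ff ι j ![1, 0] ![0, 1] m ∈ LinearMap.range Φ := fun m hm => by
      have := mem_of_sum_mem ι (LinearMap.range Φ) hj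
        (fun m => (β * j.choose m) • ff ι j ![1, 0] ![0, 1] m) (fun t => ⟨ρ (xx t * ww) v, ?_⟩)
        (mem_wt.1 hm).1
      · exact (Submodule.smul_mem_iff _ (mul_ne_zero hβ (mem_wt.1 hm).2)).1 this
      · rw [hg _ ![1, 0] ![0, 1] (ι t) 1 fun i => by
          fin_cases i <;> simp [xx_coe, ww_coe]]
        refine Finset.sum_congr rfl fun m _ => ?_
        rw [smul_smul]
        congr 1
        ring
    rw [← finrank_span_eq_card (ff_indep ι hj)]
    refine Submodule.finrank_mono (Submodule.span_le.2 ?_)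
    rintro _ ⟨m, rfl⟩
    exact h1 m m.2
  refine ⟨j, hj, fun y μ ν ⟨ξ, η, hd, hξ, hη⟩ => ?_⟩
  have up : LinearMap.range Φ ≤ Submodule.span k (Set.range fun m : wt k j => ff ι j ξ η m) := by
    rw [LinearMap.range_eq_map, ← hspan, Submodule.map_span, Submodule.span_le]
    rintro _ ⟨_, ⟨g, rfl⟩, rfl⟩
    rw [hg g ξ η ((ι (g 0 0) * η 1 - ι (g 1 0) * η 0) / (ξ 0 * η 1 - ξ 1 * η 0))
      ((ξ 0 * ι (g 1 0) - ξ 1 * ι (g 0 0)) / (ξ 0 * η 1 - ξ 1 * η 0)) fun i => by
        rw [div_mul_eq_mul_div, div_mul_eq_mul_div, ← add_div, eq_div_iff hd]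
        fin_cases i <;> simp only [Fin.zero_eta, Fin.mk_one] <;> ring]
    refine Submodule.sum_mem _ fun m hm => ?_
    by_cases h0 : (j.choose m : k) = 0
    · simp [h0]
    · exact Submodule.smul_mem _ _ (Submodule.subset_span
        ⟨⟨m, mem_wt.2 ⟨Nat.lt_succ_iff.1 (Finset.mem_range.1 hm), h0⟩⟩, rfl⟩)
  have ind : LinearIndependent k fun m : wt k j => ff ι j ξ η m :=
    linearIndependent_iff_card_le_finrank_span.2 (low.trans (Submodule.finrank_mono up))
  have eq := Submodule.eq_of_le_of_finrank_le up ((finrank_span_eq_card ind).trans_le low)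
  have ex : ∀ m : wt k j, ∃ l, Φ l = ff ι j ξ η m := fun m =>
    LinearMap.mem_range.1 (eq ▸ Submodule.subset_span ⟨m, rfl⟩)
  choose l hl using ex
  have ind' : LinearIndependent k l := LinearIndependent.of_comp Φ (by
    rwa [show Φ ∘ l = fun m : wt k j => ff ι j ξ η m from funext hl])
  have hc : Fintype.card (wt k j) = finrank k V := by
    rw [← LinearMap.finrank_range_of_inj inj, eq, finrank_span_eq_card ind]
  rw [charpoly_of_eigenbasis (basisOfLinearIndependentOfCardEqFinrank' l ind' hc) _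
    (fun m => μ ^ (m : ℕ) * ν ^ (j - m)) fun m => inj (funext fun g => ?_)]
  · exact Finset.prod_coe_sort (wt k j) fun m => X - C (μ ^ m * ν ^ (j - m))
  · simp only [coe_basisOfLinearIndependentOfCardEqFinrank', hΦ', map_smul, hl, ff, Pi.smul_apply,
      rr_mul ι g y hξ, rr_mul ι g y hη, mul_pow, smul_eq_mul]
    ring

end Simple

/-- The eigenvalues of the composition factors with highest weights `J`. -/
noncomputable def evs (J : Multiset ℕ) (μ ν : k) : Multiset k :=
  J.bind fun j => (wt k j).val.map fun m => μ ^ m * ν ^ (j - m)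

universe u

theorem exists_factors_aux (n : ℕ) : ∀ {V : Type u} [AddCommGroup V] [Module k V]
    [FiniteDimensional k V] (ρ : Representation k SL(2, F) V), finrank k V = n →
    ∃ J : Multiset ℕ, (∀ j ∈ J, j < Fintype.card F) ∧ ∀ y μ ν, Eig ι y μ ν →
      (ρ y).charpoly = ((evs J μ ν).map fun a => X - C a).prod := by
  induction n using Nat.strong_induction_on with | _ n ih =>
  intro V _ _ _ ρ hn
  rcases subsingleton_or_nontrivial V with hV | hV
  · refine ⟨0, by simp, fun y μ ν _ => ?_⟩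
    rw [(ρ y).charpoly_monic.natDegree_eq_zero.1
      ((ρ y).charpoly_natDegree.trans finrank_zero_of_subsingleton)]
    simp [evs]
  by_cases hs : ∀ W : Submodule k V, (∀ g, W ≤ W.comap (ρ g)) → W = ⊥ ∨ W = ⊤
  · obtain ⟨j, hj, h⟩ := simple_charpoly ι ρ hs
    refine ⟨{j}, by simpa using hj, fun y μ ν hy => ?_⟩
    rw [h y μ ν hy, evs, Multiset.singleton_bind, Multiset.map_map]
    rfl
  push Not at hs
  obtain ⟨W, hW, h1, h2⟩ := hs
  have h3 := W.finrank_quotient_add_finrank
  have h4 := Submodule.finrank_lt h2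
  have h5 : finrank k W ≠ 0 := fun e => h1 (Submodule.finrank_eq_zero.1 e)
  obtain ⟨J₁, hJ₁, e₁⟩ := ih _ (hn ▸ h4) (ρ.subrepresentation W hW) rfl
  obtain ⟨J₂, hJ₂, e₂⟩ := ih _ (show finrank k (V ⧸ W) < n by omega) (ρ.quotient W hW) rfl
  refine ⟨J₁ + J₂, fun j hj => (Multiset.mem_add.1 hj).elim (hJ₁ j) (hJ₂ j), fun y μ ν hy => ?_⟩
  rw [charpoly_sub_quot W _ (hW y), evs, Multiset.add_bind, Multiset.map_add, Multiset.prod_add]
  exact congrArg₂ (· * ·) (e₁ y μ ν hy) (e₂ y μ ν hy)

/-- Every representation of `SL₂(q)` in defining characteristic has a formal character that is a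
sum of characters of simple modules. -/
theorem exists_factors {V : Type*} [AddCommGroup V] [Module k V] [FiniteDimensional k V]
    (ρ : Representation k SL(2, F) V) :
    ∃ J : Multiset ℕ, (∀ j ∈ J, j < Fintype.card F) ∧ ∀ y μ ν, Eig ι y μ ν →
      (ρ y).charpoly.roots = evs J μ ν := by
  obtain ⟨J, h1, h2⟩ := exists_factors_aux ι _ ρ rfl
  exact ⟨J, h1, fun y μ ν hy => by rw [h2 y μ ν hy, roots_multiset_prod_X_sub_C]⟩

end H56.SL2M
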