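/- Modules of `SL₂(q)` in defining characteristic, part 3: the weights by Lucas' theorem. -/
import Cfsg.Agent.H56.SL2M2

set_option autoImplicit false
set_option linter.unusedSectionVars false

namespace H56.SL2M

/-- The numbers whose `f` lowest digits in base `p` are at most those of `j`. -/
def wl (p : ℕ) : ℕ → ℕ → List ℕ
  | 0, _ => [0]
  | f + 1, j => (wl p f (j / p)).flatMap fun m => (List.range (j % p + 1)).map fun e => p * m + e

variable {k : Type*} [Field k] {p : ℕ} [hp : Fact p.Prime] [CharP k p]

theorem choose_ne_zero_iff (j m : ℕ) : (j.choose m : k) ≠ 0 ↔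
    m % p ≤ j % p ∧ ((j / p).choose (m / p) : k) ≠ 0 := by
  have h := Choose.choose_modEq_choose_mod_mul_choose_div_nat (n := j) (k := m) (p := p)
  rw [(CharP.natCast_eq_natCast k p).2 h, Nat.cast_mul, mul_ne_zero_iff]
  refine and_congr_left' ⟨fun h => ?_, fun h => ?_⟩
  · by_contra hc
    exact h (by rw [Nat.choose_eq_zero_of_lt (not_le.1 hc), Nat.cast_zero])
  · rw [Ne, CharP.cast_eq_zero_iff k p]
    intro hd
    have h1 := hd.mul_right (m % p).factorial |>.mul_right (j % p - m % p).factorial
    rw [Nat.choose_mul_factorial_mul_factorial h, hp.out.dvd_factorial] at h1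
    exact absurd (Nat.mod_lt j hp.out.pos) (not_lt.2 h1)

theorem mem_wl {f j : ℕ} (hj : j < p ^ f) (m : ℕ) : m ∈ wl p f j ↔ (j.choose m : k) ≠ 0 := by
  induction f generalizing j m with
  | zero =>
    obtain rfl : j = 0 := by simpa using hj
    cases m <;> simp [wl]
  | succ f ih =>
    have h1 : j / p < p ^ f := Nat.div_lt_of_lt_mul (by rwa [← pow_succ'])
    have h2 := Nat.mod_lt j hp.out.pos
    rw [choose_ne_zero_iff (p := p), ← ih h1]
    simp only [wl, List.mem_flatMap, List.mem_map, List.mem_range]
    constructor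
    · rintro ⟨a, ha, e, he, rfl⟩
      rw [Nat.mul_add_mod, Nat.mul_add_div hp.out.pos, Nat.mod_eq_of_lt (a := e) (by omega),
        Nat.div_eq_of_lt (a := e) (by omega)]
      exact ⟨by omega, ha⟩
    · rintro ⟨h3, h4⟩
      exact ⟨_, h4, m % p, by omega, Nat.div_add_mod m p⟩

theorem nodup_wl (f j : ℕ) : (wl p f j).Nodup := by
  induction f generalizing j with
  | zero => simp [wl]
  | succ f ih =>
    have h2 := Nat.mod_lt j hp.out.pos
    refine List.nodup_flatMap.2 ⟨fun a _ => List.nodup_range.map fun _ _ h => by omega,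
      (ih _).imp fun {a b} hab => ?_⟩
    simp only [Function.onFun, List.disjoint_left, List.mem_map, List.mem_range]
    rintro _ ⟨e, he, rfl⟩ ⟨e', he', h⟩
    have := congrArg (· / p) h
    simp only [Nat.mul_add_div hp.out.pos, Nat.div_eq_of_lt (a := e) (show e < p by omega),
      Nat.div_eq_of_lt (a := e') (show e' < p by omega)] at this
    exact hab this.symm

theorem wt_val {f j : ℕ} (hj : j < p ^ f) : (wt k j).val = (wl p f j : Multiset ℕ) := by
  rw [Multiset.Nodup.ext (wt k j).nodup (Multiset.coe_nodup.2 (nodup_wl f j))]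
  intro m
  rw [Multiset.mem_coe, mem_wl (k := k) hj, Finset.mem_val, mem_wt, and_iff_right_iff_imp]
  intro h
  by_contra hc
  exact h (by rw [Nat.choose_eq_zero_of_lt (not_le.1 hc), Nat.cast_zero])

end H56.SL2M
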