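/- Subgroups `L₂(q)` of Chevalley groups in the defining characteristic: eigenvalue comparison. -/
import Cfsg.Agent.H56.SL2M3
import Cfsg.Agent.H67.Jordan
import Cfsg.Agent.H65.All

set_option autoImplicit false
set_option linter.unusedSectionVars false

namespace H56.SL2M

open Module Polynomial Matrix Cfsg.Lie H63 H64 H65 H46 H67
open scoped MatrixGroups

theorem roots_diagonal {k n : Type*} [Field k] [Fintype n] [DecidableEq n] (d : n → k) :
    (Matrix.diagonal d).charpoly.roots = Finset.univ.val.map d := by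
  rw [Matrix.charpoly_diagonal, ← roots_multiset_prod_X_sub_C (Finset.univ.val.map d),
    Multiset.map_map]
  rfl

section Bridge
variable {D : ChevalleyDatum} [RS D] [Tab D] [Comm D] {E : Type*} [Field E] [Fintype E]

variable (D E) in
/-- The adjoint representation over the algebraic closure. -/
noncomputable def adj : Representation (AlgebraicClosure E) ↥(D.group E)
    (D.Idx → AlgebraicClosure E) where
  toFun g := Matrix.toLin' (toAlg D E g).1.1
  map_one' := by simp [Module.End.one_eq_id]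
  map_mul' g h := by simp [Module.End.mul_eq_comp]

/-- The eigenvalues of a semisimple element. -/
theorem exists_torus (hk : cker D (AlgebraicClosure E)ˣ = ⊥) (p : ℕ) [hp : Fact p.Prime]
    [CharP E p] (g : ↥(D.group E)) (hg : ¬ p ∣ orderOf g) :
    ∃ (c : Fin D.rank → (AlgebraicClosure E)ˣ) (w : (H64.wdata D).W),
      (∀ r, chi D c (w.1 r) = chi D c r ^ Fintype.card E) ∧ orderOf c = orderOf g ∧
      (adj D E g).charpoly.roots = (Multiset.replicate D.rank 1 +
        Finset.univ.val.map fun r : Rt D => chi D c r).map Units.val := by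
  obtain ⟨c, w, u, e, a, h1, -, -, h3, -, h5, -, h6⟩ := exists_jordan hk p g
  obtain rfl : a = 0 := by
    rcases a with _ | a
    · rfl
    · exact absurd ⟨e * p ^ a, by rw [h1]; ring⟩ hg
  rw [pow_zero, pow_one] at h3
  rw [h3, mul_one] at h6
  refine ⟨c, w, h5, ?_, ?_⟩
  · rw [← orderOf_torG hk, ← orderOf_eq_of_isConj' h6, orderOf_injective _ (mapG_injective _)]
  · obtain ⟨z, hz⟩ := isConj_iff.1 h6.symm
    have h7 : (adj D E g).charpoly = (tor D _ c : Matrix D.Idx D.Idx _).charpoly := by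
      have e : adj D E g = Matrix.toLin' (toAlg D E g).1.1 := rfl
      rw [e, Matrix.charpoly_toLin', ← hz, Subgroup.coe_mul, Subgroup.coe_mul, Subgroup.coe_inv,
        Units.val_mul, Units.val_mul, torG_val, Matrix.coe_units_inv]
      exact Matrix.charpoly_units_conj _ _
    rw [h7, tor_val, roots_diagonal,
      ← Finset.univ_disjSum_univ, Finset.val_disjSum, Multiset.disjSum, Multiset.map_add,
      Multiset.map_add, Multiset.map_map, Multiset.map_map, Multiset.map_map]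
    congr 1
    simp

end Bridge

variable {F : Type*} [Field F] [Fintype F]

theorem hh_pow (s : Fˣ) (n : ℕ) : hh s ^ n = hh (s ^ n) := by
  induction n with
  | zero => simp [hh_one]
  | succ n ih => rw [pow_succ, ih, ← hh_mul, pow_succ]

theorem hh_mem_center {s : Fˣ} : hh s ∈ Subgroup.center SL(2, F) ↔ s ^ 2 = 1 := by
  rw [Matrix.SpecialLinearGroup.mem_center_iff]
  constructor
  · rintro ⟨r, h1, h2⟩
    have := congrFun (congrFun h2 0) 0
    simp only [hh_coe, scalar_apply, diagonal_apply_eq, of_apply, cons_val', cons_val_zero,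
      cons_val_fin_one] at this
    rw [this] at h1
    exact Units.ext (by simpa using h1)
  · intro h
    have h1 : s⁻¹ = s := inv_eq_of_mul_eq_one_right (by rw [← sq, h])
    refine ⟨s, by simpa using congrArg Units.val h, ?_⟩
    rw [hh_coe, h1]
    ext i j; fin_cases i <;> fin_cases j <;> simp

theorem orderOf_mk_hh (s : Fˣ) :
    orderOf (QuotientGroup.mk (hh s) : PSL(2, F)) = orderOf (s ^ 2) :=
  orderOf_eq_orderOf_iff.2 fun n => by
    rw [← QuotientGroup.mk_pow, QuotientGroup.eq_one_iff, hh_pow, hh_mem_center, ← pow_mul,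
      ← pow_mul, mul_comm]

theorem exists_hom {G : Type*} [Group G] (H : Subgroup G) (e : ↥H ≃* PSL(2, F)) :
    ∃ ψ : SL(2, F) →* G, ∀ t, orderOf (ψ (hh t)) = orderOf (t ^ 2) :=
  ⟨H.subtype.comp (e.symm.toMonoidHom.comp (QuotientGroup.mk' _)), fun t => by
    rw [← orderOf_mk_hh]
    exact (Subgroup.orderOf_coe (e.symm (QuotientGroup.mk (hh t)))).trans
      (MulEquiv.orderOf_eq e.symm _)⟩

theorem eig_hh {k : Type*} [Field k] (ι : F →+* k) (s : Fˣ) :
    Eig ι (hh s) (ι s) (ι (s⁻¹ : Fˣ)) :=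
  ⟨![1, 0], ![0, 1], by simp, fun i => by fin_cases i <;> simp [hh_coe],
    fun i => by fin_cases i <;> simp [hh_coe]⟩

/-- Representations of `PSL₂(q)`, `q` odd: the eigenvalues of the split torus. -/
theorem split_sum_nonneg {k : Type*} [Field k] (ι : F →+* k) {p f : ℕ} [Fact p.Prime] [CharP k p]
    (hp : p ≠ 2) (hq : Fintype.card F = p ^ f) {V : Type*} [AddCommGroup V] [Module k V]
    [FiniteDimensional k V] (ρ : Representation k SL(2, F) V) (h1 : ρ (hh (-1)) = 1) (s : Fˣ)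
    {M : Multiset kˣ} (hM : (ρ (hh s)).charpoly.roots = M.map Units.val) (φ : kˣ → ℤ)
    (hφ : ∀ j < p ^ f, j % 2 = 0 → (wl p f j).length ≤ M.card → 0 ≤ ((wl p f j).map fun m : ℕ =>
      φ ((Units.map (ι : F →* k) (s ^ 2)) ^ ((m : ℤ) - (j / 2 : ℕ)))).sum) :
    0 ≤ (M.map φ).sum := by
  obtain ⟨J, hJ, h⟩ := exists_factors ι ρ
  rw [hq] at hJ
  have ev : ∀ j ∈ J, j % 2 = 0 := fun j hj => by
    have h2 : ι (-1 : Fˣ) ^ 0 * ι ((-1 : Fˣ)⁻¹ : Fˣ) ^ (j - 0) ∈ (ρ (hh (-1))).charpoly.roots := by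
      rw [h _ _ _ (eig_hh ι (-1)), evs]
      exact Multiset.mem_bind.2 ⟨j, hj, Multiset.mem_map_of_mem _ (mem_wt.2 ⟨by omega, by simp⟩)⟩
    rw [h1, LinearMap.charpoly_one, mem_roots', IsRoot.def, eval_pow] at h2
    have h3 : (-1 : k) ^ j = 1 := by simpa [sub_eq_zero] using eq_zero_of_pow_eq_zero h2.2
    have h4 : (-1 : k) ≠ 1 := by
      have : Fact (2 < p) := ⟨lt_of_le_of_ne (Fact.out : p.Prime).two_le hp.symm⟩
      exact CharP.neg_one_ne_one k p
    exact Nat.even_iff.1 ((neg_one_pow_eq_one_iff_even h4).1 h3)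
  have hM' : M = J.bind fun j => ((wl p f j : Multiset ℕ)).map fun m : ℕ =>
      (Units.map (ι : F →* k) (s ^ 2)) ^ ((m : ℤ) - (j / 2 : ℕ)) := by
    apply Multiset.map_injective Units.val_injective
    rw [← hM, h _ _ _ (eig_hh ι s), evs, Multiset.map_bind]
    refine Multiset.bind_congr fun j hj => ?_
    rw [← wt_val (k := k) (hJ j hj), Multiset.map_map]
    refine Multiset.map_congr rfl fun m hm => ?_
    obtain ⟨d, rfl⟩ := Nat.exists_eq_add_of_le (mem_wt.1 hm).1
    have h2 := ev _ hj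
    have h3 : ι (s : F) ≠ 0 := by simp
    simp only [Function.comp, Units.val_zpow_eq_zpow_val, Units.coe_map, Units.val_pow_eq_pow_val,
      MonoidHom.coe_coe, map_pow, Units.val_inv_eq_inv_val, map_inv₀, Nat.add_sub_cancel_left]
    rw [← zpow_natCast _ 2, ← _root_.zpow_mul, inv_pow, ← zpow_natCast, ← zpow_natCast,
      ← _root_.zpow_neg, ← zpow_add₀ h3]
    congr 1
    omega
  rw [hM', Multiset.map_bind, Multiset.sum_bind]
  refine Multiset.sum_nonneg fun x hx => ?_
  obtain ⟨j, hj, rfl⟩ := Multiset.mem_map.1 hx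
  rw [Multiset.map_map, Multiset.map_coe, Multiset.sum_coe]
  refine hφ j (hJ j hj) (ev j hj) ?_
  rw [hM', Multiset.card_bind]
  refine Multiset.single_le_sum (fun _ _ => Nat.zero_le _) _ (Multiset.mem_map.2 ⟨j, hj, ?_⟩)
  simp

attribute [local instance] H65.tabE8 H65.commE8

/-- The certificate for elements of order `n` of `L₂(3 ^ f)` in `E₈(3)`. -/
def Cert (n f : ℕ) : Prop := ∀ (c : Fin chevE8.rank → (AlgebraicClosure (ZMod 3))ˣ)
  (w : (H64.wdata chevE8).W) (ζ : (AlgebraicClosure (ZMod 3))ˣ),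
  (∀ r, chi chevE8 c (w.1 r) = chi chevE8 c r ^ 3) → orderOf ζ = n → orderOf c = n →
  ∃ φ : (AlgebraicClosure (ZMod 3))ˣ → ℤ, 8 * φ 1 + ∑ r : Rt chevE8, φ (chi chevE8 c r) < 0 ∧
    ∀ j < 3 ^ f, j % 2 = 0 → (wl 3 f j).length ≤ 248 →
      0 ≤ ((wl 3 f j).map fun m : ℕ => φ (ζ ^ ((m : ℤ) - (j / 2 : ℕ)))).sum

theorem no_psl {n f : ℕ} (hc : Cert n f) (hq : Fintype.card F = 3 ^ f) (h3 : ¬ 3 ∣ n)
    (hn : 2 * n ∣ 3 ^ f - 1) (H : Subgroup ↥(chevE8.group (ZMod 3))) :
    IsEmpty (↥H ≃* PSL(2, F)) := ⟨fun e => by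
  have : CharP F 3 := by
    obtain ⟨p, hp⟩ := CharP.exists F
    obtain ⟨m, hp', hm⟩ := FiniteField.card F p
    rw [hq] at hm
    have : p ∣ 3 ^ f := hm ▸ dvd_pow_self p m.ne_zero
    rwa [(Nat.prime_dvd_prime_iff_eq hp' Nat.prime_three).1 (hp'.dvd_of_dvd_pow this)] at hp
  let _ : Algebra (ZMod 3) F := ZMod.algebra F 3
  let ι : F →+* AlgebraicClosure (ZMod 3) := (IsAlgClosed.lift (R := ZMod 3) (S := F)).toRingHom
  obtain ⟨s, hs⟩ : ∃ s : Fˣ, orderOf s = 2 * n := by
    obtain ⟨g, hg⟩ := IsCyclic.exists_ofOrder_eq_natCard (α := Fˣ)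
    rw [Nat.card_units, Nat.card_eq_fintype_card, hq] at hg
    exact ⟨g ^ (orderOf g / (2 * n)), orderOf_pow_orderOf_div (orderOf_pos g).ne' (hg ▸ hn)⟩
  have hs2 : orderOf (s ^ 2) = n := by
    rw [orderOf_pow' _ two_ne_zero, hs, Nat.gcd_mul_right_left, Nat.mul_div_cancel_left _ two_pos]
  obtain ⟨ψ, ho⟩ := exists_hom H e
  have ho' : orderOf (ψ (hh s)) = n := (ho s).trans hs2
  obtain ⟨c, w, h1, h2, h4⟩ := exists_torus (kerE8.cker_eq_bot _) 3 (ψ (hh s)) (ho' ▸ h3)
  rw [ZMod.card] at h1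
  obtain ⟨φ, h5, h6⟩ := hc c w (Units.map (ι : F →* _) (s ^ 2)) h1
    ((orderOf_injective _ (Units.map_injective ι.injective) _).trans hs2) (h2.trans ho')
  have h7 := split_sum_nonneg ι (p := 3) (by norm_num) hq ((adj chevE8 (ZMod 3)).comp ψ)
    (by rw [MonoidHom.comp_apply, orderOf_eq_one_iff.1 ((ho _).trans (by simp)), map_one]) s h4 φ
    fun j hj hj2 hl => h6 j hj hj2 (hl.trans_eq (by simp; rfl))
  rw [Multiset.map_add, Multiset.sum_add, Multiset.map_replicate, Multiset.sum_replicate,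
    Multiset.map_map, nsmul_eq_mul] at h7
  exact absurd h5 (not_lt.2 h7)⟩

end H56.SL2M
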