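/- MATH-ORD, job E0, part 1: subgroups of `A₈`. -/
import Cfsg.Agent.H73.EXP
import Cfsg.Agent.H98.Sylow

set_option autoImplicit false

namespace H56.ME
open Subgroup Equiv Equiv.Perm H45.EX H57 H73.EXP

variable {K : Subgroup P8} {σ τ : P8} {m : ℕ}

/-- the four-group on the first four points -/
def V4S : Subgroup P8 where
  carrier := {σ | V4 σ}
  one_mem' := Or.inl rfl
  mul_mem' := by rintro _ _ (rfl | rfl | rfl | rfl) (rfl | rfl | rfl | rfl) <;> decide +kernel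
  inv_mem' := by rintro _ (rfl | rfl | rfl | rfl) <;> decide +kernel

theorem card_V4S : Nat.card V4S = 4 :=
  (Nat.subtype_card {1, v1, v2, v1 * v2} fun _ => by
    simp only [Finset.mem_insert, Finset.mem_singleton]; rfl).trans (by decide +kernel)

theorem iff_of_imp {p : Fin 8 → Prop} (h : ∀ x, p x → p (σ x)) (x : Fin 8) : p (σ x) ↔ p x :=
  ⟨fun k => by simpa using perm_symm_on_of_perm_on_finite h k, h x⟩

/-- restriction to an invariant set -/
def resH (K : Subgroup P8) (p : Fin 8 → Prop) (h : ∀ σ ∈ K, ∀ x, p x → p (σ x)) :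
    K →* Perm {x // p x} :=
  MonoidHom.mk' (fun σ => σ.1.subtypePerm (iff_of_imp (h σ σ.2))) fun _ _ => rfl

theorem resH_eq_one {p : Fin 8 → Prop} {h : ∀ σ ∈ K, ∀ x, p x → p (σ x)} {σ : K} :
    resH K p h σ = 1 ↔ ∀ x, p x → σ.1 x = x :=
  ⟨fun e x hx => congrArg Subtype.val (Equiv.congr_fun e ⟨x, hx⟩),
    fun e => Equiv.ext fun x => Subtype.ext (e x x.2)⟩

theorem fix_of_stab (p : Fin 8 → Prop) [DecidablePred p] {q : ℕ} (h : ∀ x, p x → p (σ x))
    (hq : σ ^ q = 1) (hc : q.Coprime (Fintype.card {x // p x}).factorial) (x : Fin 8) (hx : p x) :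
    σ x = x := by
  let g := σ.subtypePerm (iff_of_imp h)
  have h1 : g ^ q = 1 := by rw [subtypePerm_pow]; exact Equiv.ext fun x => Subtype.ext (by simp [hq])
  have h2 := orderOf_dvd_card (x := g)
  rw [Fintype.card_perm] at h2
  have h3 : g = 1 := orderOf_eq_one_iff.1
    (Nat.eq_one_of_dvd_coprimes hc (orderOf_dvd_of_pow_eq_one h1) h2)
  exact congrArg Subtype.val (Equiv.congr_fun h3 ⟨x, hx⟩)

theorem eq_one_of_stab (n : ℕ) {q : ℕ} (h : ∀ x : Fin 8, x.val < n → (σ x).val < n) (hq : σ ^ q = 1)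
    (h1 : q.Coprime (Fintype.card {x : Fin 8 // x.val < n}).factorial)
    (h2 : q.Coprime (Fintype.card {x : Fin 8 // ¬ x.val < n}).factorial) : σ = 1 :=
  Equiv.ext fun x => (em (x.val < n)).elim (fix_of_stab _ h hq h1 x)
    (fix_of_stab (fun x => ¬ x.val < n) (fun x hx k => hx ((iff_of_imp h x).1 k)) hq h2 x)

theorem three_of (h : sign σ = 1) {x y z : Fin 8} (k : ∀ i, i ≠ x → i ≠ y → i ≠ z → σ i = i) :
    σ = 1 ∨ σ.IsThreeCycle := by
  have h1 : σ.support ⊆ {x, y, z} := fun i hi => by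
    by_contra h'
    simp only [Finset.mem_insert, Finset.mem_singleton, not_or] at h'
    exact mem_support.1 hi (k i h'.1 h'.2.1 h'.2.2)
  have h2 := (Finset.card_le_card h1).trans Finset.card_le_three
  rcases h2.eq_or_lt with e | e
  · exact .inr (card_support_eq_three_iff.1 e)
  rcases (Nat.lt_succ_iff.1 e).eq_or_lt with e | e
  · rw [(card_support_eq_two.1 e).sign_eq] at h; exact absurd h (by decide)
  · exact .inl (card_support_le_one.1 (by omega))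

theorem three_conj (h : σ.IsThreeCycle) (g : P8) : (g * σ * g⁻¹).IsThreeCycle :=
  cycleType_conj.trans h

theorem cjc (g : P8) : g * c3 * g⁻¹ = cyc (g 1) (g 2) (g 0) := conj_cyc g 1 2 0

set_option synthInstance.maxSize 2000 in
theorem v4_conj (h : ∀ x : Fin 8, x.val < 4 → (σ x).val < 4) (hv : V4 τ) : V4 (σ * τ * σ⁻¹) := by
  have k : ∀ a b c d : Fin 8, a.val < 4 → b.val < 4 → c.val < 4 → d.val < 4 → a ≠ b → a ≠ c → a ≠ d →
      b ≠ c → b ≠ d → c ≠ d → V4 (swap a b * swap c d) := by decide +kernel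
  have ne : ∀ {x y : Fin 8}, x ≠ y → σ x ≠ σ y := fun k e => k (σ.injective e)
  rcases hv with rfl | rfl | rfl | rfl
  · exact .inl (by group)
  all_goals simp only [cj1, cj2, cj3]; apply k <;> first | exact h _ (by decide) | exact ne (by decide)

theorem cen_v4 (h : Al 7 σ) (h1 : σ * v1 = v1 * σ) (h2 : σ * v2 = v2 * σ) :
    ∃ v, V4 v ∧ (v * σ = 1 ∨ (v * σ).IsThreeCycle) := by
  have e1 : ∀ x, σ (v1 x) = v1 (σ x) := fun x => by rw [← mul_apply, h1, mul_apply]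
  have e2 : ∀ x, σ (v2 x) = v2 (σ x) := fun x => by rw [← mul_apply, h2, mul_apply]
  have k : ∀ a : Fin 8, v1 a ≠ a → ∃ v ∈ [1, v1, v2, v1 * v2], V4 v ∧ v a = 0 ∧ v (v1 a) = 1 ∧
      v (v2 a) = 2 ∧ v (v1 (v2 a)) = 3 ∧ v 7 = 7 := by decide +kernel
  obtain ⟨v, -, hv, k0, k1, k2, k3, k7⟩ := k (σ 0) fun e =>
    absurd (σ.injective ((e1 0).trans e)) (by decide)
  refine ⟨v, hv, three_of (by rw [Perm.sign_mul, hv.al.1, h.1, one_mul]) (x := 4) (y := 5) (z := 6)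
    fun i i4 i5 i6 => ?_⟩
  rw [← e2, ← e1] at k3
  rw [← e1] at k1
  rw [← e2] at k2
  rw [← h.2 7 le_rfl] at k7
  obtain rfl | rfl | rfl | rfl | rfl : i = 0 ∨ i = 1 ∨ i = 2 ∨ i = 3 ∨ i = 7 := by revert i; decide
  exacts [k0, k1, k2, k3, k7.trans (h.2 7 le_rfl)]

set_option synthInstance.maxSize 2000 in
theorem meet_aux : ∀ a b c : Fin 8, a ≠ b → a ≠ c → b ≠ c → (a.val < 3 ∨ b.val < 3 ∨ c.val < 3) →
    (3 ≤ a.val ∨ 3 ≤ b.val ∨ 3 ≤ c.val) → ∃ q : Fin 8, 3 ≤ q.val ∧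
      ∃ w ∈ [cyc b c a * c3, cyc b c a * c3⁻¹, cyc b c a * c3 * (cyc b c a)⁻¹ * c3,
        cyc b c a * c3 * (cyc b c a)⁻¹ * c3⁻¹], V4 (swap 3 q * w * (swap 3 q)⁻¹) ∧ w ≠ 1 := by
  decide +kernel

/-- the involutions of `A₇` that commute with `v1` -/
def l9 : Fin 9 → P8 := ![v1, v2, v1 * v2, swap 0 1 * swap 4 5, swap 0 1 * swap 4 6, swap 0 1 * swap 5 6,
  swap 2 3 * swap 4 5, swap 2 3 * swap 4 6, swap 2 3 * swap 5 6]

set_option synthInstance.maxSize 2000 in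
theorem l9_aux : ∀ a b c d : Fin 8, a.val < 7 → b.val < 7 → c.val < 7 → d.val < 7 → a ≠ b → a ≠ c →
    a ≠ d → b ≠ c → b ≠ d → c ≠ d → swap a b * swap c d * v1 = v1 * (swap a b * swap c d) →
      ∃ i, swap a b * swap c d = l9 i := by
  decide +kernel

theorem l9_of (hm : m = 6 ∨ m = 7) (h : Al m σ) (h2 : σ * σ = 1) (h1 : σ ≠ 1) (c : σ * v1 = v1 * σ) :
    ∃ i, σ = l9 i := by
  obtain ⟨ρ, k, rfl⟩ := conj_two hm h h2 h1
  have ne : ∀ {x y : Fin 8}, x ≠ y → ρ x ≠ ρ y := fun k e => k (ρ.injective e)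
  have lt : ∀ x : Fin 8, x.val < 6 → (ρ x).val < 7 := fun x hx => by
    have := k.lt (i := x) (by omega); omega
  rw [cj1] at c ⊢
  apply l9_aux <;> first | exact c | exact lt _ (by decide) | exact ne (by decide)

theorem l9_out : ∀ i, ¬ V4 (l9 i) → (l9 i * (c3 * l9 i * c3⁻¹)).support.card = 3 ∧
    ∀ j, l9 j * l9 i = l9 i * l9 j → l9 j = v1 ∨ l9 j = l9 i ∨ l9 j = v1 * l9 i := by
  decide +kernel

theorem v4_gen {v : P8} (hv : V4 v) (h1 : v ≠ 1) (hu : V4 σ) :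
    σ = 1 ∨ σ = v ∨ σ = c3 * v * c3⁻¹ ∨ σ = c3⁻¹ * v * c3⁻¹⁻¹ := by
  rcases hv with rfl | rfl | rfl | rfl
  · exact absurd rfl h1
  all_goals rcases hu with rfl | rfl | rfl | rfl <;> decide +kernel

theorem delta' (hev : ∀ σ ∈ K, sign σ = 1) (h16 : ¬ 16 ∣ Nat.card K) (h3 : c3 ∈ K) {w : P8}
    (hw : w ∈ K) (h1 : w ≠ 1) {q : Fin 8} (hq : 3 ≤ q.val) (hv : V4 (swap 3 q * w * (swap 3 q)⁻¹)) :
    ∃ (κ : P8) (m : ℕ), κ * c3 * κ⁻¹ = c3 ∧ V4 (κ * w * κ⁻¹) ∧ 4 ≤ m ∧ m ≤ 7 ∧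
      (∀ σ, Al m σ → κ⁻¹ * σ * κ ∈ K) ∧
      (∀ σ ∈ K, ∀ i : Fin 8, i.val < m → ((κ * σ * κ⁻¹) i).val < m) ∧
      (6 ≤ m → ∀ σ ∈ K, Al m (κ * σ * κ⁻¹)) := by
  have e3 : swap 3 q * c3 * (swap 3 q)⁻¹ = c3 := by clear hv; revert q; decide +kernel
  have c' : c3 ∈ H98.cj (swap 3 q) K := e3 ▸ H98.conj_mem_cj h3
  have w' := H98.conj_mem_cj (g := swap 3 q) hw
  have w1 : swap 3 q * w * (swap 3 q)⁻¹ ≠ 1 := fun e => h1 (conj_eq_one_iff.1 e)
  have hu : ∀ u, V4 u → u ∈ H98.cj (swap 3 q) K := fun u hu => by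
    rcases v4_gen hv w1 hu with e | e | e | e <;> rw [e]
    exacts [one_mem _, w', mul_mem (mul_mem c' w') (inv_mem c'),
      mul_mem (mul_mem (inv_mem c') w') (inv_mem (inv_mem c'))]
  obtain ⟨κ, m, k1, k2, k3, k4, k5, k6⟩ := delta _ (by
    generalize swap 3 q = g
    rintro _ ⟨σ, hσ, rfl⟩; simp [hev σ hσ]) (H98.card_cj _ K ▸ h16) (hu v1 (by decide +kernel))
    (hu v2 (by decide +kernel)) c'
  have e : ∀ σ, κ * swap 3 q * σ * (κ * swap 3 q)⁻¹ = κ * (swap 3 q * σ * (swap 3 q)⁻¹) * κ⁻¹ :=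
    fun σ => by group
  refine ⟨κ * swap 3 q, m, ?_, ?_, k2, k3, fun σ hσ => ?_, fun σ hσ => ?_, fun h6 σ hσ => ?_⟩
  · rw [e, e3, cjc, k1 0 (by decide), k1 1 (by decide), k1 2 (by decide)]; rfl
  · rw [e]; exact v4_conj (fun x hx => by rwa [k1 x hx]) hv
  · simpa only [mul_inv_rev, mul_assoc] using H98.mem_cj.1 (k4 σ hσ)
  · rw [e]; exact k5 _ (H98.conj_mem_cj hσ)
  · rw [e]; exact k6 h6 _ (H98.conj_mem_cj hσ)

theorem exists_c3 (h9 : 9 ∣ Nat.card K) : ∃ g : P8, g * c3 * g⁻¹ ∈ K := by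
  have : Fact (Nat.Prime 3) := ⟨Nat.prime_three⟩
  obtain ⟨P, hP⟩ := Sylow.exists_subgroup_card_pow_prime 3 (n := 2) h9
  have h1 : Nat.card (P.map K.subtype) = 3 ^ 2 := by rw [card_map_of_injective K.subtype_injective, hP]
  have h2 := (P.map K.subtype).card_mul_index
  rw [h1, Nat.card_perm, Nat.card_fin] at h2
  have h3 : H98.IsSyl 3 (P.map K.subtype) ⊤ := H98.isSyl_of_not_dvd_relIndex le_top
    (IsPGroup.of_card h1) (by rw [relIndex_top_right]; simp only [Nat.factorial] at h2; omega)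
  obtain ⟨g, -, hg⟩ := h3.exists_cj_le (H98.isPGroup_zpowers (x := c3) (k := 1) (by decide +kernel))
    le_top
  exact ⟨g, map_subtype_le P (hg (H98.conj_mem_cj (mem_zpowers c3)))⟩

theorem not_block {f : P8} (h1 : ∀ i : Fin 8, i.val < 3 → 3 ≤ (f i).val)
    (h2 : ∀ i : Fin 8, i.val < 3 → 3 ≤ (f (f i)).val) : False := by
  have ne : ∀ {x y : Fin 8}, x ≠ y → (f x).val ≠ (f y).val := fun k e => k (f.injective (Fin.ext e))
  have ne2 : ∀ {x y : Fin 8}, x ≠ y → (f (f x)).val ≠ (f (f y)).val := fun k =>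
    ne fun e => k (f.injective e)
  have ne3 : ∀ x y : Fin 8, x.val < 3 → y.val < 3 → (f x).val ≠ (f (f y)).val := fun x y hx hy =>
    ne fun e => by have := h1 y hy; rw [← e] at this; omega
  have a0 := h1 0 (by decide); have a1 := h1 1 (by decide); have a2 := h1 2 (by decide)
  have b0 := h2 0 (by decide); have b1 := h2 1 (by decide); have b2 := h2 2 (by decide)
  have := ne (x := 0) (y := 1) (by decide); have := ne (x := 0) (y := 2) (by decide)
  have := ne (x := 1) (y := 2) (by decide); have := ne2 (x := 0) (y := 1) (by decide)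
  have := ne2 (x := 0) (y := 2) (by decide); have := ne2 (x := 1) (y := 2) (by decide)
  have := ne3 0 0 (by decide) (by decide); have := ne3 0 1 (by decide) (by decide)
  have := ne3 0 2 (by decide) (by decide); have := ne3 1 0 (by decide) (by decide)
  have := ne3 1 1 (by decide) (by decide); have := ne3 1 2 (by decide) (by decide)
  have := ne3 2 0 (by decide) (by decide); have := ne3 2 1 (by decide) (by decide)
  have := ne3 2 2 (by decide) (by decide)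
  omega

theorem a8_aux (hev : ∀ σ ∈ K, sign σ = 1) (h16 : ¬ 16 ∣ Nat.card K) (h9 : 9 ∣ Nat.card K)
    (h3 : c3 ∈ K) {f : P8} (hf : f ∈ K)
    (h57 : (orderOf f = 5 ∧ ∀ σ ∈ K, orderOf σ ≠ 15) ∨ orderOf f = 7) :
    ∃ (κ : P8) (m : ℕ), (m = 6 ∨ m = 7) ∧ ∀ σ, Al m (κ * σ * κ⁻¹) ↔ σ ∈ K := by
  have stab : ∀ g ∈ K, orderOf g = orderOf f → ¬ ∀ i : Fin 8, i.val < 3 → (g i).val < 3 :=
    fun g hg ho hs => by
    have hp := pow_orderOf_eq_one g
    rcases h57 with ⟨h5, h15⟩ | h7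
    · rw [ho, h5] at hp
      have hx := fix_of_stab (fun i => i.val < 3) hs hp (by decide)
      refine h15 _ (mul_mem h3 hg) ?_
      rw [Disjoint.orderOf fun x => (lt_or_ge x.val 3).symm.imp (fun k => by revert x; decide) (hx x),
        c3_three.orderOf, ho, h5]
      rfl
    · rw [ho, h7] at hp
      rw [eq_one_of_stab 3 hs hp (by decide) (by decide), orderOf_one, h7] at ho
      exact absurd ho (by decide)
  obtain ⟨g, hg, g1, g2⟩ : ∃ g ∈ K, (¬ ∀ i : Fin 8, i.val < 3 → (g i).val < 3) ∧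
      ¬ ∀ i : Fin 8, i.val < 3 → 3 ≤ (g i).val := by
    by_contra hn
    push Not at hn
    have e : orderOf (f * f) = orderOf f := by
      rw [← pow_two, Nat.Coprime.orderOf_pow]
      rcases h57 with ⟨h, -⟩ | h <;> rw [h] <;> decide
    exact not_block (hn f hf (by simpa using stab f hf rfl))
      (hn (f * f) (mul_mem hf hf) (by simpa using stab _ (mul_mem hf hf) e))
  have ne : ∀ {x y : Fin 8}, x ≠ y → g x ≠ g y := fun k e => k (g.injective e)
  have c012 : ∀ i : Fin 8, i.val < 3 → i = 0 ∨ i = 1 ∨ i = 2 := by decide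
  obtain ⟨q, hq, w, hw, hv, w1⟩ := meet_aux (g 0) (g 1) (g 2) (ne (by decide)) (ne (by decide))
    (ne (by decide)) (by
      by_contra hn
      exact g2 fun i hi => by rcases c012 i hi with rfl | rfl | rfl <;> omega) (by
      by_contra hn
      exact g1 fun i hi => by rcases c012 i hi with rfl | rfl | rfl <;> omega)
  have hτ : g * c3 * g⁻¹ ∈ K := mul_mem (mul_mem hg h3) (inv_mem hg)
  rw [cjc] at hτ
  have hw' : w ∈ K := by
    simp only [List.mem_cons, List.not_mem_nil, or_false] at hw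
    rcases hw with rfl | rfl | rfl | rfl
    exacts [mul_mem hτ h3, mul_mem hτ (inv_mem h3), mul_mem (mul_mem (mul_mem hτ h3) (inv_mem hτ)) h3,
      mul_mem (mul_mem (mul_mem hτ h3) (inv_mem hτ)) (inv_mem h3)]
  obtain ⟨κ, m, -, -, m4, m7, k1, k2, k3⟩ := delta' hev h16 h3 hw' w1 hq hv
  have hp : (κ * f * κ⁻¹) ^ orderOf f = 1 := by rw [conj_pow, pow_orderOf_eq_one]; group
  have f1 : κ * f * κ⁻¹ ≠ 1 := fun e => by
    rw [conj_eq_one_iff.1 e, orderOf_one] at h57; omega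
  have h6 : 6 ≤ m := by
    by_contra hn
    obtain rfl | rfl : m = 4 ∨ m = 5 := by omega
    · rcases h57 with ⟨h, -⟩ | h <;> rw [h] at hp <;>
        exact f1 (eq_one_of_stab 4 (k2 f hf) hp (by decide) (by decide))
    rcases h57 with ⟨-, h15⟩ | h
    · let φ := resH (H98.cj κ K) (fun i => i.val < 5) (by rintro _ ⟨σ, hσ, rfl⟩; exact k2 σ hσ)
      have hi : ¬ Function.Injective φ := fun hi => by
        have := h9.trans (H98.card_cj κ K ▸ card_dvd_of_injective φ hi)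
        rw [Nat.card_perm, Nat.card_eq_fintype_card] at this
        exact absurd this (by decide)
      rw [injective_iff_map_eq_one] at hi
      push Not at hi
      obtain ⟨⟨_, d, hd, rfl⟩, d1, d2⟩ := hi
      have d3 : ∀ x : Fin 8, x.val < 5 → (κ * d * κ⁻¹) x = x := resH_eq_one.1 d1
      have d4 := (three_of (σ := κ * d * κ⁻¹) (by simp [hev d hd]) (x := 5) (y := 6) (z := 7)
        fun i _ _ _ => d3 i (by revert i; decide)).resolve_left fun e => d2 (Subtype.ext e)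
      have h5 : orderOf (c3 * (swap 2 3 * swap 3 4)) = 5 :=
        haveI := Fact.mk Nat.prime_five; orderOf_eq_prime (by decide +kernel) (by decide +kernel)
      refine h15 _ (mul_mem hd (k1 (c3 * (swap 2 3 * swap 3 4)) (by decide +kernel))) ?_
      rw [← SemiconjBy.orderOf_eq κ⁻¹ (x := κ * d * κ⁻¹ * (c3 * (swap 2 3 * swap 3 4))) (by
        rw [SemiconjBy]; group), Disjoint.orderOf fun x => (lt_or_ge x.val 5).imp (d3 x)
          fun k => by revert x; decide +kernel, d4.orderOf, h5]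
      rfl
    · rw [h] at hp
      exact f1 (eq_one_of_stab 5 (k2 f hf) hp (by decide) (by decide))
  exact ⟨κ, m, by omega, fun σ => ⟨fun h => by simpa [mul_assoc] using k1 _ h, k3 h6 σ⟩⟩

/-- subgroups of order `360` and `2520` of `A₈` -/
theorem a8_sub (hev : ∀ σ ∈ K, sign σ = 1)
    (h : (Nat.card K = 360 ∧ ∀ σ ∈ K, orderOf σ ≠ 15) ∨ Nat.card K = 2520) :
    ∃ (κ : P8) (m : ℕ), (m = 6 ∨ m = 7) ∧ ∀ σ, Al m (κ * σ * κ⁻¹) ↔ σ ∈ K := by
  have h9 : 9 ∣ Nat.card K := by rcases h with ⟨h, -⟩ | h <;> rw [h] <;> decide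
  have h16 : ¬ 16 ∣ Nat.card K := by rcases h with ⟨h, -⟩ | h <;> rw [h] <;> decide
  obtain ⟨g, hg⟩ := exists_c3 h9
  have hc := H98.card_cj g⁻¹ K
  obtain ⟨f, hf, ho⟩ : ∃ f ∈ H98.cj g⁻¹ K,
      (orderOf f = 5 ∧ ∀ σ ∈ H98.cj g⁻¹ K, orderOf σ ≠ 15) ∨ orderOf f = 7 := by
    rcases h with ⟨h, h'⟩ | h
    · obtain ⟨f, hf⟩ := haveI := Fact.mk Nat.prime_five
        exists_prime_orderOf_dvd_card' (G := H98.cj g⁻¹ K) 5 (by rw [hc, h]; decide)
      refine ⟨f, f.2, .inl ⟨(orderOf_coe f).trans hf, ?_⟩⟩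
      rintro _ ⟨σ, hσ, rfl⟩ e
      exact h' σ hσ ((orderOf_injective _ (MulAut.conj g⁻¹).injective σ).symm.trans e)
    · obtain ⟨f, hf⟩ := haveI := Fact.mk (by norm_num : Nat.Prime 7)
        exists_prime_orderOf_dvd_card' (G := H98.cj g⁻¹ K) 7 (by rw [hc, h]; decide)
      exact ⟨f, f.2, .inr ((orderOf_coe f).trans hf)⟩
  obtain ⟨κ, m, hm, k⟩ := a8_aux (K := H98.cj g⁻¹ K) (by rintro _ ⟨σ, hσ, rfl⟩; simp [hev σ hσ])
    (hc ▸ h16) (hc ▸ h9) (H98.mem_cj.2 (by rwa [inv_inv])) hf ho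
  refine ⟨κ * g⁻¹, m, hm, fun σ => ?_⟩
  rw [← H98.conj_mem_cj_iff (g := g⁻¹), ← k]
  simp only [mul_assoc, mul_inv_rev]

end H56.ME
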