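/- MATH-ORD, job E0, part 2: the action of `N(W)` on eight points for `W` elementary of order 16. -/
import Cfsg.Agent.H56.MathE1
import Cfsg.Agent.H45.MSpec
import Cfsg.Agent.H49.E16D

set_option autoImplicit false

namespace H56.ME
open Subgroup Cfsg H96.CG Equiv Equiv.Perm H45.EX H57 H73.EXP

universe u
variable {G : Type u} [Group G] {W A E : Subgroup G} {π : nor W →* P8} {a b e g h t z : G} {σ τ : P8}

/-- `N(W) / W` as a group of even permutations of eight points -/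
structure PI (W : Subgroup G) (π : nor W →* P8) : Prop where
  eW : IsElementaryAbelian 2 W
  cW : Nat.card W = 16
  ker : ∀ y, π y = 1 ↔ (y : G) ∈ W
  ev : ∀ y, sign (π y) = 1
  fpf : ∀ {a σ}, Ov π a σ → σ.IsThreeCycle → ∀ e ∈ W, a * e = e * a → e = 1

theorem el_comm (h : IsElementaryAbelian 2 W) (ha : a ∈ W) (hb : b ∈ W) : a * b = b * a :=
  congrArg Subtype.val (h.1.is_comm.comm (⟨a, ha⟩ : W) ⟨b, hb⟩)

theorem el_sq (h : IsElementaryAbelian 2 W) (ha : a ∈ W) : a * a = 1 := by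
  rw [← pow_two]; exact h.2 a ha

theorem el_of_sq (h : ∀ a ∈ W, a * a = 1) : IsElementaryAbelian 2 W :=
  ⟨⟨⟨fun a b => Subtype.ext (show (a : G) * b = b * a by
    rw [eq_inv_of_mul_eq_one_left (h _ (mul_mem a.2 b.2)), mul_inv_rev,
      inv_eq_of_mul_eq_one_right (h _ a.2), inv_eq_of_mul_eq_one_right (h _ b.2)])⟩⟩,
    fun a ha => by rw [pow_two, h a ha]⟩

open scoped IsMulCommutative in
theorem exists_PI [Finite G] (eW : IsElementaryAbelian 2 W) (cW : Nat.card W = 16) (hc : cen W ≤ W) :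
    ∃ π, PI W π := by
  have := eW.1
  obtain ⟨ρ, P⟩ := H49.E16.exists_pic (W := W) (fun w => Subtype.ext (el_sq eW w.2)) cW
  refine ⟨ρ.comp W.normalizerMonoidHom, eW, cW, fun y => (map_eq_one_iff ρ P.inj).trans ?_,
    fun y => (P.ran _).2 ⟨_, rfl⟩, ?_⟩
  · rw [← MonoidHom.mem_ker, normalizerMonoidHom_ker, mem_subgroupOf]
    exact ⟨fun k => hc k, fun k x hx => el_comm eW hx k⟩
  · rintro a _ ⟨ha, rfl⟩ h3 e he k
    exact congrArg Subtype.val (P.fpf3 cW h3 ⟨e, he⟩ (Subtype.ext (mul_inv_eq_of_eq_mul k)))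

/-- the conjugate representation -/
def cp (κ : P8) (π : nor W →* P8) : nor W →* P8 := (MulAut.conj κ).toMonoidHom.comp π

theorem of_ov_cp {κ : P8} (k : Ov (cp κ π) a σ) : Ov π a (κ⁻¹ * σ * κ⁻¹⁻¹) :=
  ⟨k.1, by rw [← k.2]; change _ = κ⁻¹ * (κ * _ * κ⁻¹) * κ⁻¹⁻¹; group⟩

theorem mem_range_iff : σ ∈ π.range ↔ ∃ a, Ov π a σ :=
  ⟨fun ⟨y, e⟩ => ⟨y, y.2, e⟩, fun ⟨_, k⟩ => ⟨_, k.2⟩⟩

/-- the preimage in `G` -/
def pre (π : nor W →* P8) (S : Subgroup P8) : Subgroup G := (S.comap π).map (nor W).subtype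

theorem mem_pre {S : Subgroup P8} (k : Ov π a σ) : a ∈ pre π S ↔ σ ∈ S :=
  ⟨fun ⟨y, hy, e⟩ => by obtain rfl : y = ⟨a, k.1⟩ := Subtype.ext e; exact k.2 ▸ hy,
    fun h => ⟨⟨a, k.1⟩, show π _ ∈ S from k.2.symm ▸ h, rfl⟩⟩

theorem pre_le (S : Subgroup P8) : pre π S ≤ nor W := map_subtype_le _

theorem ov_of (π : nor W →* P8) (h : a ∈ nor W) : ∃ σ, Ov π a σ := ⟨_, h, rfl⟩

theorem nor_pre [Finite G] {S : Subgroup P8} (k : Ov π t σ) (h : ∀ v ∈ S, σ * v * σ⁻¹ ∈ S) :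
    t ∈ nor (pre π S) := mem_normalizer_fintype fun b hb => by
  obtain ⟨τ, l⟩ := ov_of π (pre_le S hb)
  exact (mem_pre ((k.mul l).mul k.inv)).2 (h _ ((mem_pre l).1 hb))

namespace PI
variable (H : PI W π)
include H

theorem conj (κ : P8) : PI W (cp κ π) :=
  ⟨H.eW, H.cW, fun y => conj_eq_one_iff.trans (H.ker y), fun y => by
    change sign (κ * π y * κ⁻¹) = 1; simp [H.ev y],
    fun k h3 => H.fpf (of_ov_cp k) (three_conj h3 _)⟩

theorem ovW (he : e ∈ W) : Ov π e 1 := ⟨le_normalizer he, (H.ker _).2 he⟩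

theorem memW (k : Ov π a 1) : a ∈ W := (H.ker ⟨a, k.1⟩).1 k.2

theorem le_pre (S : Subgroup P8) : W ≤ pre π S := fun _ he => (mem_pre (H.ovW he)).2 S.one_mem

theorem card_comap (S : Subgroup (nor W)) (h : π.ker ≤ S) : Nat.card S = 16 * Nat.card (S.map π) := by
  have e : π.ker = W.subgroupOf (nor W) := Subgroup.ext H.ker
  rw [← (π.ker.subgroupOf S).card_mul_index, Nat.card_congr (subgroupOfEquivOfLe h).toEquiv, e,
    Nat.card_congr (subgroupOfEquivOfLe le_normalizer).toEquiv, H.cW, ← e, ← relIndex_ker]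
  rfl

theorem card_pre {S : Subgroup P8} (h : S ≤ π.range) : Nat.card (pre π S) = 16 * Nat.card S := by
  rw [pre, card_map_of_injective (nor W).subtype_injective, H.card_comap _ (ker_le_comap π S),
    map_comap_eq_self h]

theorem card_nor : Nat.card (nor W) = 16 * Nat.card π.range := by
  rw [← card_top (G := nor W), H.card_comap ⊤ le_top, ← MonoidHom.range_eq_map]

theorem cube (k : Ov π a σ) (h3 : σ.IsThreeCycle) : a ^ 3 = 1 :=
  H.fpf k h3 _ (H.memW ((k.pow 3).cast (by rw [← h3.orderOf, pow_orderOf_eq_one])))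
    (Commute.self_pow a 3)

theorem four_le [Finite G] (k : Ov π a σ) (h2 : σ * σ = 1) : 4 ≤ Nat.card (W ⊓ cen1 a : Subgroup G) := by
  have ha := H.memW ((k.mul k).cast h2)
  let f : W →* W := MonoidHom.mk' (fun e => ⟨e * (a * e * a⁻¹), mul_mem e.2 (k.conj e.2)⟩)
    fun x y => Subtype.ext (by
      change (x : G) * y * (a * (x * y) * a⁻¹) = x * (a * x * a⁻¹) * (y * (a * y * a⁻¹))
      rw [mul_assoc (x : G) (a * x * a⁻¹), ← mul_assoc (a * x * a⁻¹), el_comm H.eW (k.conj x.2) y.2]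
      group)
  have h1 : f.ker ≤ (W ⊓ cen1 a).subgroupOf W := fun e he => ⟨e.2, mem_centralizer_singleton_iff.2 (by
    have e1 : (e : G) * (a * e * a⁻¹) = 1 := he |> congrArg Subtype.val
    rw [← el_sq H.eW e.2, mul_right_inj] at e1
    exact (eq_mul_of_mul_inv_eq e1).symm)⟩
  have h3 : f.range ≤ (W ⊓ cen1 a).subgroupOf W := by
    rintro _ ⟨e, rfl⟩
    refine ⟨(f e).2, mem_centralizer_singleton_iff.2 ?_⟩
    change (e : G) * (a * e * a⁻¹) * a = a * (e * (a * e * a⁻¹))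
    rw [el_comm H.eW e.2 (k.conj e.2)]
    calc _ = a * e * a⁻¹ * (e * (a * a)) * a⁻¹ := by group
      _ = _ := by rw [el_comm H.eW e.2 ha, ← el_comm H.eW e.2 (k.conj e.2)]; group
  have h4 := card_le_of_le h1
  have h5 := card_le_of_le h3
  rw [Nat.card_congr (subgroupOfEquivOfLe inf_le_left).toEquiv] at h4 h5
  have h6 := f.ker.card_mul_index
  rw [index_ker, H.cW] at h6
  nlinarith

theorem card_four [Finite G] (k : Ov π a σ) (l : Ov π b τ) (h1 : σ * σ = 1) (h2 : τ * τ = 1)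
    (h3 : (σ * τ).IsThreeCycle) : Nat.card (W ⊓ cen1 a : Subgroup G) = 4 := by
  have e := H99.card_sup_mul_card_inf_of_le_normalizer (H := W ⊓ cen1 a) (K := W ⊓ cen1 b)
    fun x hx => centralizer_le_normalizer _ fun y hy => el_comm H.eW hy.1 hx.1
  have e1 : W ⊓ cen1 a ⊓ (W ⊓ cen1 b) = ⊥ := eq_bot_iff.2 fun x hx => H.fpf (k.mul l) h3 x hx.1.1
    (Commute.mul_left (mem_centralizer_singleton_iff.1 hx.1.2).symm
      (mem_centralizer_singleton_iff.1 hx.2.2).symm)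
  have e2 := card_le_of_le (sup_le inf_le_left inf_le_left : W ⊓ cen1 a ⊔ W ⊓ cen1 b ≤ W)
  have e3 := H.four_le k h1
  have e4 := H.four_le l h2
  rw [e1, card_bot] at e
  rw [H.cW] at e2
  nlinarith

theorem not_nor [Finite G] (lift : ∀ σ, Al 6 σ → ∃ a, Ov π a σ) (eA : IsElementaryAbelian 2 A)
    (hA : A ≤ nor W) (pA : A ⊔ W = pre π V4S) (h1 : z ∈ A) (h2 : z ∈ W) (hz : z ≠ 1) :
    ∃ y ∈ nor W, y ∈ cen1 z ∧ y ∉ nor (A ⊔ W) := by
  obtain ⟨g, hg⟩ := lift (swap 0 5 * swap 1 2) (by decide +kernel)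
  obtain ⟨y, ρ, hy, h5, e⟩ := trans15 eA H.cW hA H.ker (fun y => pA ▸ mem_pre ⟨y.2, rfl⟩)
    (fun σ k => lift σ (k.mono (by norm_num))) (fun _ _ k k' => H.fpf k k') h1 h2 hz (hg.conj h2)
    fun e => hz (conj_eq_one_iff.1 e)
  have k := hy.inv.mul hg
  refine ⟨_, k.1, mem_centralizer_singleton_iff.2 ?_, fun hn => ?_⟩
  · calc _ = y⁻¹ * (g * z * g⁻¹) * g := by group
      _ = _ := by rw [← e]; group
  · obtain ⟨b, hb⟩ := lift v1 (by decide +kernel)
    rw [pA] at hn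
    have := V4.al ((mem_pre ((k.mul hb).mul k.inv)).1
      ((mem_normalizer_iff.1 hn b).1 ((mem_pre hb).2 (.inr (.inl rfl)))))
    have := ((h5.mul (this.mono (by norm_num))).mul h5.inv).2 5 le_rfl
    simp only [mul_inv_rev, inv_inv, mul_assoc, mul_inv_cancel_left, mul_inv_cancel, mul_one] at this
    exact absurd this (by decide +kernel)

end PI

theorem exists_al [Finite G] (H : E0 E) : ∃ (m : ℕ) (π : nor E →* P8), PI E π ∧ (m = 6 ∨ m = 7) ∧
    ∀ σ, σ ∈ π.range ↔ Al m σ := by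
  obtain ⟨π, P⟩ := exists_PI H.eE H.cE H.cenE
  have hc := P.card_nor
  obtain ⟨κ, m, hm, k⟩ := a8_sub (K := π.range) (by rintro _ ⟨y, rfl⟩; exact P.ev y)
    (H.ord.imp (fun ⟨h1, h2⟩ => ⟨by omega, by
      rintro _ ⟨y, rfl⟩ e
      have hd := e ▸ orderOf_map_dvd π y
      exact h2 _ (y ^ (orderOf y / 15)).2 ((orderOf_coe _).trans
        (orderOf_pow_orderOf_div (orderOf_pos y).ne' hd))⟩) fun h => by omega)
  refine ⟨m, cp κ π, P.conj κ, hm, fun σ => ⟨?_, fun h => ?_⟩⟩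
  · rintro ⟨y, rfl⟩
    exact (k _).2 ⟨y, rfl⟩
  · obtain ⟨y, e⟩ := (k (κ⁻¹ * σ * κ)).1 (by simpa [mul_assoc] using h)
    exact ⟨y, show κ * π y * κ⁻¹ = σ by rw [e]; group⟩

end H56.ME
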