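/- MATH-ORD, job E0, part 3: the second elementary abelian group. -/
import Cfsg.Agent.H56.MathE2
import Cfsg.Agent.H98.Coprime
import Cfsg.Agent.H83.OrdA

set_option autoImplicit false

namespace H56.ME
open Subgroup Cfsg H96.CG Equiv Equiv.Perm H45.EX H57 H73.EXP H49.E16
open H98 (cj)

universe u
variable {G : Type u} [Group G] [Finite G] {U E : Subgroup G} {π : nor E →* P8} {m : ℕ}
  {a b e g h x : G} {σ : P8}

/-- the picture with lifts of the three-cycle and of the double transposition -/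
structure C1 (E : Subgroup G) (π : nor E →* P8) (m : ℕ) (h b : G) : Prop extends PI E π where
  hm : m = 6 ∨ m = 7
  ran : ∀ σ, σ ∈ π.range ↔ Al m σ
  oh : Ov π h c3
  ob : Ov π b v1
  bb : b * b = 1

/-- the second elementary abelian group -/
def sec (π : nor E →* P8) (b : G) : Subgroup G := pre π V4S ⊓ cen1 b

namespace C1
variable (H : C1 E π m h b)
include H

omit [Finite G] in
theorem lift (k : Al m σ) : ∃ a, Ov π a σ := mem_range_iff.1 ((H.ran σ).2 k)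

omit [Finite G] in
theorem al (k : Ov π a σ) : Al m σ := (H.ran σ).1 (mem_range_iff.2 ⟨a, k⟩)

omit [Finite G] in
theorem mono {j : ℕ} (hj : j ≤ 6) (k : Al j σ) : Al m σ := k.mono (by have := H.hm; omega)

theorem c4 (k : Ov π a σ) (h2 : σ * σ = 1) (h1 : σ ≠ 1) : Nat.card (E ⊓ cen1 a : Subgroup G) = 4 := by
  obtain ⟨ρ, l, rfl⟩ := conj_two H.hm (H.al k) h2 h1
  obtain ⟨c, hc⟩ := H.lift ((l.mul (H.mono (j := 5) (by norm_num) (σ := τ4) (by decide +kernel))).mul l.inv)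
  exact H.card_four k hc h2 (by rw [conj_mul, conj_eq_one_iff]; decide +kernel) (by
    rw [conj_mul]; exact three_conj (card_support_eq_three_iff.1 (by decide +kernel)) ρ)

omit [Finite G] in
theorem cB : Nat.card (pre π V4S) = 64 := by
  rw [H.card_pre fun σ k => (H.ran σ).2 (H.mono (by norm_num) (V4.al k)), card_V4S]

theorem hB : h ∈ nor (pre π V4S) := nor_pre H.oh fun _ => v4_conj (by decide +kernel)

theorem hZ : h ∈ nor (E ⊓ cen (pre π V4S) : Subgroup G) :=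
  inf_normalizer_le_normalizer_inf ⟨H.oh.1, H98.normalizer_le_normalizer_centralizer _ H.hB⟩

/-- the fixed points of an element of `B` outside `E` -/
theorem fixZ (ha : a ∈ pre π V4S) (h1 : a ∉ E) : E ⊓ cen (pre π V4S) = E ⊓ cen1 a := by
  have := Fact.mk Nat.prime_two
  have := Fact.mk Nat.prime_three
  obtain ⟨σ, k⟩ := ov_of π (pre_le _ ha)
  have h2 := H.c4 k (by rcases (mem_pre k).1 ha with rfl | rfl | rfl | rfl <;> decide +kernel)
    fun e => h1 (H.memW (k.cast e))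
  have h3 : E ⊓ cen (pre π V4S) ≤ E ⊓ cen1 a :=
    inf_le_inf_left E (centralizer_le (Set.singleton_subset_iff.2 ha))
  have h4 := H98.inf_centralizer_ne_bot (p := 2) (Q := E) (.of_card (n := 4) H.cW)
    (.of_card (n := 6) H.cB) (pre_le _) fun e => by simpa [e] using H.cW
  have h5 := H83.Ord.conj_modEq (H.cube H.oh c3_three) H.hZ
  rw [show E ⊓ cen (pre π V4S) ⊓ cen1 h = ⊥ from eq_bot_iff.2 fun x hx =>
    H.fpf H.oh c3_three x hx.1.1 (mem_centralizer_singleton_iff.1 hx.2).symm, card_bot] at h5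
  have h6 := card_le_of_le h3
  have h7 := card_eq_one.not.2 h4
  have h8 : 0 < Nat.card (E ⊓ cen (pre π V4S) : Subgroup G) := Nat.card_pos
  refine eq_of_le_of_card_ge h3 ?_
  rw [h2] at h6 ⊢
  unfold Nat.ModEq at h5
  generalize Nat.card (E ⊓ cen (pre π V4S) : Subgroup G) = n at h5 h6 h7 h8 ⊢
  omega

omit [Finite G] in
theorem bB : b ∈ pre π V4S := (mem_pre H.ob).2 (.inr (.inl rfl))

omit [Finite G] in
theorem bE : b ∉ E := fun k => absurd (H.ob.uniq (H.ovW k)) (by decide +kernel)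

omit [Finite G] in
theorem liftA (k : V4 σ) : ∃ w ∈ sec π b, Ov π w σ ∧ w * w = 1 := by
  have h3 := H.cube H.oh c3_three
  have h4 := H.cube (H.ob.mul H.oh) (card_support_eq_three_iff.1 (by decide +kernel))
  have sq : ∀ g : G, g * b * g⁻¹ * (g * b * g⁻¹) = 1 := fun g => by rw [conj_mul, H.bb]; group
  have e : b * (h * b * h⁻¹) = h * h * b * (h * h)⁻¹ := by
    rw [← inv_eq_of_mul_eq_one_right (sq (h * h))]
    refine eq_inv_of_mul_eq_one_left ?_
    calc _ = (b * h) ^ 3 * (h ^ 3)⁻¹ := by rw [pow_three, pow_three]; group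
      _ = 1 := by rw [h3, h4]; group
  have c : h * b * h⁻¹ * b = b * (h * b * h⁻¹) := by
    rw [eq_inv_of_mul_eq_one_left (e ▸ sq (h * h) : b * (h * b * h⁻¹) * (b * (h * b * h⁻¹)) = 1),
      mul_inv_rev, inv_eq_of_mul_eq_one_right (sq h), inv_eq_of_mul_eq_one_right H.bb]
  have o := (H.oh.mul H.ob).mul H.oh.inv
  have mk : ∀ {w τ}, Ov π w τ → V4 τ → w * b = b * w → w ∈ sec π b := fun k1 k2 k3 =>
    ⟨(mem_pre k1).2 k2, mem_centralizer_singleton_iff.2 k3⟩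
  have k' : σ = 1 ∨ σ = v1 ∨ σ = c3 * v1 * c3⁻¹ ∨ σ = v1 * (c3 * v1 * c3⁻¹) := by
    rcases k with rfl | rfl | rfl | rfl <;> decide +kernel
  rcases k' with rfl | rfl | rfl | rfl
  · exact ⟨1, one_mem _, Ov.one, one_mul 1⟩
  · exact ⟨b, mk H.ob k rfl, H.ob, H.bb⟩
  · exact ⟨_, mk o k c, o, sq h⟩
  · exact ⟨_, mk (H.ob.mul o) k (by rw [mul_assoc, c]), H.ob.mul o, e ▸ sq (h * h)⟩

theorem AZ : sec π b ⊓ E = E ⊓ cen (pre π V4S) := by
  rw [H.fixZ H.bB H.bE]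
  exact le_antisymm (fun x hx => ⟨hx.2, hx.1.2⟩) fun x hx => ⟨⟨H.le_pre _ hx.1, hx.2⟩, hx.1⟩

omit [Finite G] in
theorem AB : sec π b ⊔ E = pre π V4S := by
  refine le_antisymm (sup_le inf_le_left (H.le_pre _)) fun x hx => ?_
  obtain ⟨σ, k⟩ := ov_of π (pre_le _ hx)
  obtain ⟨w, hw, o, -⟩ := H.liftA ((mem_pre k).1 hx)
  rw [← mul_inv_cancel_left w x]
  exact mul_mem_sup hw (H.memW ((o.inv.mul k).cast (inv_mul_cancel σ)))

theorem pr (hc : cen E ≤ E) : Pr (sec π b) E := by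
  have AE : sec π b ≤ nor E := inf_le_left.trans (pre_le _)
  have cZ : Nat.card (sec π b ⊓ E : Subgroup G) = 4 := by
    rw [H.AZ, H.fixZ H.bB H.bE, H.c4 H.ob (by decide +kernel) (by decide +kernel)]
  refine ⟨el_of_sq fun x hx => ?_, H.eW, ?_, H.cW, cZ, AE, hc, fun a ha k e he c =>
    (H.AZ.ge ((H.fixZ ha.1 k).ge ⟨he, mem_centralizer_singleton_iff.2 c.symm⟩)).1⟩
  · obtain ⟨σ, k⟩ := ov_of π (AE hx)
    obtain ⟨w, hw, o, ww⟩ := H.liftA ((mem_pre k).1 hx.1)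
    have h1 := H.AZ.le (mem_inf.2 ⟨mul_mem (inv_mem hw) hx,
      H.memW ((o.inv.mul k).cast (inv_mul_cancel σ))⟩)
    rw [← mul_inv_cancel_left w x]
    generalize w⁻¹ * x = e at h1
    calc _ = w * (e * w) * e := by group
      _ = 1 := by rw [← h1.2 w hw.1, ← mul_assoc, ww, one_mul, el_sq H.eW h1.1]
  · have := H99.card_sup_mul_card_inf_of_le_normalizer AE
    rw [H.AB, H.cB, cZ, H.cW] at this
    omega

omit [Finite G] in
theorem pA (y : nor E) : (y : G) ∈ sec π b ⊔ E ↔ V4 (π y) := H.AB ▸ mem_pre ⟨y.2, rfl⟩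

theorem cenA (hc : cen E ≤ E) (k : cen (sec π b) ≤ nor E) : cen (sec π b) ≤ sec π b := fun c hc' => by
  obtain ⟨σ, o⟩ := ov_of π (k hc')
  have cm : ∀ v, V4 v → σ * v = v * σ := fun v hv => by
    obtain ⟨w, hw, o', -⟩ := H.liftA hv
    exact (o.mul o').uniq (hc' w hw ▸ o'.mul o)
  obtain ⟨v, hv, e⟩ := cen_v4 ((H.al o).mono (by have := H.hm; omega)) (cm v1 (by decide +kernel))
    (cm v2 (by decide +kernel))
  obtain ⟨w, hw, o', -⟩ := H.liftA hv
  have P := H.pr hc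
  obtain ⟨z, zA, zE, z1⟩ := P.exZ
  obtain ⟨a, ha, aE⟩ := P.exA
  rcases e with e | e
  · exact (mul_mem_cancel_left hw).1 (P.fixE a ha aE _ (H.memW ((o'.mul o).cast e))
      (Commute.mul_right (comm_of P.eA ha hw) (hc' a ha)))
  · exact (z1 (H.fpf (o'.mul o) e z zE (Commute.mul_left (comm_of P.eA hw zA) (hc' z zA).symm))).elim

theorem eqA (hc : cen E ≤ E) (eU : IsElementaryAbelian 2 U) (cU : Nat.card U = 16) (UE : U ≤ nor E)
    (ha : a ∈ U) (o : Ov π a v1) : U = sec π b := by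
  have P := H.pr hc
  have aE : a ∉ E := fun k => absurd (o.uniq (H.ovW k)) (by decide +kernel)
  have fz := H.fixZ ((mem_pre o).2 (.inr (.inl rfl))) aE
  have UZ : U ⊓ E ≤ E ⊓ cen (pre π V4S) := fun x hx =>
    fz.ge ⟨hx.2, mem_centralizer_singleton_iff.2 (el_comm eU hx.1 ha)⟩
  have l : ∀ x ∈ U, ∀ {σ}, Ov π x σ → σ = 1 ∨ ∃ i, σ = l9 i := fun x hx σ k =>
    or_iff_not_imp_left.2 fun h1 => l9_of H.hm (H.al k) ((k.mul k).uniq (el_sq eU hx ▸ Ov.one)) h1
      ((k.mul o).uniq (el_comm eU hx ha ▸ o.mul k))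
  refine eq_of_le_of_card_ge (fun x hx => ?_) (cU.ge.trans' P.cA.le)
  by_cases xE : x ∈ E
  · exact (H.AZ.ge (UZ ⟨hx, xE⟩)).1
  obtain ⟨σ, k⟩ := ov_of π (UE hx)
  refine P.inv' (H.AB ▸ (mem_pre k).2 (by_contra fun hv => ?_)) (el_sq eU hx) xE
  obtain ⟨i, rfl⟩ := (l x hx k).resolve_left fun e => hv (.inl e)
  obtain ⟨h1, h2⟩ := l9_out i hv
  let f : U →* P8 := π.comp (inclusion UE)
  have h3 := f.ker.card_mul_index
  have h4 : (f.range : Set P8).ncard ≤ 4 := (Set.ncard_le_ncard (s := f.range)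
    (t := {1, v1, l9 i, v1 * l9 i}) (by
      rintro _ ⟨y, rfl⟩
      have k' : Ov π (y : G) (f y) := ⟨UE y.2, rfl⟩
      rcases l y y.2 k' with e | ⟨j, e⟩
      · exact .inl e
      · exact .inr (e ▸ h2 j (e ▸ (k'.mul k).uniq (el_comm eU y.2 hx ▸ k.mul k'))))).trans
    ((Set.ncard_insert_le _ _).trans (Nat.succ_le_succ ((Set.ncard_insert_le _ _).trans
      (Nat.succ_le_succ ((Set.ncard_insert_le _ _).trans (by simp))))))
  replace h4 : Nat.card f.range ≤ 4 := h4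
  rw [index_ker, cU, show f.ker = (U ⊓ E).subgroupOf U from ext fun y =>
    (H.ker _).trans ⟨fun e => ⟨y.2, e⟩, fun e => e.2⟩,
    Nat.card_congr (subgroupOfEquivOfLe inf_le_left).toEquiv] at h3
  have h5 := eq_of_le_of_card_ge UZ (by rw [← H.AZ, P.cZ]; nlinarith)
  obtain ⟨z, zA, zE, z1⟩ := P.exZ
  have h6 := H.AZ.le ⟨zA, zE⟩
  have h7 := el_comm eU hx (h5.ge ((mem_normalizer_iff.1 (inv_mem H.hZ) z).1 h6)).1
  refine z1 (H.fpf (k.mul ((H.oh.mul k).mul H.oh.inv)) (card_support_eq_three_iff.1 h1) z zE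
    (Commute.mul_left (el_comm eU hx (h5.ge h6).1) ?_))
  change _ = _
  calc _ = h * (x * (h⁻¹ * z * h⁻¹⁻¹)) * h⁻¹ := by group
    _ = _ := by rw [h7]; group

theorem two (hc : cen E ≤ E) (eU : IsElementaryAbelian 2 U) (cU : Nat.card U = 16) (UE : U ≤ nor E)
    (ha : a ∈ U) (aE : a ∉ E) : ∃ n ∈ nor E, cj n U = sec π b := by
  obtain ⟨σ, k⟩ := ov_of π (UE ha)
  obtain ⟨ρ, l, rfl⟩ := conj_two H.hm (H.al k) ((k.mul k).uniq (el_sq eU ha ▸ Ov.one))
    fun e => aE (H.memW (k.cast e))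
  obtain ⟨n, o⟩ := H.lift l.inv
  refine ⟨n, o.1, H.eqA hc (el_of_sq ?_) ((H98.card_cj n U).trans cU) (H98.cj_le_of_le_of_mem UE o.1)
    (H98.conj_mem_cj ha) (((o.mul k).mul o.inv).cast (by group))⟩
  rintro _ ⟨y, hy, rfl⟩
  rw [← map_mul, el_sq eU hy, map_one]

theorem m1 (K : E0 E) : M1 (sec π b) E := by
  have P := H.pr K.cenE
  obtain ⟨z, zA, zE, z1⟩ := P.exZ
  have cz := K.cz z zE z1
  have ti : ∀ g, ∀ e ∈ E, e ≠ 1 → g * e * g⁻¹ ∈ E → g ∈ nor E := fun g e he e1 k => by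
    have t := fun {e} => trans15 (e := e) P.eA P.cE P.AE H.ker H.pA
      (fun σ k => H.lift (H.mono (by norm_num) k)) (fun _ _ => H.fpf) zA zE z1
    obtain ⟨y, _, hy, -, rfl⟩ := t he e1
    obtain ⟨y', _, hy', -, e'⟩ := t k (by simpa using z1)
    have : y'⁻¹ * g * y ∈ nor E := cz (mem_centralizer_singleton_iff.2 (by
      calc _ = y'⁻¹ * (g * (y * z * y⁻¹) * g⁻¹) * (g * y) := by group
        _ = _ := by rw [← e']; group))
    exact (mul_mem_cancel_left (inv_mem hy'.1)).1 ((mul_mem_cancel_right hy.1).1 this)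
  refine ⟨P, H.cenA K.cenE fun c hc => cz (mem_centralizer_singleton_iff.2 (hc z zA).symm), ti, K.odd,
    by rcases K.ord with ⟨e, -⟩ | e <;> rw [e] <;> decide, ?_, z, zA, zE, z1, fun k => ?_⟩
  · obtain ⟨a, ha, aE⟩ := P.exA
    obtain ⟨g, e⟩ := isConj_iff.1 (K.one a z
      (orderOf_eq_prime (by rw [pow_two, sq_of P.eA ha]) fun e => aE (e ▸ one_mem _))
      (orderOf_eq_prime (by rw [pow_two, sq_of P.eA zA]) z1))
    have ng : g ∉ nor E := fun k => aE ((mem_normalizer_iff.1 k a).2 (e ▸ zE))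
    obtain ⟨n, hn, k⟩ := H.two K.cenE (U := cj g (sec π b)) (el_of_sq (by
        rintro _ ⟨y, hy, rfl⟩
        rw [← map_mul, sq_of P.eA hy, map_one])) ((H98.card_cj g _).trans P.cA) (by
        rintro _ ⟨y, hy, rfl⟩
        exact cz (mem_centralizer_singleton_iff.2
          (e ▸ (show Commute y a from comm_of P.eA hy ha).conj g)))
      (H98.conj_mem_cj zA) fun k => ng (ti g z zE z1 k)
    rw [H98.cj_cj, H98.cj_eq_self_iff] at k
    exact ⟨_, k, fun k' => ng ((mul_mem_cancel_left hn).1 k')⟩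
  · obtain ⟨y, -, h1, h2⟩ := H.not_nor (fun σ k => H.lift (H.mono le_rfl k)) P.eA P.AE H.AB zA zE z1
    exact h2 (k h1)

end C1

theorem jobE0 : JobE0.{u} := by
  intro G _ _ E K
  obtain ⟨m, π, P, hm, ran⟩ := exists_al K
  obtain ⟨t, ht, tE, tt⟩ := K.out
  obtain ⟨σ, k⟩ := ov_of π ht
  obtain ⟨ρ, l, rfl⟩ := conj_two hm ((ran σ).1 (mem_range_iff.2 ⟨t, k⟩))
    ((k.mul k).uniq (tt ▸ Ov.one)) fun e => tE (P.memW (k.cast e))
  obtain ⟨n, o⟩ := mem_range_iff.1 ((ran _).2 l.inv)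
  obtain ⟨h, oh⟩ := mem_range_iff.1 ((ran c3).2 (Al.mono (j := 3) (by decide +kernel) (by omega)))
  exact ⟨_, (C1.m1 ⟨P, hm, ran, oh, ((o.mul k).mul o.inv).cast (by group),
    by rw [conj_mul, tt]; group⟩ K).ma⟩

end H56.ME
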