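import Cfsg.Agent.H56.TeTB
import Cfsg.Agent.H64.SGFE
import Cfsg.Agent.S1063

/-! STD-2E6, slot FT: the fixed points of a field involution of `E₆(q²)` are not involved in
`²E₆(q)`. -/

set_option autoImplicit false
set_option linter.unusedSectionVars false

namespace H56.TeFT

open Cfsg.Lie H63 H65 H64 H64.SG H68 H46.SF Subgroup H78.TE H37.Sg H64.SGE

theorem arith {q a b d₁ d₂ : ℕ} (hq : 2 ≤ q) (he : Even q) (h1 : d₁ ≤ 3) (h0 : 0 < d₁)
    (ha : d₁ * a = q ^ 36 * (q ^ 2 - 1) * (q ^ 5 - 1) * (q ^ 6 - 1) * (q ^ 8 - 1) * (q ^ 9 - 1) * (q ^ 12 - 1))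
    (hb : d₂ * b = q ^ 36 * ((q ^ 2 - 1) * (q ^ 5 + 1) * (q ^ 6 - 1) * (q ^ 8 - 1) * (q ^ 9 + 1) *
      (q ^ 12 - 1))) : ¬ a ∣ b := by
  rintro ⟨k, rfl⟩
  have p : ∀ n, 0 < n → 0 < q ^ n - 1 := fun n hn =>
    Nat.sub_pos_of_lt (Nat.one_lt_pow hn.ne' hq)
  have h2 : d₁ * (q ^ 5 + 1) * (q ^ 9 + 1) = (q ^ 9 - 1) * (d₂ * k * (q ^ 5 - 1)) := by
    refine Nat.eq_of_mul_eq_mul_left (n := q ^ 36 * ((q ^ 2 - 1) * (q ^ 6 - 1) * (q ^ 8 - 1) * (q ^ 12 - 1)))
      (Nat.mul_pos (pow_pos (by omega : 0 < q) _) (Nat.mul_pos (Nat.mul_pos (Nat.mul_pos (p 2 (by decide))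
        (p 6 (by decide))) (p 8 (by decide))) (p 12 (by decide)))) ?_
    calc _ = d₁ * (d₂ * (a * k)) := by rw [hb]; ring
      _ = d₂ * k * (d₁ * a) := by ring
      _ = _ := by rw [ha]; ring
  have h3 : Nat.Coprime (q ^ 9 - 1) (q ^ 9 + 1) := by
    have h4 : q ^ 9 + 1 = 2 + (q ^ 9 - 1) := by have := p 9 (by decide); omega
    rw [h4, Nat.coprime_add_self_right, Nat.coprime_two_right]
    exact Nat.Even.sub_odd (Nat.one_le_pow _ _ (by omega)) ((Nat.even_pow' (by decide)).2 he) odd_one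
  have h4 := Nat.le_of_dvd (by positivity) (h3.dvd_of_dvd_mul_right ⟨_, h2⟩)
  have h5 : 16 * q ^ 5 ≤ q ^ 9 := by
    rw [show q ^ 9 = q ^ 4 * q ^ 5 by ring]
    exact Nat.mul_le_mul_right _ (Nat.pow_le_pow_left hq 4)
  have h6 : d₁ * (q ^ 5 + 1) ≤ 3 * (q ^ 5 + 1) := Nat.mul_le_mul_right _ h1
  have h7 := p 5 (by decide)
  omega

theorem jobFT : JobFT := by
  intro F K _ _ _ _ _ _ T B τ α e h1 h2
  obtain ⟨g, d, ω, π, σ, a, w1, w2, w3, -, w5⟩ := nf e6 τ e fun g hg => h1 (hg ▸ (ty_conj τ g).1)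
  have b1 : τ.fl (diagAut E6 d * MulAut.conj g) = 1 := by
    rw [map_mul, (ty_conj τ g).1, mul_one]
    exact (τ.spec _ 1 id d (RingEquiv.refl K) (by simpa using dat_diagAut d)).1
  generalize diagAut E6 d * MulAut.conj g = β at w5 b1
  obtain rfl : τ.fl α = σ := by
    have := congrArg τ.fl w5
    simp only [map_mul, map_inv, b1, (ty_conj τ _).1, one_mul, mul_one, inv_one] at this
    exact this.trans (τ.spec ω 1 π 1 σ (by simpa using w1)).1
  have b2 : τ.gr ω = 1 := by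
    simpa [map_mul, map_inv, (ty_conj τ _).2, h2] using (congrArg τ.gr w5).symm
  obtain rfl := w3.resolve_left h1
  have b3 : τ.fl α = T.σ := by
    refine (H30.Sf.aut_two T.ss ?_ (sq_dt e6 w1 w2).2).resolve_left h1
    by_contra! h
    have h3 := Nat.card_le_card_of_surjective T.ι fun a => (T.fix a).1 (h a)
    have h4 : 1 < Nat.card F := Finite.one_lt_card
    rw [T.card] at h3
    nlinarith
  have b4 : ∀ (r : Rt E6) c, β⁻¹ (xG E6 K r (T.ι c)) ∈ fx α := fun r c => by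
    have : α = β⁻¹ * (ω * MulAut.conj (xG E6 K (hi E6) 0)) * β := by rw [← w5]; group
    rw [mem_fx]
    nth_rewrite 1 [this]
    simp [std1' τ w1, rh_apply, b2, b3, T.fi, (stY K).toSt.x_zero]
  have st : StB E6 fun r t => β⁻¹ (xG E6 K r t) :=
    stB_of_injective β.toMonoidHom β.injective (by simpa using stY K)
  let φ : YY F →* YY K := β⁻¹.toMonoidHom.comp (mapG E6 T.ι)
  have hφ : Function.Injective φ := β⁻¹.injective.comp (mapG_injective T.ι)
  have hS : closure {y | ∃ (r : Rt E6) (c : F), y = β⁻¹ (xG E6 K r (T.ι c))} = φ.range := by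
    refine le_antisymm ((closure_le _).2 ?_) ?_
    · rintro _ ⟨r, c, rfl⟩
      exact ⟨xG E6 F r c, by simp [φ]⟩
    · rw [MonoidHom.range_eq_map, ← GG_xG, map_le_iff_le_comap]
      exact GG_le fun r c => subset_closure ⟨r, c, by simp [φ]⟩
  refine ⟨{y | ∃ (r : Rt E6) (c : F), y = β⁻¹ (xG E6 K r (T.ι c))}, ?_, ?_, ?_⟩
  · rintro _ ⟨u, c, rfl⟩
    obtain ⟨r, s, h⟩ := e6.exists_sum u
    refine ⟨is2_of_sq (by rw [← map_mul, ← xE_add, CharTwo.add_self_eq_zero, xE_zero, map_one]), ?_⟩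
    exact mem_O2_of_add e6 st.toStN h (by simpa using b4 r 1) (by simpa using b4 (negR r) 1) (b4 s c)
  · rw [hS, eq_bot_iff]
    rintro _ ⟨⟨y, rfl⟩, hy⟩
    rw [mem_bot, (ad E6 F).conj_injective (a₁ := y) (a₂ := 1) ?_, map_one]
    ext1 z
    rw [map_one, MulAut.conj_apply, MulAut.one_apply, mul_inv_eq_iff_eq_mul]
    exact hφ (by rw [map_mul, map_mul]; exact (hy _ ⟨z, rfl⟩).symm)
  · have := Fintype.ofFinite F
    obtain ⟨n, hn, hq⟩ := H56.TeTB.two_pow F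
    rw [hS, ← Nat.card_congr (MonoidHom.ofInjective hφ).toEquiv]
    exact arith Finite.one_lt_card (hq ▸ (Nat.even_pow' hn.ne').2 even_two)
      (Nat.gcd_le_left _ (by decide)) (Nat.gcd_pos_of_pos_left _ (by decide))
      (Cfsg.Agent.S1063.result Nat.card_eq_fintype_card.symm) B.card

end H56.TeFT
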