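import Cfsg.Agent.H78.TEDef
import Cfsg.Agent.H30.SfA

/-! STD-2E6, slot TB: basic facts on `X = ²E₆(q)`. -/

set_option autoImplicit false
set_option linter.unusedSectionVars false

namespace H56.TeTB

open Cfsg.Lie H63 H65 H64 H64.SG H68 H46.SF Subgroup H78.TE

variable {F K : Type} [Field F] [Finite F] [CharP F 2] [Field K] [Finite K] [CharP K 2] (T : Qd F K)

theorem two_pow (F : Type) [Field F] [Finite F] [CharP F 2] : ∃ n, 0 < n ∧ Nat.card F = 2 ^ n := by
  have := Fintype.ofFinite F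
  obtain ⟨n, -, hn⟩ := FiniteField.card F 2
  exact ⟨n, n.2, by rw [Nat.card_eq_fintype_card, hn]⟩

theorem pp (F : Type) [Field F] [Finite F] : IsPrimePow (Nat.card F) := by
  have := Fintype.ofFinite F
  rw [Nat.card_eq_fintype_card]
  exact FiniteField.isPrimePow_card F

theorem frob (a : K) : T.σ a = a ^ Nat.card F := by
  have := Fintype.ofFinite F
  have := Fintype.ofFinite K
  have hK : Fintype.card K = Nat.card F ^ 2 := by rw [← T.card, Nat.card_eq_fintype_card]
  obtain ⟨f, hf⟩ := H68.exists_frob (pp F) hK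
  have hb : Function.Bijective f := Finite.injective_iff_bijective.1 f.injective
  have q1 : 1 < Nat.card F := Finite.one_lt_card
  rcases H30.Sf.gal (τ := RingEquiv.ofBijective f hb) T.ss (fun c hc => by
    obtain ⟨b, rfl⟩ := (T.fix c).1 hc
    rw [RingEquiv.ofBijective_apply, hf, ← map_pow, Nat.card_eq_fintype_card, FiniteField.pow_card])
    with h | h
  · exfalso
    have h1 : ∀ x : Kˣ, x ^ (Nat.card F - 1) = 1 := fun x => by
      have h2 : (x : K) ^ Nat.card F = x := (hf x).symm.trans (DFunLike.congr_fun h (x : K))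
      have h3 : x ^ Nat.card F = x := Units.ext (by rw [Units.val_pow_eq_pow_val, h2])
      rw [← mul_left_inj x, ← pow_succ, Nat.sub_add_cancel q1.le, h3, one_mul]
    have h2 := Nat.le_of_dvd (by omega) ((FiniteField.forall_pow_eq_one_iff K _).1 h1)
    rw [hK] at h2
    have : Nat.card F < Nat.card F ^ 2 := by nlinarith
    omega
  · rw [← h, RingEquiv.ofBijective_apply, hf]

theorem mem_X [Fintype K] (g : YY K) :
    (g : GL E6.Idx K) ∈ twistedE6 K (Nat.card F) ↔ g ∈ fx T.ph :=
  mem_tw (pp F) (by rw [← T.card, Nat.card_eq_fintype_card]) (f := (T.σ : K →+* K)) (frob T)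

include T in
theorem hK [Fintype K] : Fintype.card K = Nat.card F ^ 2 := by rw [← T.card, Nat.card_eq_fintype_card]

/-- the identification of `X` with the group of the Prelude -/
noncomputable def iso [Fintype K] : twistedE6 K (Nat.card F) ≃* T.X where
  toFun g := ⟨inc (pp F) (hK T) g, (mem_X T _).1 g.2⟩
  invFun g := ⟨(g : YY K), (mem_X T _).2 g.2⟩
  left_inv _ := rfl
  right_inv _ := rfl
  map_mul' _ _ := rfl

theorem gen_top (B : T.KB) : T.gt {r | hN r = 1 ∨ hN r = -1} = ⊤ := by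
  have := Fintype.ofFinite K
  have key : ∀ g ∈ twistedE6 K (Nat.card F), g ∈ ((T.gt {r | hN r = 1 ∨ hN r = -1}).map
      (fx T.ph).subtype).map (E6.group K).subtype := by
    rw [twistedE6, mat_genSubgroup]
    refine fun g hg => (closure_le _).2 ?_ hg
    rintro _ ⟨w, hw, rfl⟩
    have l : ∀ (r : Rt D4) (t : K), t ^ Nat.card F = t → (hN (lr r) = 1 ∨ hN (lr r) = -1) →
        (mat chevE6 K).wd [((lr r).1, t)] ∈ ((T.gt {r | hN r = 1 ∨ hN r = -1}).map
          (fx T.ph).subtype).map (E6.group K).subtype := fun r t ht hr => by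
      obtain ⟨c, rfl⟩ := (T.fix t).1 ((frob T t).trans ht)
      exact ⟨_, ⟨T.x r c, B.x_mem r hr c, rfl⟩, by
        rw [coe_subtype, coe_subtype, T.x_val]; simp⟩
    have s : ∀ (r : Rt E6) (t : K), (hN r = 1 ∨ hN r = -1) →
        (mat chevE6 K).wd [(r.1, t), ((gm r).1, t ^ Nat.card F)] ∈
          ((T.gt {r | hN r = 1 ∨ hN r = -1}).map (fx T.ph).subtype).map (E6.group K).subtype :=
      fun r t hr => ⟨_, ⟨T.xs r t, T.xs_mem hr t, rfl⟩, by
        rw [coe_subtype, coe_subtype, T.xs_val, frob T]; simp⟩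
    rcases e6Words_cases hw with ⟨t, ht, rfl | rfl | rfl | rfl⟩ | ⟨t, rfl | rfl | rfl | rfl⟩
    exacts [l (R4 14) t ht (by decide +kernel), l (R4 9) t ht (by decide +kernel),
      l (R4 18) t ht (by decide +kernel), l (R4 5) t ht (by decide +kernel),
      s (R6 56) t (by decide +kernel), s (R6 15) t (by decide +kernel), s (R6 42) t (by decide +kernel),
      s (R6 29) t (by decide +kernel)]
  refine eq_top_iff.2 fun g _ => ?_
  obtain ⟨_, ⟨a, ha, rfl⟩, e⟩ := key _ ((mem_X T g).2 g.2)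
  rwa [← (Subtype.ext (Subtype.ext e) : a = g)]

theorem card_X : Nat.gcd 3 (Nat.card F + 1) * Nat.card T.X = Nat.card F ^ 36 * ((Nat.card F ^ 2 - 1) *
    (Nat.card F ^ 5 + 1) * (Nat.card F ^ 6 - 1) * (Nat.card F ^ 8 - 1) * (Nat.card F ^ 9 + 1) *
    (Nat.card F ^ 12 - 1)) := by
  have := Fintype.ofFinite K
  rw [← Nat.card_congr (iso T).toEquiv, card_E6 (pp F) (hK T)]
  ring

theorem syl (B : T.KB) : Syl T.U ⊤ := by
  classical
  refine ⟨le_top, B.isP, ?_⟩
  have h1 : Nat.card T.U = Nat.card F ^ 36 := by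
    rw [B.card SU ⟨⟨fun _ h => h, by decide +kernel⟩, by decide +kernel⟩]
    congr 1
  have h2 := card_X T
  rw [← T.U.card_mul_index, h1, mul_left_comm] at h2
  have h3 := Nat.eq_of_mul_eq_mul_left (pow_pos Nat.card_pos _) h2
  obtain ⟨n, hn, hq⟩ := two_pow F
  have e : ∀ k, 0 < k → Even (Nat.card F ^ k) := fun k hk => by
    rw [hq, ← pow_mul]; exact (Nat.even_pow' (Nat.mul_pos hn hk).ne').2 even_two
  have o1 : ∀ k, 0 < k → Odd (Nat.card F ^ k - 1) := fun k hk =>
    Nat.Even.sub_odd (Nat.one_le_pow _ _ Nat.card_pos) (e k hk) odd_one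
  have o2 : ∀ k, 0 < k → Odd (Nat.card F ^ k + 1) := fun k hk => (e k hk).add_one
  rw [relIndex_top_right]
  refine (Nat.odd_mul.1 (?_ : Odd (Nat.gcd 3 (Nat.card F + 1) * T.U.index))).2
  rw [h3]
  exact (((((o1 2 two_pos).mul (o2 5 (by decide))).mul (o1 6 (by decide))).mul (o1 8 (by decide))).mul
    (o2 9 (by decide))).mul (o1 12 (by decide))

theorem jobTB : JobTB := by
  intro F K _ _ _ _ _ _ T B
  have := Fintype.ofFinite K
  obtain ⟨h1, h2⟩ := simple_E6 (pp F) (hK T)
  have h3 : IsSimpleGroup T.X := (iso T).isSimpleGroup_congr.1 h1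
  have h4 : center T.X = ⊥ := (h3.eq_bot_or_eq_top_of_normal _ inferInstance).resolve_right fun e =>
    h2 ⟨⟨fun a b => (iso T).injective (by
      rw [map_mul, map_mul]; exact mem_center_iff.1 (e.ge (mem_top _)) _)⟩⟩
  refine ⟨h3, ?_, fun g hg => ?_, card_X T, gen_top T B, syl T B, frob T, iso T, fun _ => rfl⟩
  · refine (h3.eq_bot_or_eq_top_of_normal _ inferInstance).resolve_left fun e => ?_
    rw [commutator_eq_bot_iff_center_eq_top, h4] at e
    exact bot_ne_top e
  · refine mem_bot.1 (h4 ▸ mem_center_iff.2 fun y => ?_)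
    have := DFunLike.congr_fun hg y
    rw [MulAut.conj_apply, MulAut.one_apply, mul_inv_eq_iff_eq_mul] at this
    exact this.symm

end H56.TeTB
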