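import Cfsg.Agent.H56.L3P24
import Cfsg.Agent.H56.L3M5
import Cfsg.Agent.H54.SpCard
import Cfsg.Agent.H54.SpSimple

/-! The centraliser of a transvection in `PSp₄(3)` is the model `HS L24`. -/

set_option autoImplicit false
set_option maxRecDepth 100000
open Cfsg H44 H42.L3 H98 Subgroup Matrix
open scoped commutatorElement

namespace H56.L3

abbrev Sp43 := Matrix.symplecticGroup (Fin 2) (ZMod 3)

/-- the matrix of an element fixing `e₁` -/
def spM (z v w a b c d : ZMod 3) : Matrix (Fin 2 ⊕ Fin 2) (Fin 2 ⊕ Fin 2) (ZMod 3) :=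
  fromBlocks !![1, v * c - w * a; 0, a] !![-z, v * d - w * b; v, b] !![0, 0; 0, c] !![1, 0; w, d]

theorem spM_mem {z v w a b c d : ZMod 3} (h : a * d - b * c = 1) :
    spM z v w a b c d ∈ Matrix.symplecticGroup (Fin 2) (ZMod 3) := by
  rw [SymplecticGroup.mem_iff]
  ext (i | i) (j | j) <;> fin_cases i <;> fin_cases j <;>
    simp [spM, J, Matrix.mul_apply, Fin.sum_univ_two] <;> grind

theorem spM_mul {z v w a b c d : ZMod 3} (h : a * d - b * c = 1) (z' v' w' a' b' c' d' : ZMod 3) :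
    spM z v w a b c d * spM z' v' w' a' b' c' d' =
      spM (z + z' - (v * (c * v' + d * w') - w * (a * v' + b * w'))) (v + (a * v' + b * w'))
        (w + (c * v' + d * w')) (a * a' + b * c') (a * b' + b * d') (c * a' + d * c')
        (c * b' + d * d') := by
  ext (i | i) (j | j) <;> fin_cases i <;> fin_cases j <;>
    simp [spM, Matrix.mul_apply, Fin.sum_univ_two] <;> grind

theorem dt24 : ∀ l : L24, L24.en 0 l * L24.en 3 l - L24.en 1 l * L24.en 2 l = 1 := by decide +kernel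

/-- the embedding into `Sp₄(3)` -/
def spH : HS L24 →* Sp43 := MonoidHom.mk'
  (fun m => ⟨spM m.z m.v.1 m.v.2 (L24.en 0 m.g) (L24.en 1 m.g) (L24.en 2 m.g) (L24.en 3 m.g),
    spM_mem (dt24 _)⟩) fun x y => Subtype.ext (by
    obtain ⟨h2, h3, h4, h5⟩ := L24.en_mul x.g y.g
    refine Eq.trans ?_ (spM_mul (dt24 _) ..).symm
    rw [← h2, ← h3, ← h4, ← h5, HS.mul_z, show HS.dt x.g = 1 from dt24 _, one_mul]
    rfl)

theorem spM_of {A B C D : Matrix (Fin 2) (Fin 2) (ZMod 3)}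
    (h2 : fromBlocks A B C D * fromBlocks 1 !![-1, 0; 0, 0] 0 1 =
      fromBlocks 1 !![-1, 0; 0, 0] 0 1 * fromBlocks A B C D)
    (h3 : fromBlocks A B C D * J _ _ * (fromBlocks A B C D)ᵀ = J _ _) : A 0 0 * A 0 0 = 1 ∧
      A 1 1 * D 1 1 - B 1 1 * C 1 1 = 1 ∧ (A 0 0 = 1 →
      spM (-B 0 0) (B 1 0) (D 1 0) (A 1 1) (B 1 1) (C 1 1) (D 1 1) = fromBlocks A B C D) := by
  simp only [J, fromBlocks_multiply, fromBlocks_transpose, ← Matrix.ext_iff] at h2 h3
  simp [Matrix.mul_apply, Fin.sum_univ_two, Matrix.vecMul, dotProduct] at h2 h3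
  refine ⟨by grind, by grind, fun h => ?_⟩
  simp only [spM, ← Matrix.ext_iff]
  simp
  grind

theorem exists_spH (g : Sp43) (h : g * spH zc = spH zc * g) :
    ∃ m, spH m = g ∨ spH m = g * H54.spNegOne _ _ := by
  have e : (spH zc).1 = fromBlocks 1 !![-1, 0; 0, 0] 0 1 := by decide +kernel
  have key : ∀ g : Sp43, g * spH zc = spH zc * g →
      g.1 (.inl 0) (.inl 0) * g.1 (.inl 0) (.inl 0) = 1 ∧
        (g.1 (.inl 0) (.inl 0) = 1 → ∃ m, spH m = g) := fun g h => by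
    have h2 := congrArg Subtype.val h
    have h3 := SymplecticGroup.mem_iff.1 g.2
    rw [Submonoid.coe_mul, Submonoid.coe_mul, e, ← fromBlocks_toBlocks g.1] at h2
    rw [← fromBlocks_toBlocks g.1] at h3
    obtain ⟨k1, k2, k3⟩ := spM_of h2 h3
    obtain ⟨l, l1, l2, l3, l4⟩ := (by decide +kernel : ∀ a b c d : ZMod 3, a * d - b * c = 1 →
      ∃ l : L24, L24.en 0 l = a ∧ L24.en 1 l = b ∧ L24.en 2 l = c ∧ L24.en 3 l = d) _ _ _ _ k2
    rw [← l1, ← l2, ← l3, ← l4] at k3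
    exact ⟨k1, fun h1 => ⟨⟨_, (_, _), l⟩, Subtype.ext ((k3 h1).trans (fromBlocks_toBlocks g.1))⟩⟩
  rcases mul_self_eq_one_iff.1 (key g h).1 with e' | e'
  · exact ((key g h).2 e').imp fun _ => Or.inl
  · refine ((key _ ?_).2 ?_).imp fun _ => Or.inr
    · rw [mul_assoc, ← mem_center_iff.1 H54.spNegOne_mem_center, ← mul_assoc, h, mul_assoc]
    · simp [H54.spNegOne_coe, e']

theorem exists_psp : ∃ ψ : HS L24 →* PSp 2 (ZMod 3), Function.Injective ψ ∧ ψ.range = Ce (ψ zc) := by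
  refine ⟨(QuotientGroup.mk' _).comp spH, (injective_iff_map_eq_one _).2 fun m hm => ?_,
    le_antisymm ?_ fun x hx => ?_⟩
  · exact (by decide +kernel : ∀ m, (spH m).1 = 1 ∨ (spH m).1 = -1 → m = 1) m
      ((H54.mem_center_sp_iff.1 ((QuotientGroup.eq_one_iff _).1 hm)).imp (congrArg Subtype.val)
        (congrArg Subtype.val))
  · rintro _ ⟨m, rfl⟩
    rw [mem_Ce, ← map_mul, ← map_mul, (by decide +kernel : ∀ m, m * zc = zc * m) m]
  · obtain ⟨g, rfl⟩ := QuotientGroup.mk_surjective x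
    have h1 : g * spH zc = spH zc * g := by
      rcases H54.mem_center_sp_iff.1 (QuotientGroup.eq.1 (mem_Ce'.1 hx)) with e | e
      · exact mul_inv_eq_iff_eq_mul.1 (inv_mul_eq_one.1 e)
      · have h3 : (g * spH zc * g⁻¹) ^ 3 = 1 := by
          rw [conj_pow, ← map_pow, show zc ^ 3 = 1 by decide +kernel]; simp
        rw [inv_mul_eq_iff_eq_mul, ← mul_inv_eq_iff_eq_mul] at e
        exact absurd (congrArg Subtype.val ((congrArg (· ^ 3) e).trans h3)) (by decide +kernel)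
    obtain ⟨m, e | e⟩ := exists_spH g h1
    · exact ⟨m, congrArg QuotientGroup.mk e⟩
    · exact ⟨m, (congrArg QuotientGroup.mk e).trans
        (QuotientGroup.mk_mul_of_mem g H54.spNegOne_mem_center)⟩

theorem cardP : Nat.card (PSp 2 (ZMod 3)) = 25920 := by
  have h1 := Subgroup.card_eq_card_quotient_mul_card_subgroup (Subgroup.center Sp43)
  rw [H54.card_sp, H54.card_center_sp_eq_gcd] at h1
  simp only [Nat.card_zmod, ZMod.card, Fintype.card_fin, H54.spOrder] at h1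
  have h2 : Nat.card (PSp 2 (ZMod 3)) * 2 = 51840 := by
    norm_num [Finset.prod_range_succ] at h1 ⊢
    exact h1.symm
  omega

theorem row3366 {X Y : Type*} [Group X] [Finite X] [Group Y] (ε : PSp 2 (ZMod 3) ≃* Y)
    (hR : IsExtraspecial 3 (pCore 3 X)) (hc : Nat.card (pCore 3 X) = 27)
    (h3 : ∀ r ∈ pCore 3 X, r ^ 3 = 1) (e : X ⧸ pCore 3 X ≃* H90.SL3) (hO : pCore 2 X = ⊥)
    {E : Subgroup X} (hE : E ≤ cn E) (hE3 : ∀ x ∈ E, x ^ 3 = 1) (hEc : Nat.card E = 27) :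
    ∃ (c : Y) (S : Sylow 3 Y), orderOf c = 3 ∧ c ∈ (S : Subgroup Y) ∧ c ∈ cn (S : Subgroup Y) ∧
      Nonempty (X ≃* Ce c) := by
  have : Nontrivial (center (pCore 3 X)) := Finite.one_lt_card_iff_nontrivial.1 (by rw [hR.2]; decide)
  obtain ⟨z, hz⟩ := exists_ne (1 : center (pCore 3 X))
  have h1 : ∀ w : center (pCore 3 X), w ≠ 1 → w = z ∨ w = z⁻¹ := fun w hw => by
    obtain ⟨k, rfl⟩ := mem_powers_of_prime_card (p := 3) hR.2 hz (g' := w)
    have h4 : z ^ 3 = 1 := by simpa only [hR.2] using pow_card_eq_one' (x := z)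
    have h5 : k % 3 < 3 := Nat.mod_lt _ three_pos
    beta_reduce at hw ⊢
    rw [pow_eq_pow_mod k h4] at hw ⊢
    interval_cases k % 3
    · simp at hw
    · simp
    · exact Or.inr (eq_inv_of_mul_eq_one_left ((pow_succ _ _).symm.trans h4))
  have h2 : ∀ x : X, x * z * x⁻¹ = z ∨ x * z * x⁻¹ = (z : X)⁻¹ := fun x => by
    refine (h1 ⟨⟨x * z * x⁻¹, Normal.conj_mem inferInstance _ z.1.2 x⟩, mem_center_iff.2 fun y =>
      Subtype.ext ?_⟩ fun e => hz (Subtype.ext (Subtype.ext ?_))).imp (fun e => ?_) fun e => ?_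
    · have := congrArg Subtype.val (mem_center_iff.1 z.2
        ⟨x⁻¹ * y * x, Normal.conj_mem' inferInstance _ y.2 x⟩)
      simp only [coe_mul] at this ⊢
      calc (y : X) * (x * z * x⁻¹) = x * (x⁻¹ * y * x * z) * x⁻¹ := by group
        _ = _ := by rw [this]; group
    · simpa using congrArg (fun w => (w.1 : X)) e
    · exact congrArg (fun w => (w.1 : X)) e
    · exact congrArg (fun w => (w.1 : X)) e
  have h4 : ∀ x : X, x * x ∈ Ce (z : X) := fun x => mem_Ce'.2 (by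
    rw [show x * x * z * (x * x)⁻¹ = x * (x * z * x⁻¹) * x⁻¹ by group]
    rcases h2 x with e | e <;> rw [e]
    · exact e
    · rw [← conj_inv, e, inv_inv])
  obtain ⟨e'⟩ := exists_iso_L24
  have h5 : ∀ x : X, x * z = z * x := fun x => by
    let f := (e.trans e'.symm).toMonoidHom.comp (QuotientGroup.mk' (pCore 3 X))
    obtain ⟨a, b, hab⟩ := (by decide +kernel : ∀ l : L24, ∃ a b, a * a * (b * b) = l) (f x)
    have hf : Function.Surjective f := (e.trans e'.symm).surjective.comp (QuotientGroup.mk'_surjective _)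
    obtain ⟨a, rfl⟩ := hf a
    obtain ⟨b, rfl⟩ := hf b
    rw [← map_mul, ← map_mul, ← map_mul] at hab
    have h6 := QuotientGroup.eq.1 ((e.trans e'.symm).injective hab)
    rw [← mul_inv_cancel_left (a * a * (b * b)) x]
    exact mem_Ce.1 (mul_mem (mul_mem (h4 a) (h4 b))
      (mem_Ce.2 (congrArg Subtype.val (mem_center_iff.1 z.2 ⟨_, h6⟩))))
  obtain ⟨φ, hφ, -⟩ := exists_HS hR hc h3 e (fun t h1 h2 => by
    have : (zpowers t).Normal := ⟨by
      rintro _ ⟨k, rfl⟩ g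
      rw [((show Commute g t from h2 g).zpow_right k).eq, mul_inv_cancel_right]
      exact ⟨k, rfl⟩⟩
    exact mem_bot.1 (hO.le (H2.le_pCore (isPGroup_zpowers (k := 1) (by rw [pow_one, sq, h1]))
      (mem_zpowers t)))) z.1.2 (fun e => hz (Subtype.ext (Subtype.ext e))) h5 hE hE3 hEc
  obtain ⟨ψ₀, i0, r0⟩ := exists_psp
  let ψ := ε.toMonoidHom.comp ψ₀
  have i1 : Function.Injective ψ := ε.injective.comp i0
  have r1 : ψ.range = Ce (ψ zc) := by
    ext y
    obtain ⟨y, rfl⟩ := ε.surjective y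
    refine Iff.trans (b := y ∈ ψ₀.range) ⟨fun ⟨m, hm⟩ => ⟨m, ε.injective hm⟩,
      fun ⟨m, hm⟩ => ⟨m, congrArg ε hm⟩⟩ ((SetLike.ext_iff.1 r0 y).trans ?_)
    rw [mem_Ce, mem_Ce, ← ε.injective.eq_iff, map_mul, map_mul]
    rfl
  have : Finite Y := Finite.of_equiv _ ε.toEquiv
  have o3 : orderOf (ψ zc) = 3 := by
    rw [orderOf_injective ψ i1]
    exact orderOf_eq_prime (by decide +kernel) (by decide +kernel)
  obtain ⟨S, hS, h6⟩ := exists_isSyl_le (p := 3) (isPGroup_zpowers (x := ψ zc) (k := 1)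
    (by rw [pow_one, ← o3, pow_orderOf_eq_one])) (zpowers_le.2 (mem_Ce.2 rfl))
  have h7 : IsSyl 3 S ⊤ := isSyl_of_not_dvd_relIndex le_top hS.isPGroup (by
    rw [relIndex_top_right, ← relIndex_mul_index hS.le]
    refine fun e => (Nat.prime_three.dvd_mul.1 e).elim hS.not_dvd_relIndex ?_
    have := ψ.range.card_mul_index
    rw [← Nat.card_congr (MonoidHom.ofInjective i1).toEquiv, L24.card_M,
      ← Nat.card_congr ε.toEquiv, cardP, r1] at this
    omega)
  exact ⟨ψ zc, h7.toSylowTop, o3, h6 (mem_zpowers _), fun y hy => mem_Ce.1 (hS.le hy),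
    ⟨(MulEquiv.ofBijective φ hφ).symm.trans ((MonoidHom.ofInjective i1).trans
      (MulEquiv.subgroupCongr r1))⟩⟩

section
variable {G : Type*} [Group G]

theorem exists_K6 {s t : G} (hs : s ^ 3 = 1) (ht : t ^ 2 = 1) (h : t * s = s ^ 2 * t) :
    ∃ w : K6 →* G, w K6.s.k = s ∧ w K6.t.k = t := by
  have h1 : ∀ a : ℕ, t * s ^ a = s ^ (a * 2) * t := fun a => by
    rw [mul_comm, pow_mul]; exact (SemiconjBy.pow_right h a).eq
  have h2 : ∀ b a : ℕ, t ^ b * s ^ a = s ^ (a * 2 ^ b) * t ^ b := fun b => by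
    induction b with
    | zero => simp
    | succ b ih => intro a; rw [pow_succ' t, mul_assoc, ih, ← mul_assoc, h1, mul_assoc, mul_assoc a, ← pow_succ 2]
  refine ⟨MonoidHom.mk' (fun k => s ^ lk 0x990 2 k.val * t ^ lk 0x1a 1 k.val) fun k l => ?_,
    by simp [K6.s, K6.mk, K6.val, lk], by simp [K6.t, K6.mk, K6.val, lk]⟩
  obtain ⟨e1, e2⟩ := (by decide +kernel : ∀ k l : K6, lk 0x990 2 (k * l).val % 3 =
    (lk 0x990 2 k.val + lk 0x990 2 l.val * 2 ^ lk 0x1a 1 k.val) % 3 ∧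
    lk 0x1a 1 (k * l).val % 2 = (lk 0x1a 1 k.val + lk 0x1a 1 l.val) % 2) k l
  rw [pow_eq_pow_mod _ hs, pow_eq_pow_mod _ ht, e1, e2, ← pow_eq_pow_mod _ hs,
    ← pow_eq_pow_mod _ ht, pow_add, pow_add, mul_assoc, ← mul_assoc (s ^ (_ * _)), ← h2]
  simp only [mul_assoc]

open scoped IsMulCommutative in
theorem row3376 [Finite G] (hG : Nat.card G = 162) {S J : Subgroup G} (hS : IsSyl 3 S ⊤) {t : G}
    (ht : t * t = 1) [J.Normal] [IsMulCommutative J] (h3 : ∀ a ∈ J, a ^ 3 = 1)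
    (hJ : Nat.card J = 27) (hZ : Nat.card (S ⊓ cn S : Subgroup G) = 3) (hZt : S ⊓ cn S ≤ Ce t)
    (hSt : ¬ S ≤ Ce t) : Nonempty (G ≃* Ce x9) := by
  have cS : Nat.card S = 81 := by
    rw [hS.card_eq, card_top, hG, show 162 = 3 ^ 4 * 2 from rfl,
      Nat.factorization_mul (by decide) (by decide), Nat.prime_three.factorization_pow]
    simp [Nat.prime_two.factorization]
  have nS : S.Normal := normal_of_index_eq_two (by
    have := S.card_mul_index; rw [cS, hG] at this; omega)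
  have JS : J ≤ S := hS.le_of_le_normalizer (IsPGroup.of_card (n := 3) hJ) le_top
    le_normalizer_of_normal
  have cm : ∀ a ∈ J, ∀ b ∈ J, a * b = b * a := fun a ha b hb => setLike_mul_comm ha hb
  have ti : t⁻¹ = t := inv_eq_of_mul_eq_one_right ht
  have z1 : ∀ y ∈ S ⊓ cn S, t * y * t⁻¹ = y⁻¹ → y = 1 := fun y hy e => by
    rw [← mem_Ce.1 (hZt hy), mul_inv_cancel_right, eq_inv_iff_mul_eq_one, ← sq] at e
    have h4 : y ^ 3 = 1 := by
      rw [← hZ]; exact congrArg Subtype.val (pow_card_eq_one' (x := (⟨y, hy⟩ : ↥(S ⊓ cn S))))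
    rwa [pow_succ, e, one_mul] at h4
  have iv : ∀ x : G, t * (x * (t * x⁻¹ * t⁻¹)) * t⁻¹ = (x * (t * x⁻¹ * t⁻¹))⁻¹ := fun x => by
    calc _ = t * x * t * x⁻¹ * (t * t)⁻¹ := by group
      _ = _ := by rw [ht]; nth_rw 2 [← ti]; group
  obtain ⟨s, hs, hsJ, hst⟩ : ∃ s ∈ S, s ∉ J ∧ t * s * t⁻¹ = s⁻¹ := by
    by_contra! hc
    have h4 : ∀ x ∈ S, x * (t * x⁻¹ * t⁻¹) ∈ J := fun x hx => by_contra fun e =>
      hc _ (mul_mem hx (nS.conj_mem _ (inv_mem hx) t)) e (iv x)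
    let I : Subgroup S :=
      { carrier := {y | (y : G) ∈ J ∧ t * y * t⁻¹ = (y : G)⁻¹}
        one_mem' := ⟨one_mem _, by simp⟩
        mul_mem' := fun {a b} ha hb => ⟨mul_mem ha.1 hb.1, by
          rw [coe_mul, cm _ ha.1 _ hb.1, _root_.mul_inv_rev, ← ha.2, ← hb.2, ← cm _ ha.1 _ hb.1]; group⟩
        inv_mem' := fun {a} ha => ⟨inv_mem ha.1, by rw [coe_inv, ← conj_inv, ha.2]⟩ }
    have : I.Normal := ⟨fun y hy x => ⟨Normal.conj_mem inferInstance _ hy.1 _, by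
      have e := cm _ (h4 _ (inv_mem x.2)) _ (inv_mem hy.1)
      simp only [coe_mul, coe_inv, inv_inv] at e ⊢
      calc _ = x * ((x : G)⁻¹ * (t * x * t⁻¹) * (t * y * t⁻¹)) * (t * x * t⁻¹)⁻¹ := by group
        _ = _ := by rw [hy.2, e]; group⟩⟩
    have := hS.isPGroup.isNilpotent
    have h5 : I = ⊥ := by_contra fun e => H2.inf_center_ne_bot_of_isNilpotent I e
      ((eq_bot_iff_forall _).2 fun y hy => Subtype.ext (z1 y ⟨y.2, fun x hx =>
        congrArg Subtype.val (mem_center_iff.1 hy.2 ⟨x, hx⟩)⟩ hy.1.2))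
    refine hSt fun x hx => mem_Ce.2 ?_
    have h6 : x * (t * x⁻¹ * t⁻¹) = 1 := congrArg Subtype.val (mem_bot.1 (h5.le
      (show (⟨_, JS (h4 x hx)⟩ : S) ∈ I from ⟨h4 x hx, iv x⟩)))
    calc x * t = (x * (t * x⁻¹ * t⁻¹)) * (t * x) := by group
      _ = _ := by rw [h6, one_mul]
  have hZ' : ∀ y ∈ S, y ∈ cn J → s * y = y * s → y ∈ S ⊓ cn S := fun y hy h1 h2 => by
    have h4 : J ⊔ zpowers s = S := by
      have h5 : J ⊔ zpowers s ≤ S := sup_le JS (zpowers_le.2 hs)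
      have h6 := card_dvd_of_le h5
      have h7 := card_dvd_of_le (le_sup_left : J ≤ J ⊔ zpowers s)
      have h8 : Nat.card (J ⊔ zpowers s : Subgroup G) ≠ 27 := fun e => hsJ
        ((eq_of_le_of_card_ge le_sup_left (by rw [e, hJ])).ge (mem_sup_right (mem_zpowers s)))
      rw [cS] at h6
      rw [hJ] at h7
      obtain ⟨k, hk, e⟩ := (Nat.dvd_prime_pow Nat.prime_three (m := 4)).1 h6
      refine eq_of_le_of_card_ge h5 ?_
      rw [e] at h7 h8 ⊢
      interval_cases k <;> omega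
    exact ⟨hy, fun x hx => mem_Ce.1 ((sup_le (fun a ha => mem_Ce.2 (h1 a ha))
      (zpowers_le.2 (mem_Ce.2 h2)) : J ⊔ zpowers s ≤ Ce y) (h4.ge hx))⟩
  have s3 : s ^ 3 = 1 := by
    have h4 : s ^ 3 ∈ J := by
      have h5 := (J.subgroupOf S).pow_index_mem ⟨s, hs⟩
      have h6 := (J.subgroupOf S).card_mul_index
      rw [Nat.card_congr (subgroupOfEquivOfLe JS).toEquiv, hJ, cS] at h6
      rwa [show (J.subgroupOf S).index = 3 by omega] at h5
    exact z1 _ (hZ' _ (JS h4) (fun a ha => cm a ha _ h4) (by group))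
      (by rw [← conj_pow, hst, inv_pow])
  let σ : MulAut J := MulAut.conjNormal s
  let τ : MulAut J := MulAut.conjNormal t
  have σ3 : ∀ x, σ (σ (σ x)) = x := fun x => by
    rw [← MulAut.mul_apply, ← MulAut.mul_apply, ← map_mul, ← map_mul, ← sq, ← pow_succ, s3, map_one,
      MulAut.one_apply]
  have ts : t * s = s ^ 2 * t := by
    rw [mul_inv_eq_iff_eq_mul.1 hst, ← eq_inv_of_mul_eq_one_left ((pow_succ _ _).symm.trans s3)]
  have τσ : ∀ x, τ (σ x) = σ (σ (τ x)) := fun x => by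
    rw [← MulAut.mul_apply, ← map_mul, ts, sq, map_mul, map_mul]; rfl
  have τ2 : ∀ x, τ (τ x) = x := fun x => by
    rw [← MulAut.mul_apply, ← map_mul, ht, map_one, MulAut.one_apply]
  have x3 : ∀ x : J, x ^ 3 = 1 := fun x => Subtype.ext (h3 x x.2)
  have fx : ∀ y : J, σ y = y → (y : G) ∈ S ⊓ cn S := fun y e =>
    hZ' y (JS y.2) (fun a ha => cm a ha _ y.2) (mul_inv_eq_iff_eq_mul.1 (congrArg Subtype.val e))
  obtain ⟨e, he⟩ : ∃ e : J, σ e * σ (σ e) * e ≠ 1 := by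
    by_contra! hc
    let N : J →* J := σ.toMonoidHom / MonoidHom.id J
    have hN : ∀ x, N x = σ x / x := fun _ => rfl
    have h4 : Nat.card N.ker ≤ 3 := hZ ▸ Nat.card_le_card_of_injective
      (fun y => ⟨y.1, fx _ (div_eq_one.1 y.2)⟩) fun _ _ e =>
        Subtype.ext (Subtype.ext (Subtype.mk.inj e))
    have h5 : N.range ≤ N.ker := by
      rintro _ ⟨x, rfl⟩
      rw [MonoidHom.mem_ker, hN, hN, map_div, ← hc x, ← mul_one (_ / _), ← x3 (σ x)]
      simp only [div_eq_mul_inv, _root_.mul_inv_rev, inv_inv, pow_succ, pow_zero, one_mul]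
      simp [mul_comm, mul_left_comm, mul_assoc]
    have h6 := N.ker.card_mul_index
    have h7 := card_le_of_le h5
    rw [index_ker, hJ] at h6
    nlinarith
  obtain ⟨e, he, hτ⟩ : ∃ e : J, σ e * σ (σ e) * e ≠ 1 ∧ τ e = e := by
    refine ⟨e * τ e, fun h => he ?_, by rw [map_mul, τ2, mul_comm]⟩
    have h4 : τ (σ e * σ (σ e) * e) = σ e * σ (σ e) * e := Subtype.ext
      (mul_inv_eq_iff_eq_mul.2 (mem_Ce.1 (hZt (fx _ (by
        rw [map_mul, map_mul, σ3]; ac_rfl)))).symm)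
    rw [map_mul, map_mul, τσ, τσ, τσ, σ3] at h4
    have h5 := x3 (σ e * σ (σ e) * e)
    rwa [pow_succ, sq, show σ e * σ (σ e) * e * (σ e * σ (σ e) * e) = 1 from h ▸ by
      nth_rw 1 [← h4]; simp only [map_mul]; ac_rfl, one_mul] at h5
  obtain ⟨w, w1, w2⟩ := exists_K6 s3 ((sq t).trans ht) ts
  let u : J3 → J := fun j => σ e ^ j.1.val * σ (σ e) ^ j.2.1.val * e ^ j.2.2.val
  have ua : ∀ i j, u (i + j) = u i * u j := fun i j => by
    simp only [u, Prod.fst_add, Prod.snd_add, ZMod.val_add, ← pow_eq_pow_mod _ (x3 _), pow_add]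
    ac_rfl
  have us : ∀ j, w K6.s.k * u j * (w K6.s.k)⁻¹ = u (K6.s.k • j) := fun j => by
    rw [w1]
    refine congrArg Subtype.val (show σ (u j) = σ e ^ j.2.2.val * σ (σ e) ^ j.1.val * e ^ j.2.1.val
      from ?_)
    simp only [u, map_mul, map_pow, σ3]
    ac_rfl
  have ut : ∀ j, w K6.t.k * u j * (w K6.t.k)⁻¹ = u (K6.t.k • j) := fun j => by
    rw [w2]
    refine congrArg Subtype.val (show τ (u j) = σ e ^ j.2.1.val * σ (σ e) ^ j.1.val * e ^ j.2.2.val
      from ?_)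
    simp only [u, map_mul, map_pow, τσ, σ3, hτ]
    ac_rfl
  have um : ∀ k l : K6, (∀ j, w k * u j * (w k)⁻¹ = u (k • j)) →
      (∀ j, w l * u j * (w l)⁻¹ = u (l • j)) → ∀ j, w (k * l) * u j * (w (k * l))⁻¹ = u ((k * l) • j) :=
    fun k l hk hl j => by rw [mul_smul, ← hk, ← hl, map_mul]; group
  have uk : ∀ k j, w k * u j * (w k)⁻¹ = u (k • j) := fun k => by
    rcases (by decide +kernel : ∀ k : K6, k = K6.t.k * K6.t.k ∨ k = K6.t.k ∨ k = K6.s.k ∨
      k = K6.t.k * K6.s.k ∨ k = K6.s.k * K6.t.k ∨ k = K6.s.k * K6.s.k) k with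
      rfl | rfl | rfl | rfl | rfl | rfl
    exacts [um _ _ ut ut, ut, us, um _ _ ut us, um _ _ us ut, um _ _ us us]
  let β : SD J3 K6 →* G := MonoidHom.mk' (fun m => u m.j * w m.k) fun a b => by
    rw [SD.mul_j, SD.mul_k, ua, coe_mul, ← uk, map_mul]; group
  have hβ : Function.Injective β := (injective_iff_map_eq_one _).2 fun m hm => by_contra fun h => by
    obtain ⟨a, -, b, -, c, -, n, -, hab⟩ := (by decide +kernel : ∀ m : SD J3 K6, m ≠ 1 → ∃ a ∈ [vc 1 0 0, K6.s],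
      ∃ b ∈ [1, vc 1 0 0, K6.s], ∃ c ∈ [1, K6.s], ∃ n ∈ [1, 2], m ^ n = vc 1 1 1 ∨
        ⁅a, m⁆ ^ n = vc 1 1 1 ∨ ⁅b, ⁅a, m⁆⁆ ^ n = vc 1 1 1 ∨ ⁅c, ⁅b, ⁅a, m⁆⁆⁆ ^ n = vc 1 1 1) m h
    have h4 : β (vc 1 1 1) = 1 := by
      rcases hab with e | e | e | e <;> simp [← e, map_commutatorElement, hm]
    refine he (Subtype.ext ?_)
    simpa [β, vc, u, ZMod.val_one] using h4
  have : Finite (SD J3 K6) := inferInstance
  exact ⟨(MulEquiv.ofBijective β ((Nat.bijective_iff_injective_and_card β).2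
    ⟨hβ, by rw [K6.card_M, hG]⟩)).symm.trans ((MonoidHom.ofInjective psi6_inj).trans
      (MulEquiv.subgroupCongr psi6_range))⟩

end

end H56.L3
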