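import Cfsg.Agent.S3915

/-! # S3916: groups whose cyclic `p`-subgroups of the same order are conjugate

Job statements; proofs in `blueprints/CY.md`. -/

set_option autoImplicit false

namespace H56.CY

open Subgroup

universe u

/-- Cyclic `p`-subgroups of the same order are conjugate. -/
def CP (G : Type u) [Group G] : Prop :=
  ∀ (p : ℕ), p.Prime → ∀ A B : Subgroup G, IsCyclic ↥A → IsCyclic ↥B → IsPGroup p ↥A →
    Nat.card ↥A = Nat.card ↥B → ∃ g : G, B = A.map (MulAut.conj g).toMonoidHom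

/-- The property passes to quotients. -/
def JobQ : Prop := ∀ (G : Type u) [Group G] [Finite G] (N : Subgroup G) [N.Normal],
  CP G → CP (G ⧸ N)

/-- Half of the order of a Sylow 2-subgroup divides the number of 2-elements outside a subgroup
of index two. -/
def JobFR : Prop := ∀ (H : Type u) [Group H] [Finite H] (S : Subgroup H) (k : ℕ), S.index = 2 →
  2 ^ k ∣ Nat.card S → 2 ^ k ∣ Nat.card {g : H // g ∉ S ∧ ∃ n : ℕ, g ^ 2 ^ n = 1}

/-- Control of fusion outside a subgroup of index two. -/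
def FC : Prop := ∀ (H : Type u) [Group H] [Finite H] (S : Subgroup H) (T : Sylow 2 H) (c : ℕ),
  S.index = 2 →
  (∀ g : H, g ∉ S → (∃ n : ℕ, g ^ 2 ^ n = 1) → Nat.card (centralizer ({g} : Set H)) = c) →
  ∀ a ∈ (T : Subgroup H), ∀ b ∈ (T : Subgroup H), a ∉ S → IsConj a b →
    ∃ t ∈ (T : Subgroup H), t * a * t⁻¹ = b

def JobFC : Prop := JobFR.{u} → FC.{u}

/-- The transfer gives an element outside `S` that is fixed modulo the derived group of `T` by
every automorphism that fixes `S` and `T`. -/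
def JobTR : Prop := ∀ (H : Type u) [Group H] [Finite H] (S : Subgroup H) (T : Sylow 2 H),
  S.index = 2 → S ≤ commutator H → ∃ t ∈ (T : Subgroup H), t ∉ S ∧ ∀ α : H ≃* H,
    (∀ x, α x ∈ S ↔ x ∈ S) → (∀ x, α x ∈ (T : Subgroup H) ↔ x ∈ (T : Subgroup H)) →
      t⁻¹ * α t ∈ ⁅(T : Subgroup H), (T : Subgroup H)⁆

/-- The Sylow 2-subgroup is cyclic. -/
def CYC : Prop := ∀ (H : Type u) [Group H] [Finite H] (S : Subgroup H) (T : Sylow 2 H),
  S.index = 2 → S ≤ commutator H →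
  (∀ a b : H, a ∉ S → b ∉ S → (∃ n : ℕ, a ^ 2 ^ n = 1) → (∃ n : ℕ, b ^ 2 ^ n = 1) →
    ∃ α : H ≃* H, (∀ x, α x ∈ S ↔ x ∈ S) ∧ zpowers (α a) = zpowers b) → IsCyclic T

def JobCYC : Prop := FC.{u} → JobTR.{u} → CYC.{u}

/-- A perfect normal subgroup has odd index. -/
def ML : Prop := ∀ (G : Type u) [Group G] [Finite G] (S : Subgroup G) [S.Normal], CP G →
  S ≠ ⊥ → ⁅S, S⁆ = S → Odd S.index

def JobML : Prop := CYC.{u} → ML.{u}

def Main : Prop := ∀ (G : Type u) [Group G] [Finite G], CP G → ¬ Group.IsSolvable G →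
  ∃ (K L : Subgroup G) (_ : K.Normal) (_ : L.Normal), K ≤ L ∧ Group.IsSolvable ↥K ∧
    Group.IsSolvable (G ⧸ L) ∧ IsSimpleGroup (↥L ⧸ K.subgroupOf L) ∧
      ¬ IsMulCommutative (↥L ⧸ K.subgroupOf L)

def JobTop : Prop := JobQ.{u} → ML.{u} → Main.{u}

theorem main_of (q : JobQ.{u}) (fr : JobFR.{u}) (fc : JobFC.{u}) (tr : JobTR.{u})
    (cy : JobCYC.{u}) (ml : JobML.{u}) (top : JobTop.{u}) : Main.{u} :=
  top q (ml (cy (fc fr) tr))

end H56.CY
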