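/- Tower KU: no element of `K` induces a translation on a totally isotropic line. -/
import Cfsg.Agent.H53.KUSpec

set_option autoImplicit false

namespace H56.KURc

open Cfsg H59 H53.WU H53.KU Module

theorem gn_pow_ne {F : Type} [Field F] [Fintype F] {q : ℕ} (hF : Fintype.card F = q ^ 2) (hq : 3 ≤ q)
    {x : Fˣ} (h : Gn (x : F)) : x ^ (q - 1) ≠ 1 := fun e => by
  have e1 : frob hF x = x := by
    rw [frob_apply, ← Units.val_pow_eq_pow_val, ← pow_sub_one_mul (by omega), e, one_mul]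
  rcases h ((frob hF).toAddMonoidHom.eqLocus (AddMonoidHom.id F)) (fun y (hy : frob hF y = y) => by
    change frob hF (x * y) = x * y
    rw [map_mul, e1, hy]) with h | h
  · exact one_ne_zero (h.le (show (1 : F) ∈ _ from map_one (frob hF)))
  · exact frob_ne_id hF (RingHom.ext fun y => h.ge (AddSubgroup.mem_top y))

variable {S : HS} {m : ℕ} {Φ Ψ : Fr S m}

theorem sm_ev (h : Ψ.Sm Φ) {g : S.G} {a : Fin m → S.Fˣ} (hg : Φ.Ev g a) : Ψ.Ev g a := fun i => by
  have h1 : Ψ.e i ∈ Φ.W (i + 1) := h _ ▸ Ψ.e_mem_W (Nat.lt_succ_self _)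
  rw [h]
  refine (Submodule.span_le (p := (Φ.W i).comap
    (g.1.toLinearMap - (a i : S.F) • LinearMap.id))).2 ?_ h1
  rintro _ ⟨j, hj, rfl⟩
  rcases (Nat.lt_succ_iff.1 hj).eq_or_lt with e | e
  · obtain rfl := Fin.ext e
    exact hg j
  · exact (Φ.W i).sub_mem (hg.map_W _ (Φ.e_mem_W e)) ((Φ.W i).smul_mem _ (Φ.e_mem_W e))

theorem sm_D (h : Ψ.Sm Φ) (K : Subgroup S.G) : Φ.D K ≤ Ψ.D K :=
  fun _ ⟨k, hk, e⟩ => ⟨k, hk, sm_ev h e⟩

theorem jobRc (r1 : JobRc1) (r2 : JobRc2) (ch : JobCh) (fd : JobFD) : JobRc := by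
  intro S hB hG k hk x y hx hy hxy h1 h2
  have hp : (ringChar S.F).Prime := CharP.char_is_prime S.F _
  obtain ⟨j, s, hs, e⟩ := Nat.exists_eq_pow_mul_and_not_dvd (orderOf_pos k).ne' _ hp.ne_one
  have h3 : ∀ i : ℕ, (k ^ i).1 x = x ∧ (k ^ i).1 y = y + (i : S.F) • x := fun i => by
    induction i with
    | zero => simp
    | succ i ih =>
      rw [pow_succ, Subgroup.coe_mul, LinearEquiv.mul_apply, LinearEquiv.mul_apply, h1, h2, map_add,
        ih.1, ih.2, Nat.cast_succ, add_smul, one_smul, add_assoc]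
      exact ⟨rfl, rfl⟩
  have h4 : (k ^ s).1 y ≠ y := fun e => by
    rw [(h3 s).2, add_eq_left, smul_eq_zero] at e
    exact e.elim (fun e => hs ((ringChar.spec _ _).1 e)) hx.1
  have hyx : S.B y x = 0 := by rw [← S.h.symm, hxy, map_zero]
  obtain ⟨Φ, h5, h6⟩ := ch S.toHS _ (k ^ s) S.hr ⟨j, by
      rw [← pow_mul, mul_comm, ← e, pow_orderOf_eq_one]⟩ 2 (by omega) ![x, y]
    (fun a b => by fin_cases a <;> fin_cases b <;> simp [hx.2, hy, hxy, hyx])
    ((LinearIndependent.pair_iff' hx.1).2 fun c hc => h4 (by rw [← hc, map_smul, (h3 s).1]))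
    (fun a => by
      fin_cases a
      · change (k ^ s).1 x - x ∈ _
        rw [(h3 s).1, sub_self]
        exact zero_mem _
      · change (k ^ s).1 y - y ∈ _
        rw [(h3 s).2, add_sub_cancel_left]
        exact Submodule.smul_mem _ _ (Submodule.subset_span ⟨0, by decide, rfl⟩))
  obtain ⟨Ψ, h7, h8⟩ := fd S.toHS _ Φ S.K S.hr
  have h9 := sm_ev h7 h6
  obtain ⟨g, g1, g2, g3, g4⟩ := r2 S Ψ _ (S.K.pow_mem hk s) h9 fun e1 => h4 (by
    have h10 : y ∈ Ψ.W 2 := by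
      rw [h7, show y = Φ.e (Fin.castLE (by omega) (1 : Fin 2)) from (h5 1).symm]
      exact Φ.e_mem_W (Nat.lt_succ_self 1)
    refine (Submodule.span_le (p := LinearMap.eqLocus (k ^ s).1.toLinearMap LinearMap.id)).2 ?_ h10
    rintro _ ⟨i, hi, rfl⟩
    rcases (Nat.lt_succ_iff.1 hi).eq_or_lt with e2 | e2
    · obtain rfl : i = 1 := Fin.ext e2
      exact e1
    · have := h9 i
      rw [Nat.lt_one_iff.1 e2, Fr.W] at this
      simpa [sub_eq_zero] using this)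
  obtain ⟨⟨d, hd, h10⟩, -, h11⟩ := hG Ψ
  exact gn_pow_ne S.hF S.hq h10 (r1 S Ψ hB h11
    (fun a ha => h8 a (sm_D (fun k => (h7 k).symm) _ ha)) g g1 g2 g3 g4 d hd)

end H56.KURc
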