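/- CKS (S2193): the finished chapters. -/
import Cfsg.Agent.H32.CKTop
import Cfsg.Agent.H56.CkTop
import Cfsg.Agent.H56.CkPL
import Cfsg.Agent.H46.CKFr
import Cfsg.Agent.H46.CKSK
import Cfsg.Agent.H32.CKFou
import Cfsg.Agent.H26.CKQuo
import Cfsg.Agent.H9.CKAFin
import Cfsg.Agent.H38.CKR1
import Cfsg.Agent.H38.CKR2
import Cfsg.Agent.H38.CKG2
import Cfsg.Agent.H45.CKSplit
import Cfsg.Agent.H66.CKOFin
import Cfsg.Agent.H66.CKUFin

set_option autoImplicit false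

namespace H56.CK

theorem finL : H32.CK.JobL := jobL H46.CKFr.jobFr H26.CKQ.jobQuo

theorem finSp : H32.CK.JobSp := jobSp H46.CKSK.jobSK

theorem finXSp : H32.CK.JobXSp := jobXSp H46.CKSK.jobSK H32.CKF.jobFou

theorem finP : H32.CK.JobP := H9.CK.jobP_of_PL jobPL

/-- What is left of the assembly. -/
theorem jobs (g2 : H32.CK.JobG2) (f4 : H32.CK.JobF4) (te6 : H32.CK.Job2E6) (td4 : H32.CK.Job3D4)
    (tf4 : H32.CK.Job2F4) (xf4 : H32.CK.JobXF4) : H32.CK.Jobs :=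
  ⟨finP, H9.CK.jobA, H38.CK.jobL2, finL, finSp, H38.CK.jobU3, H66.CK.finU, H66.CK.finOo,
    H66.CK.finOp, H66.CK.finOm, g2, f4, H45.CK.jobE6, H45.CK.jobE7, H45.CK.jobE8, te6, td4,
    H38.CK.jobSz, tf4, H38.CK.jobRee, finXSp, xf4, H38.CK.jobXG2⟩

end H56.CK
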