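import Cfsg.Agent.H56.CySpec

/-! # S3916, job TR: the transfer commutes with automorphisms -/

set_option autoImplicit false

namespace H56.CY

open Subgroup MonoidHom

universe u

variable {G : Type*} [Group G] {T : Subgroup G} {A B : Type*} [CommGroup A] [CommGroup B]

theorem sec_mem {f : G ⧸ T → G} (hf : ∀ q, (f q : G ⧸ T) = q) (g : G) (q : G ⧸ T) :
    (f q)⁻¹ * (g * f (g⁻¹ • q)) ∈ T := by
  rw [← QuotientGroup.eq, hf, ← smul_eq_mul, ← MulAction.Quotient.smul_coe, hf, smul_inv_smul]

theorem transfer_sec [T.FiniteIndex] [Fintype (G ⧸ T)] (ϕ : T →* A) {f : G ⧸ T → G}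
    (hf : ∀ q, (f q : G ⧸ T) = q) (g : G) :
    transfer ϕ g = ∏ q, ϕ ⟨(f q)⁻¹ * (g * f (g⁻¹ • q)), sec_mem hf g q⟩ := by
  rw [transfer_def ϕ ⟨Set.range f, isComplement_range_left hf⟩ g, leftTransversals.diff]
  refine Finset.prod_congr (by ext; simp) fun q _ => congrArg ϕ (Subtype.ext ?_)
  simp only [smul_apply_eq_smul_apply_inv_smul, IsComplement.leftQuotientEquiv_apply hf,
    smul_eq_mul]

theorem transfer_aut [T.FiniteIndex] (ϕ : T →* A) (ϕ' : T →* B) (ψ : A →* B) (α : G ≃* G)
    (hα : ∀ x, α x ∈ T ↔ x ∈ T) (h : ∀ t : T, ψ (ϕ t) = ϕ' ⟨α t, (hα t).2 t.2⟩) (g : G) :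
    ψ (transfer ϕ g) = transfer ϕ' (α g) := by
  let _ := T.fintypeQuotientOfFiniteIndex
  let e : G ⧸ T ≃ G ⧸ T := Quotient.congr α.toEquiv fun a b => by
    rw [QuotientGroup.leftRel_apply, QuotientGroup.leftRel_apply, ← hα, map_mul, map_inv]
    rfl
  have he : ∀ x : G, e (x : G ⧸ T) = (α x : G ⧸ T) := fun x => rfl
  have hs : ∀ (x : G) (q : G ⧸ T), e (x • q) = α x • e q := by
    intro x q
    obtain ⟨y, rfl⟩ := QuotientGroup.mk_surjective q
    rw [MulAction.Quotient.smul_coe, he, he, MulAction.Quotient.smul_coe, smul_eq_mul,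
      smul_eq_mul, map_mul]
  have hf : ∀ q : G ⧸ T, ((Quotient.out q : G) : G ⧸ T) = q := Quotient.out_eq'
  have hf' : ∀ q : G ⧸ T, ((α (Quotient.out (e.symm q)) : G) : G ⧸ T) = q := fun q => by
    rw [← he, hf, Equiv.apply_symm_apply]
  rw [transfer_sec ϕ hf, transfer_sec ϕ' hf', map_prod]
  refine Fintype.prod_equiv e _ _ fun q => ?_
  rw [h]
  refine congrArg ϕ' (Subtype.ext ?_)
  simp only [Equiv.symm_apply_apply, map_mul, map_inv]
  rw [← map_inv α g, ← hs, Equiv.symm_apply_apply]

theorem transfer_res [T.FiniteIndex] (ϕ : T →* A) (ψ : A →* B) (l : G →* B)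
    (h : ∀ t : T, ψ (ϕ t) = l t) (g : G) : ψ (transfer ϕ g) = l g ^ T.index := by
  let _ := T.fintypeQuotientOfFiniteIndex
  have hf : ∀ q : G ⧸ T, ((Quotient.out q : G) : G ⧸ T) = q := Quotient.out_eq'
  rw [transfer_sec ϕ hf, map_prod]
  simp only [h, map_mul, map_inv, Finset.prod_mul_distrib, Finset.prod_inv_distrib,
    Finset.prod_const, Finset.card_univ]
  rw [Fintype.prod_equiv (MulAction.toPerm g⁻¹) (fun q : G ⧸ T => l (g⁻¹ • q).out)
    (fun q => l q.out) fun _ => rfl, index, Nat.card_eq_fintype_card, mul_comm, mul_assoc,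
    mul_inv_cancel, mul_one]

open Classical in
/-- The sign character of a subgroup of index two. -/
noncomputable def sg {S : Subgroup G} (h : S.index = 2) : G →* ℤˣ :=
  MonoidHom.mk' (fun x => if x ∈ S then 1 else -1) fun a b => by
    by_cases ha : a ∈ S <;> by_cases hb : b ∈ S <;> simp [mul_mem_iff_of_index_two h, ha, hb]

theorem sg_mem {S : Subgroup G} (h : S.index = 2) {x : G} (hx : x ∈ S) : sg h x = 1 := if_pos hx

theorem sg_not {S : Subgroup G} (h : S.index = 2) {x : G} (hx : x ∉ S) : sg h x = -1 := if_neg hx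

theorem jobTR : JobTR.{u} := by
  intro H _ _ S T h2 hS
  obtain ⟨y, hy⟩ : ∃ y, y ∉ S := by
    by_contra h
    push Not at h
    rw [(eq_top_iff' S).2 h, index_top] at h2
    omega
  let V := transfer (Abelianization.of : (T : Subgroup H) →* _)
  obtain ⟨t, ht⟩ : ∃ t, Abelianization.of t = V y := QuotientGroup.mk_surjective (V y)
  refine ⟨t, t.2, fun h => ?_, fun α h3 h4 => ?_⟩
  · have h5 := transfer_res (Abelianization.of : (T : Subgroup H) →* _)
      (Abelianization.lift ((sg h2).comp (T : Subgroup H).subtype)) (sg h2) (fun _ => rfl) y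
    have h6 : Odd (T : Subgroup H).index := by
      rw [← Nat.not_even_iff_odd, even_iff_two_dvd]
      exact T.not_dvd_index
    rw [sg_not h2 hy, h6.neg_one_pow] at h5
    change Abelianization.lift _ (V y) = _ at h5
    rw [← ht] at h5
    change sg h2 t = _ at h5
    rw [sg_mem h2 h] at h5
    exact absurd h5 (by decide)
  · let β : (T : Subgroup H) →* (T : Subgroup H) :=
      ((α : H →* H).comp (T : Subgroup H).subtype).codRestrict _ fun x => (h4 x).2 x.2
    have h5 := transfer_aut (Abelianization.of : (T : Subgroup H) →* _) Abelianization.of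
      (Abelianization.map β) α h4 (fun _ => rfl) y
    have h6 : V (y⁻¹ * α y) = 1 := Abelianization.commutator_subset_ker V (hS (by
      rw [mul_mem_iff_of_index_two h2, inv_mem_iff, h3]))
    rw [map_mul, map_inv, inv_mul_eq_one] at h6
    change Abelianization.map β (V y) = V (α y) at h5
    rw [← h6, ← ht, Abelianization.map_of] at h5
    have h7 : t⁻¹ * β t ∈ commutator (T : Subgroup H) := by
      rw [← Abelianization.ker_of, mem_ker, map_mul, map_inv, h5, inv_mul_cancel]
    rw [← map_subtype_commutator]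
    exact ⟨_, h7, rfl⟩

end H56.CY
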