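/- Tower DG (S5732): the assembly. -/
import Cfsg.Agent.H56.DgSpec
import Cfsg.Agent.S3549
import Cfsg.Agent.S3550

set_option autoImplicit false

namespace H56.DG

universe u v

theorem top (aff : JobAff.{u, v}) (as : JobAs) : ∃ N : ℕ, ∀ (G : Type u) (Ω : Type v) [Group G]
    [Finite G] [MulAction G Ω] [FaithfulSMul G Ω] [Fintype Ω],
      MulAction.IsPretransitive G Ω → N ≤ Fintype.card Ω →
      (MulAction.IsPreprimitive G Ω ∧ (MulAction.IsPretransitive G Ω ∧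
        (∃ g : G, g ≠ 1 ∧ ∃ ω : Ω, g • ω = ω) ∧
        ∀ g : G, g ≠ 1 → Nat.card (MulAction.fixedBy Ω g) ≤ 1)) ∨
      ((Subgroup.closure {g : G | ∀ ω : Ω, g • ω ≠ ω}).index : ℝ) ≤
        Real.sqrt (Fintype.card Ω) - 1 := by
  obtain ⟨N, hN⟩ := as
  refine ⟨N + 4, fun G Ω _ _ _ _ _ ht hn => ?_⟩
  rw [← Nat.card_eq_fintype_card] at hn ⊢
  have fin : ((Subgroup.closure {g : G | ∀ ω : Ω, g • ω ≠ ω}).index + 1) ^ 2 ≤ Nat.card Ω →
      ((Subgroup.closure {g : G | ∀ ω : Ω, g • ω ≠ ω}).index : ℝ) ≤ Real.sqrt (Nat.card Ω) - 1 := by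
    intro h
    rw [le_sub_iff_add_le]
    apply Real.le_sqrt_of_sq_le
    exact_mod_cast h
  by_cases hp : MulAction.IsPreprimitive G Ω
  swap
  · exact Or.inr (Cfsg.Agent.S3549.result ht hp)
  by_cases ha : ∀ N : Subgroup G, N.Normal → IsMulCommutative N → N = ⊥
  · exact Or.inr (Cfsg.Agent.S3550.result hp (by omega) ha)
  push Not at ha
  obtain ⟨A, h1, h2, h3⟩ := ha
  by_cases hf : ∃ g : G, g ≠ 1 ∧ ∃ ω : Ω, g • ω = ω
  swap
  · refine Or.inr (fin ?_)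
    have : Subgroup.closure {g : G | ∀ ω : Ω, g • ω ≠ ω} = ⊤ := by
      rw [eq_top_iff]
      intro g _
      by_cases e : g = 1
      · rw [e]; exact one_mem _
      · exact Subgroup.subset_closure fun ω h => hf ⟨g, e, ω, h⟩
    rw [this, Subgroup.index_top]
    omega
  by_cases hF : ∀ g : G, g ≠ 1 → Nat.card (MulAction.fixedBy Ω g) ≤ 1
  · exact Or.inl ⟨hp, ht, hf, hF⟩
  push Not at hF
  obtain ⟨g, hg, h⟩ := hF
  obtain ⟨a, b, hab⟩ := (Finite.one_lt_card_iff_nontrivial.1 h).exists_pair_ne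
  refine Or.inr (fin ?_)
  rcases aff G Ω A hp h1 h2 h3 ⟨g, hg, a, b, fun e => hab (Subtype.ext e), a.2, b.2⟩ with
    e | ⟨r, w, e1, e2, e3⟩
  · exact e
  · exact hN _ _ r w (by omega) e1 e2 e3

end H56.DG
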