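/- Row S4514 (Herzog): the character theory. -/
import Cfsg.Agent.H34.AbC
import Cfsg.Agent.H35.PRegInd
import Cfsg.Agent.H35.GalB

set_option autoImplicit false

namespace H56.HZ
open Cfsg Subgroup H28 H35 H34 H41
open scoped ComplexConjugate

universe u

variable {G : Type u} [Group G] {M : Ideal AlgInt}

/-- the hypothesis -/
def Hy (M : Ideal AlgInt) (u : G) (k : ℂ) : Prop :=
  ∀ χ : IrrCharacter G, χ ∈ principalBlock M G → χ.1 ≠ (fun _ => 1) → χ.1 1 - χ.1 u = k

variable [Fintype G] [M.IsMaximal]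

open Classical in
/-- the non-principal characters of the principal block -/
noncomputable def NF (M : Ideal AlgInt) (G : Type u) [Group G] [Fintype G] : Finset (IrrCharacter G) :=
  (bF (principalBlock M G)).erase ⟨fun _ => 1, isIrrCharacter_one⟩

omit [M.IsMaximal] in
theorem mem_NF {χ : IrrCharacter G} : χ ∈ NF M G ↔ χ ∈ principalBlock M G ∧ χ.1 ≠ fun _ => 1 := by
  simp [NF, Subtype.ext_iff, and_comm]

theorem sumB (f : IrrCharacter G → ℂ) : ∑ χ ∈ bF (principalBlock M G), f χ =
    f ⟨fun _ => 1, isIrrCharacter_one⟩ + ∑ χ ∈ NF M G, f χ := by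
  classical
  exact (Finset.add_sum_erase _ _ (mem_bF.2 one_mem_principalBlock)).symm

variable (hM : IsPModular 2 M)
include hM

theorem orth {g h x y : G} (hx : IsPPart 2 g x) (hy : IsPPart 2 h y) (hxy : ¬ IsConj x y) :
    1 + ∑ χ ∈ NF M G, χ.1 g * conj (χ.1 h) = 0 := by
  have := bker_eq_zero_of_coeff_mem hM (blockCoeff_mem_S isPBlock_principalBlock) hx hy hxy
  rw [bker_eq_sum_bF, sumB] at this
  simpa using this

omit [Fintype G] in
theorem P_deg (χ : IrrCharacter G) : MemLocalIdeal M (χ.1 1 * (χ.1 1 - 1)) := by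
  obtain ⟨n, hn, e⟩ := χ.2.exists_degree_pos
  have := (P_natCast_iff hM (n := n * (n - 1))).2 (Nat.even_mul_pred_self n).two_dvd
  rwa [Nat.cast_mul, Nat.cast_pred hn, ← e] at this

variable {u t : G} {k : ℂ}

theorem conj2 (h : Hy M u k) (hk : k ≠ 0) (ht : IsPPart 2 u t) {x : G}
    (hx : ∃ n, orderOf x = 2 ^ n) (x1 : x ≠ 1) : IsConj x t := by
  by_contra hc
  have px := isPPart_self Nat.prime_two hx
  have h1 := orth hM px (isPPart_one_of_not_dvd (g := (1 : G)) (by simp)) (by simpa using x1)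
  have h2 := orth hM px ht hc
  have h3 : (∑ χ ∈ NF M G, χ.1 x) * conj k = 0 := by
    rw [Finset.sum_mul, Finset.sum_congr rfl fun χ hχ => by
      rw [← h χ (mem_NF.1 hχ).1 (mem_NF.1 hχ).2, map_sub, mul_sub], Finset.sum_sub_distrib]
    linear_combination h1 - h2
  have h4 := (mul_eq_zero.1 h3).resolve_right (by simpa using hk)
  obtain ⟨n, hn⟩ := hx
  have h5 := P_sum (M := M) (NF M G) (fun χ => χ.1 x - χ.1 x * conj (χ.1 1)) fun χ _ => by
    have k1 := P_char_mul_sub hM χ.2.isCharacter (hn ▸ pow_orderOf_eq_one x) (Commute.one_right x)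
    have := P_neg (P_add (P_mul_right k1 (sub_mem (char_mem_S χ.2.isCharacter 1) (one_mem _)))
      (P_deg hM χ))
    rw [χ.2.isCharacter.conj_apply_one]
    convert this using 1
    rw [mul_one]; ring
  rw [Finset.sum_sub_distrib, h4, show 0 - ∑ χ ∈ NF M G, χ.1 x * conj (χ.1 1) = 1 by
    linear_combination -h1] at h5
  exact P_not_one h5

theorem exists_small (h : Hy M u k) (hu : 2 ∣ orderOf u) :
    ∃ χ ∈ NF M G, charDegree χ.1 < 2 ^ (Nat.card G).factorization 2 := by
  have h1 := smul_pReg_eq_sum_cz hM isPBlock_principalBlock (one_mem_principalBlock (M := M) (G := G))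
  rw [H36.blockDefect_principalBlock hM.1] at h1
  set q := 2 ^ (Nat.card G).factorization 2 with hq
  set c := fun ψ : IrrCharacter G => cz 2 (principalBlock M G) (fun _ => 1) ψ
  have h2 := congrFun h1 1
  have h3 := congrFun h1 u
  simp only [Pi.smul_apply, Finset.sum_apply, smul_eq_mul, sumB, pReg_of_sing _ hu,
    pReg_one Nat.prime_two] at h2 h3
  have h4 : (q : ℂ) = (∑ χ ∈ NF M G, c χ : ℤ) * k := by
    rw [Int.cast_sum, Finset.sum_mul, Finset.sum_congr rfl fun χ hχ => by
      rw [← h χ (mem_NF.1 hχ).1 (mem_NF.1 hχ).2, mul_sub], Finset.sum_sub_distrib, hq]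
    push_cast
    linear_combination h2 - h3
  generalize ∑ χ ∈ NF M G, c χ = m at h4
  have q0 : 0 < q := by positivity
  have m0 : m ≠ 0 := by rintro rfl; simp [q0.ne'] at h4
  have h5 : k.re ≤ q := by
    have := congrArg norm h4
    rw [norm_mul, Complex.norm_intCast, Complex.norm_natCast] at this
    have h6 : (1 : ℝ) ≤ |(m : ℝ)| := by exact_mod_cast Int.one_le_abs m0
    nlinarith [Complex.re_le_norm k, norm_nonneg k]
  obtain ⟨t, ht⟩ := exists_isPPart Nat.prime_two u
  have h6 := congrArg Complex.re (orth hM ht (isPPart_one_of_not_dvd (g := (1 : G)) (by simp))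
    (by simpa using ne_one_of_isPPart ht hu))
  rw [Complex.add_re, Complex.re_sum] at h6
  by_contra! h7
  have := Finset.sum_nonneg (s := NF M G) (f := fun χ => (χ.1 u * conj (χ.1 1)).re) fun χ hχ => by
    have k1 := congrArg Complex.re (h χ (mem_NF.1 hχ).1 (mem_NF.1 hχ).2)
    have k2 : (q : ℝ) ≤ charDegree χ.1 := by exact_mod_cast h7 χ hχ
    rw [← coe_deg] at k1 ⊢
    simp only [Complex.sub_re, Complex.natCast_re, map_natCast, Complex.mul_re, Complex.natCast_im,
      mul_zero, sub_zero] at k1 ⊢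
    exact mul_nonneg (by linarith) (Nat.cast_nonneg _)
  simp only [Complex.one_re, Complex.zero_re] at h6
  linarith

theorem mem_prin (P : Sylow 2 G) {E : Subgroup G} [E.Normal] (hE : ¬ 2 ∣ E.index)
    (hC : centralizer ((P : Subgroup G) : Set G) ≤ E) {χ : IrrCharacter G} (hχ : E ≤ charKer χ.1) :
    χ ∈ principalBlock M G := by
  have hd : ¬ 2 ∣ charDegree χ.1 := fun h => by
    obtain ⟨η, hη, e⟩ := χ.2.exists_quotient E hχ
    rw [show charDegree χ.1 = charDegree η by rw [charDegree, charDegree, ← e]; rfl] at h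
    exact hE (h.trans (charDegree_dvd_card hη))
  intro g
  have h0 := χ.2.apply_one_ne_zero
  simp only [centralChar]
  by_cases hg : 2 ∣ (centralizer ({g} : Set G)).index
  · have := (P_natCast_iff hM).2 hg
    refine P_sub (by simpa using this) ?_
    rw [mul_div_assoc, div_eq_mul_inv, ← coe_deg]
    exact P_mul_right this (mul_mem (char_mem_S χ.2.isCharacter g) (inv_natCast_mem_S hM hd))
  · obtain ⟨S, hS⟩ : ∃ S : Sylow 2 G, (S : Subgroup G) ≤ centralizer ({g} : Set G) := by
      obtain ⟨S⟩ : Nonempty (Sylow 2 (centralizer ({g} : Set G))) := inferInstance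
      refine ⟨(S.2.map (centralizer ({g} : Set G)).subtype).toSylow ?_, map_subtype_le _⟩
      rw [index_map_subtype]
      exact fun h => (Nat.prime_two.dvd_mul.1 h).elim S.not_dvd_index hg
    obtain ⟨x, rfl⟩ := MulAction.exists_smul_eq G P S
    have : x⁻¹ * g * x⁻¹⁻¹ ∈ E := hC fun y hy => by
      have := mem_centralizer_singleton_iff.1 (hS (mem_map_of_mem _ hy))
      simp only [MulDistribMulAction.toMonoidEnd_apply, MulDistribMulAction.toMonoidHom_apply,
        MulAut.smul_def, MulAut.conj_apply] at this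
      rw [inv_inv, ← mul_left_inj x⁻¹, ← mul_right_inj x]
      simpa [mul_assoc] using this
    rw [apply_of_mem_charKer (hχ (show g ∈ E by
      simpa [mul_assoc] using (Normal.mem_comm inferInstance this))), mul_div_assoc, mul_div_assoc,
      div_self h0, div_self one_ne_zero, sub_self]
    exact P_zero

theorem eq_top (h : Hy M u k) (hk : k ≠ 0) (P : Sylow 2 G) {E : Subgroup G} [E.Normal]
    (hC : centralizer ((P : Subgroup G) : Set G) ≤ E) (hP : (P : Subgroup G) ≤ E) : E = ⊤ := by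
  classical
  have hE : ¬ 2 ∣ E.index := fun h => P.not_dvd_index (h.trans (index_dvd_of_le hP))
  by_contra hne
  obtain ⟨g, hg⟩ : ∃ g, g ∉ E := by simpa [eq_top_iff'] using hne
  obtain ⟨χ, hχ, k1, k2⟩ := exists_irr_le_charKer_not_mem E hg
  have k3 := h ⟨χ, hχ⟩ (mem_prin hM P hE hC k1) fun e => k2 (by
    rw [show χ = _ from e, charKer_one]; trivial)
  have hu : u ∉ E := fun hu => hk (k3 ▸ sub_eq_zero.2 (apply_of_mem_charKer (k1 hu)).symm)
  have h1 := sum_degree_mul_apply_ker E 1
  have h2 := sum_degree_mul_apply_ker E u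
  rw [if_pos (one_mem _)] at h1
  rw [if_neg hu] at h2
  set T := Finset.univ.filter fun χ : IrrCharacter G => E ≤ charKer χ.1
  have hT : (⟨fun _ => 1, isIrrCharacter_one⟩ : IrrCharacter G) ∈ T := by simp [T, charKer_one]
  rw [← Finset.add_sum_erase _ _ hT] at h1 h2
  have h3 : (E.index : ℂ) = k * ((E.index - 1 : ℕ) -
      ∑ χ ∈ T.erase ⟨fun _ => 1, isIrrCharacter_one⟩, χ.1 1 * (χ.1 1 - 1)) := by
    have : ∑ χ ∈ T.erase ⟨fun _ => 1, isIrrCharacter_one⟩, χ.1 1 * (χ.1 1 - χ.1 u) =
        (∑ χ ∈ T.erase ⟨fun _ => 1, isIrrCharacter_one⟩, χ.1 1) * k := by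
      rw [Finset.sum_mul]
      refine Finset.sum_congr rfl fun ψ hψ => ?_
      rw [Finset.mem_erase] at hψ
      rw [h ψ (mem_prin hM P hE hC (Finset.mem_filter.1 hψ.2).2) fun e => hψ.1 (Subtype.ext e)]
    simp only [mul_sub, Finset.sum_sub_distrib, mul_one] at this ⊢
    rw [Nat.cast_pred (Nat.pos_of_ne_zero index_ne_zero_of_finite)]
    linear_combination this - (1 - k) * h1 + h2
  refine hE ((P_natCast_iff hM).1 (h3 ▸ P_mul_left (k3 ▸ sub_mem (char_mem_S hχ.isCharacter _)
    (char_mem_S hχ.isCharacter _)) (P_sub ((P_natCast_iff hM).2 (by omega))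
      (P_sum _ _ fun ψ _ => P_deg hM ψ))))

end H56.HZ
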