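/- Row S4514 (Herzog): the structure of the group. -/
import Cfsg.Agent.H56.Herz1
import Cfsg.Agent.H42.ReeFinal
import Cfsg.Agent.S4503

set_option autoImplicit false

namespace H56.HZ
open Cfsg Subgroup H28 H35 H34 H41 H10.W

universe u

theorem deg_L2 {L : Type u} [Group L] [Finite L] {q : ℕ} (h : IsL2 L q) {χ : L → ℂ}
    (hχ : IsCharacter L χ) {g : L} (hg : χ g ≠ χ 1) : q ≤ 2 * charDegree χ + 1 := by
  classical
  obtain ⟨F, _, _, rfl, ⟨e⟩⟩ := h
  let π : H33.SL2 F →* L := e.symm.toMonoidHom.comp (H61.proj F)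
  obtain ⟨x, rfl⟩ : ∃ x, π x = g := (e.symm.surjective.comp H61.proj_surjective) g
  have hψ := hχ.comp π
  obtain ⟨φ, hφ, h1, h2⟩ : ∃ φ, IsIrrCharacter _ φ ∧ classInner (fun x => χ (π x)) φ ≠ 0 ∧
      x ∉ charKer φ := by
    by_contra! k
    exact hg (by simpa using apply_of_mem_charKer (hψ.mem_charKer_iff_constituents.2 k))
  obtain ⟨m, hm⟩ := hψ.classInner_nat hφ.isCharacter
  have h3 := hψ.mult_mul_degree_le hφ hm (d := charDegree χ) (by simp [hχ.cast_charDegree])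
    hφ.cast_charDegree.symm
  have h4 : charDegree φ ≤ charDegree χ :=
    (Nat.le_mul_of_pos_left _ (Nat.pos_of_ne_zero (by rintro rfl; exact h1 (by simpa using hm)))).trans h3
  obtain ⟨a, ha⟩ := H33.exists_isEll (F := F)
  have := hφ.charDegree_pos
  rcases H33.sl2_cases_deg ha hφ with ⟨k, -⟩ | ⟨-, k⟩ | ⟨-, k⟩ | ⟨-, k⟩ | ⟨-, k⟩ | ⟨-, k⟩
  · exact (h2 (by rw [k, charKer_one]; trivial)).elim
  all_goals
    rw [← hφ.cast_charDegree] at k
    try rw [eq_sub_iff_add_eq] at k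
    norm_cast at k
    omega

variable {G : Type u} [Group G] [Finite G]

theorem comp_normal (hG : Ab2 G) (hO : oddCore G = ⊥) (P : Sylow 2 G)
    (h : ∀ a ∈ (P : Subgroup G), ∀ b ∈ (P : Subgroup G), a ≠ 1 → b ≠ 1 → IsConj a b) {L : Subgroup G}
    (hL : IsComponent L) : L.Normal ∧ (P : Subgroup G) ≤ L := by
  have dis : ∀ x ∈ L, x ∈ centralizer (L : Set G) → x = 1 := fun x h1 h2 => by
    have := ((H55.W.jobA0 G hG hO).2 L hL).1
    rcases (inferInstance : (center L).Normal).eq_bot_or_eq_top with k | k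
    · exact congrArg Subtype.val (k.le (show (⟨x, h1⟩ : L) ∈ center L from
        mem_center_iff.2 fun y => Subtype.ext (h2 y y.2)))
    · exact (H14.comp_not_le_centralizer hL fun a ha b hb => congrArg Subtype.val
        (mem_center_iff.1 (k.ge (mem_top (⟨a, ha⟩ : L))) ⟨b, hb⟩)).elim
  have ex : ∀ {K : Subgroup G}, IsComponent K → ∃ s ∈ (P : Subgroup G), s ∈ K ∧ s ≠ 1 := fun hK => by
    obtain ⟨-, -, -, -, k, -⟩ := Ab.comp_singer hG hO hK P
    obtain ⟨⟨s, hs⟩, s1⟩ := ne_bot_iff_exists_ne_one.1 k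
    exact ⟨s, hs.1, hs.2, fun e => s1 (Subtype.ext e)⟩
  have alt : ∀ g : G, L.map (MulAut.conj g).toMonoidHom = L ∨
      L.map (MulAut.conj g).toMonoidHom ≤ centralizer (L : Set G) := fun g =>
    (H14.comp_eq_or_commute (H14.comp_map_conj hL g) hL).imp id commutator_eq_bot_iff_le_centralizer.1
  obtain ⟨s, s0, sL, s1⟩ := ex hL
  have nor : L.Normal := ⟨fun x hx g => by
    rcases alt g with k | k
    · exact k.le ⟨x, hx, rfl⟩
    obtain ⟨r, r0, rL, r1⟩ := ex (H14.comp_map_conj hL g)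
    have rC := k rL
    obtain ⟨c, hc⟩ := isConj_iff.1 (h s s0 (s * r) (mul_mem s0 r0) s1 fun e =>
      s1 (dis s sL (eq_inv_of_mul_eq_one_left e ▸ inv_mem rC)))
    rcases alt c with k' | k'
    · exact (r1 (dis r ((mul_mem_cancel_left sL).1 (hc ▸ k'.le ⟨s, sL, rfl⟩)) rC)).elim
    · exact (s1 (dis s sL ((mul_mem_cancel_right rC).1 (hc ▸ k' ⟨s, sL, rfl⟩)))).elim⟩
  refine ⟨nor, fun x hx => ?_⟩
  by_cases x1 : x = 1
  · exact x1 ▸ one_mem _
  obtain ⟨c, rfl⟩ := isConj_iff.1 (h s s0 x hx s1 x1)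
  exact nor.conj_mem s sL c

theorem main {M : Ideal AlgInt} (hM : IsPModular 2 M) (hO : oddCore G = ⊥) {u : G} {k : ℂ}
    (h : Hy M u k) (u1 : u ≠ 1) : Nat.card G = 2 ∨ (IsL2E G ∧ u ^ 2 = 1) := by
  have := hM.2.1
  have := Fintype.ofFinite G
  have odd : ∀ (K : Subgroup G) [K.Normal], K = ⊥ ∨ ∃ x ∈ K, orderOf x = 2 := fun K _ => by
    by_cases hK : 2 ∣ Nat.card K
    · exact .inr (H14.exists_involution_mem hK)
    · exact .inl (le_bot_iff.1 ((H2.le_pPrimeCore_of_not_dvd hK).trans hO.le))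
  have hk : k ≠ 0 := by
    rintro rfl
    refine u1 (hO.le ((H37.blockKerSub_principalBlock hM).le (H37.mem_blockKerSub.2 fun χ hχ =>
      χ.2.mem_charKer.2 ?_)))
    by_cases e : χ.1 = fun _ => 1
    · rw [e]
    · exact (sub_eq_zero.1 (h χ hχ e)).symm
  obtain ⟨t, ht⟩ := exists_isPPart Nat.prime_two u
  have one := fun x => conj2 hM h hk ht (x := x)
  have one2 : ∀ x : G, orderOf x = 2 → IsConj x t := fun x hx =>
    one x ⟨1, hx⟩ (H14.ne_one_of_two hx)
  have t2 : orderOf t = 2 := by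
    obtain ⟨x, -, hx⟩ := (odd ⊤).resolve_left fun e => u1 (e.le (mem_top u))
    obtain ⟨c, rfl⟩ := isConj_iff.1 (one2 x hx)
    rw [H14.orderOf_conj', hx]
  have t1 := H14.ne_one_of_two t2
  have oneS : ∀ S : Subgroup G, IsPGroup 2 S → ∀ x ∈ S, x ≠ 1 → IsConj x t := fun S hS x hx =>
    one x (by
      obtain ⟨n, hn⟩ := IsPGroup.iff_orderOf.1 hS ⟨x, hx⟩
      exact ⟨n, by rw [← hn, orderOf_mk]⟩)
  have hG : Ab2 G := ab2_iff.2 fun Q hQ a ha b hb => by
    have sq : ∀ x ∈ Q, x⁻¹ = x := fun x hx => by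
      by_cases x1 : x = 1
      · simp [x1]
      obtain ⟨c, rfl⟩ := isConj_iff.1 (oneS Q hQ x hx x1).symm
      exact H14.inv_eq_of_two (by rw [H14.orderOf_conj', t2])
    rw [← sq _ (mul_mem ha hb), mul_inv_rev, sq a ha, sq b hb]
  obtain ⟨P, tP⟩ : ∃ P : Sylow 2 G, t ∈ (P : Subgroup G) := by
    obtain ⟨P, hP⟩ := (H98.isPGroup_zpowers (p := 2) (x := t) (k := 1)
      (by simpa [t2] using pow_orderOf_eq_one t)).exists_le_sylow
    exact ⟨P, hP (mem_zpowers t)⟩
  have oneP := oneS P P.isPGroup'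
  have gen : ∀ (K : Subgroup G) [K.Normal], t ∈ K → (P : Subgroup G) ≤ K ∧
      K ⊔ centralizer ((P : Subgroup G) : Set G) = ⊤ := fun K hK tK => by
    have l : (P : Subgroup G) ≤ K := fun x hx => by
      by_cases x1 : x = 1
      · exact x1 ▸ one_mem _
      obtain ⟨c, rfl⟩ := isConj_iff.1 (oneP x hx x1).symm
      exact hK.conj_mem t tK c
    have : (K ⊔ centralizer ((P : Subgroup G) : Set G)).Normal := by
      rw [← normalizer_eq_top_iff, eq_top_iff, ← P.normalizer_sup_eq_top' l]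
      exact sup_le (le_trans (le_inf (le_top.trans (normalizer_eq_top K).ge)
        (H98.normalizer_le_normalizer_centralizer _)) (normalizer_inf_normalizer_le_normalizer_sup _ _))
        (le_sup_left.trans le_normalizer)
    exact ⟨l, eq_top hM h hk P le_sup_right (l.trans le_sup_left)⟩
  obtain ⟨χ, hχ, hd⟩ := exists_small hM h (by
    by_contra e
    exact t1 (H34.isPPart_unique Nat.prime_two ht (isPPart_one_of_not_dvd e)))
  rw [mem_NF] at hχ
  rw [← P.card_eq_multiplicity] at hd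
  have faith : ∀ g, χ.1 g = χ.1 1 → g = 1 := by
    have := χ.2.charKer_normal
    rcases odd (charKer χ.1) with e | ⟨x, hx, x2⟩
    · exact fun g hg => e.le (χ.2.mem_charKer.2 hg)
    obtain ⟨c, hc⟩ := isConj_iff.1 (one2 x x2)
    obtain ⟨l, e⟩ := gen (charKer χ.1) (hc ▸ this.conj_mem x hx c)
    exact (hχ.2 ((prin_le_ker_iff hM (fun h => P.not_dvd_index (h.trans (index_dvd_of_le l))) P e χ).1
      ⟨hχ.1, le_rfl⟩)).elim
  by_cases hl : layer G = ⊥
  · have e := Ab.sylow_eq_pCore hG hO hl P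
    have : (P : Subgroup G).Normal := e ▸ inferInstance
    have h1 : centralizer ((P : Subgroup G) : Set G) ≤ P := by
      rw [← e, ← H14.fstar_eq_pCore_of (p := 2) hl hO]
      exact H14.centralizer_fstar_le
    have h2 : ∀ x, x ∈ (P : Subgroup G) := fun x =>
      (sup_le le_rfl h1 : _ ≤ (P : Subgroup G)) ((gen P tP).2.ge (mem_top x))
    refine .inl ((Nat.card_eq_two_iff' 1).2 ⟨t, t1, fun x x1 => ?_⟩)
    obtain ⟨c, hc⟩ := isConj_iff.1 (oneP x (h2 x) x1)
    rw [← hc, hG.comm_sylow P (h2 c) (h2 x), mul_inv_cancel_right]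
  obtain ⟨L, hL⟩ := not_forall_not.1 (mt H14.layer_eq_bot_iff.2 hl)
  obtain ⟨nor, l⟩ := comp_normal hG hO P (fun a ha b hb a1 b1 =>
    (oneP a ha a1).trans (oneP b hb b1).symm) hL
  have cT : Nat.card (P.subtype l : Subgroup L) = Nat.card (P : Subgroup G) := by
    rw [P.coe_subtype]; exact Nat.card_congr (subgroupOfEquivOfLe l).toEquiv
  have hχL := χ.2.isCharacter.restrict L
  have ev : IsL2E L → IsL2E G ∧ u ^ 2 = 1 := fun hE => by
    have cL : centralizer (L : Set G) = ⊥ := (odd _).resolve_right fun ⟨x, hx, x2⟩ => by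
      obtain ⟨c, hc⟩ := isConj_iff.1 (one2 x x2).symm
      exact H14.ne_one_of_two x2 ((Ab.comp_disjoint hG hO hL).le_bot
        ⟨hc ▸ nor.conj_mem t (l tP) c, hx⟩)
    have cP : ∀ g : L, g * ⟨t, l tP⟩ = ⟨t, l tP⟩ * g → (g : G) ∈ (P : Subgroup G) := fun g hg => by
      have k1 : IsPGroup 2 (centralizer ({⟨t, l tP⟩} : Set L)) := fun a => ⟨1, Subtype.ext (by
        rw [pow_one, pow_two]
        exact H24.IsL2E.sq hE ⟨t, l tP⟩ a (by rw [orderOf_mk, t2]) (mem_centralizer_singleton_iff.1 a.2))⟩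
      have k2 := (P.subtype l).is_maximal' k1 fun a ha =>
        mem_centralizer_singleton_iff.2 (Subtype.ext (hG.comm_sylow P ha tP))
      exact k2.le (mem_centralizer_singleton_iff.2 hg)
    have top : L = ⊤ := by
      rw [eq_top_iff, ← (gen L (l tP)).2]
      refine sup_le le_rfl fun c hc => ?_
      obtain ⟨x, hx⟩ := exists_isPPart Nat.prime_two c
      have xc : x ∈ centralizer ((P : Subgroup G) : Set G) :=
        zpowers_le.2 hc (H37.mem_zpowers_of_isPPart Nat.prime_two hx)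
      obtain ⟨y, rfl, cm, x2, y2⟩ := hx
      have yc := (mul_mem_cancel_left xc).1 hc
      have xL : x ∈ L := by
        by_cases x1 : x = 1
        · exact x1 ▸ one_mem _
        obtain ⟨c, rfl⟩ := isConj_iff.1 (one x x2 x1).symm
        exact nor.conj_mem t (l tP) c
      have k1 : ∀ f ∈ zpowers (MulAut.conjNormal (H := L) y), ∀ g : L,
          (g : G) ∈ (P : Subgroup G) → f g = g := by
        rintro _ ⟨n, rfl⟩ g hg
        refine Subtype.ext ?_
        simp only [← map_zpow, MulAut.conjNormal_apply]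
        rw [← zpow_mem yc n g hg, mul_inv_cancel_right]
      have k2 := (H24.IsL2E.facts hE).2 ⟨t, l tP⟩ (by rw [orderOf_mk, t2])
        (zpowers (MulAut.conjNormal y)) ⟨by
          rw [Nat.card_zpowers]
          exact (Nat.not_even_iff_odd.1 fun e => y2 e.two_dvd).of_dvd_nat (orderOf_map_dvd _ y),
          fun g hg f hf => by
            convert hf using 1
            have k3 := cP g (mem_centralizer_singleton_iff.1 hg)
            ext1 a
            simp only [MulAut.mul_apply, MulAut.conj_inv_apply, MulAut.conj_apply, map_mul, map_inv,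
              k1 f hf g k3]
            group⟩ fun f hf => k1 f hf _ tP
      have : y = 1 := cL.le fun a ha => by
        have := congrArg (fun f : MulAut L => (f ⟨a, ha⟩ : G)) (zpowers_eq_bot.1 k2)
        simp only [MulAut.conjNormal_apply, MulAut.one_apply] at this
        exact (mul_inv_eq_iff_eq_mul.1 this).symm
      rwa [this, mul_one]
    have hE' : IsL2E G := by
      obtain ⟨n, hn, F, _, _, hF, ⟨e⟩⟩ := hE
      exact ⟨n, hn, F, _, _, hF, ⟨(topEquiv.symm.trans (MulEquiv.subgroupCongr top.symm)).trans e⟩⟩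
    obtain ⟨y, rfl, cm, -⟩ := ht
    exact ⟨hE', by rw [pow_two]; exact H24.IsL2E.sq hE' t _ t2 (by rw [mul_assoc, cm.eq])⟩
  rcases Ab.comp_known hG hO hL with hE | ⟨q, h3, h8, hq⟩ | ⟨s, E, K, q, hJ⟩
  · exact .inr (ev hE)
  · rcases (show q = 5 ∨ 5 < q by omega) with rfl | h5
    · exact .inr (ev ⟨2, le_rfl, H24.isL2_four_iff.2 hq⟩)
    have h1 := ((H24.IsL2.facts_of_mod hq h5 h8).2.2 (P.subtype l)).card_four
    have h2 : q ≤ 2 * charDegree χ.1 + 1 := deg_L2 hq hχL (g := ⟨t, l tP⟩) fun e => t1 (faith t e)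
    omega
  · exfalso
    have h1 := ((H24.jobJR' L s E K q hJ).card_sylow (P.subtype l)).1
    obtain ⟨-, ⟨-, hs, hc⟩ | ⟨m, hm, rfl, -⟩⟩ := H42.Ree.walterB L s E K q hJ
    · have h2 : 19 ≤ 2 * charDegree χ.1 + 1 := Cfsg.Agent.S4503.result (G := L) 19 (by norm_num)
        (by rw [hc]; norm_num) (by rw [hc]; norm_num) (fun H hH e => by
          rcases hH.eq_bot_or_eq_top with rfl | rfl
          · simp at e
          · rw [card_top, hc] at e; omega) (fun x : L => χ.1 x) hχL fun g hg => Subtype.ext (faith g hg)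
      omega
    · have := (H24.IsL2.simple hJ.iso hJ.big).1
      obtain ⟨g, g1⟩ := exists_ne (1 : K)
      have h2 : 3 ^ (2 * m + 1) ≤ 2 * charDegree χ.1 + 1 := deg_L2 hJ.iso (hχL.restrict K) (g := g)
        fun e => g1 (Subtype.ext (Subtype.ext (faith _ e)))
      have : 3 ^ 3 ≤ 3 ^ (2 * m + 1) := Nat.pow_le_pow_right (by norm_num) (by omega)
      omega

theorem back {M : Ideal AlgInt} (hM : IsPModular 2 M) {u : G} (u1 : u ≠ 1)
    (h : Nat.card G = 2 ∨ (IsL2E G ∧ u ^ 2 = 1)) : ∃ k, Hy M u k := by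
  classical
  have := hM.2.1
  rcases h with h | ⟨⟨n, hn, F, _, _, hF, ⟨e⟩⟩, h⟩
  · have := Fintype.ofFinite G
    obtain ⟨x, x1, hx⟩ := (Nat.card_eq_two_iff' (1 : G)).1 h
    have cm : ∀ a b : G, a * b = b * a := fun a b => by
      by_cases a1 : a = 1
      · simp [a1]
      by_cases b1 : b = 1
      · simp [b1]
      rw [hx a a1, hx b b1]
    refine ⟨2, fun χ _ h1 => ?_⟩
    have h2 := χ.2.sum_eq_zero h1
    rw [Fintype.sum_eq_add 1 u u1.symm fun c hc => (hc.2 ((hx c hc.1).trans (hx u u1).symm)).elim] at h2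
    linear_combination 2 * χ.2.apply_one_of_comm cm - h2
  have := H85.charP_two_of_card (F := F) (hF ▸ Nat.even_pow.2 ⟨even_two, by omega⟩)
  have e' := e.trans (H61.slEquivPslOfTwo (CharTwo.two_eq_zero (R := F))).symm
  refine ⟨Fintype.card F, fun χ hχ h1 => ?_⟩
  obtain ⟨η, hη, rfl⟩ := (H38.image_infl_principalBlock hM (π := e'.toMonoidHom) e'.surjective (by
    rw [(MonoidHom.ker_eq_bot_iff _).2 e'.injective]; simp)).ge hχ
  obtain ⟨b, b0, hb⟩ := H33.exists_isConj_uS_of_orderOf 2 (g := e' u)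
    (by rw [MulEquiv.orderOf_eq]; exact orderOf_eq_prime h u1)
  obtain ⟨a, ha⟩ := H33.exists_isEll (F := F)
  change η.1 (e' 1) - η.1 (e' u) = _
  rw [map_one, η.2.isClassFunction.eq_of_isConj hb]
  rcases H33.sl2_cases_deg ha η.2 with ⟨k, -⟩ | ⟨-, k⟩ | ⟨⟨α, -, k'⟩, k⟩ | ⟨⟨θ, -, k'⟩, k⟩ | ⟨k, -⟩ | ⟨k, -⟩
  · exact (h1 (funext fun g => congrFun k (e' g))).elim
  · exact ((Ab.mem_prin_sl2 hM η).1 hη k).elim
  · rw [k, ← k', H33.rs_uS α b0]; ring
  · rw [k, ← k', H33.cuspS_uS ha θ b0]; ring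
  · exact (k.1 (ringChar.eq F 2)).elim
  · exact (k.1 (ringChar.eq F 2)).elim

theorem hy_quot {M : Ideal AlgInt} (hM : IsPModular 2 M) {u : G} {k : ℂ} :
    Hy M u k ↔ Hy M (u : G ⧸ oddCore G) k := by
  have := hM.2.1
  have hπ := QuotientGroup.mk'_surjective (oddCore G)
  have himg := H38.image_infl_principalBlock hM hπ (by
    rw [QuotientGroup.ker_mk']; exact H2.not_dvd_card_pPrimeCore 2 G)
  refine ⟨fun h η hη h1 => h (H38.infl hπ η) (himg.le ⟨η, hη, rfl⟩) fun e => h1 (funext fun x => ?_),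
    fun h χ hχ h1 => ?_⟩
  · obtain ⟨g, rfl⟩ := hπ x
    exact congrFun e g
  · obtain ⟨η, hη, rfl⟩ := himg.ge hχ
    exact h η hη fun e => h1 (funext fun g => by rw [H38.infl_apply, e])

theorem herzog {M : Ideal AlgInt} (hM : IsPModular 2 M) (u : G) : (∃ k, Hy M u k) ↔
    u ∈ oddCore G ∨ (Nat.card (G ⧸ oddCore G) = 2 ∧ u ∉ oddCore G) ∨
      (IsL2E (G ⧸ oddCore G) ∧ u ∉ oddCore G ∧ u ^ 2 ∈ oddCore G) := by
  simp only [hy_quot hM (u := u), ← QuotientGroup.eq_one_iff, QuotientGroup.mk_pow]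
  by_cases u1 : (u : G ⧸ oddCore G) = 1
  · exact iff_of_true ⟨0, fun χ _ _ => by rw [u1, sub_self]⟩ (.inl u1)
  refine ⟨fun ⟨k, h⟩ => .inr ((main hM (H2.pPrimeCore_quotient_pPrimeCore 2 G) h u1).imp
    (fun e => ⟨e, u1⟩) fun e => ⟨e.1, u1, e.2⟩), fun h => back hM u1 ?_⟩
  exact (h.resolve_left u1).imp (fun e => e.1) fun e => ⟨e.1, e.2.2⟩

end H56.HZ
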