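import Cfsg.Agent.H44.SC3
import Cfsg.Agent.Rz.H44_sel_eq_6

/-! Models `3³ : K` for the monomial groups `K = S₃, S₃ × 2, 2² : S₃, 2³ : S₃`. -/

set_option autoImplicit false
set_option maxRecDepth 100000
open H44

namespace H56.L3

def cmp (c x y z : ℕ) : ℕ :=
  match c with
  | 0 => x | 1 => y | 2 => z | 3 => (x + 3) % 6 | 4 => (y + 3) % 6 | _ => (z + 3) % 6

theorem sel_neg {c : ℕ} (h : c < 6) (j : J3) : sel ((c + 3) % 6) j = -sel c j := by
  interval_cases c <;> simp [sel]

theorem sel_cmp {c x y z : ℕ} (hc : c < 6) (hx : x < 6) (hy : y < 6) (hz : z < 6) (j : J3) :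
    sel (cmp c x y z) j = sel c (sel x j, sel y j, sel z j) := by
  interval_cases c
  exacts [rfl, rfl, rfl, sel_neg hx j, sel_neg hy j, sel_neg hz j]

/-- the vectors of `J` -/
def vc {K : Type*} [Group K] [DistribMulAction K J3] (x y z : ZMod 3) : SD J3 K := ⟨(x, y, z), 1⟩

def K6 : Type := Fin 6

namespace K6
instance : DecidableEq K6 := inferInstanceAs (DecidableEq (Fin 6))
instance : Fintype K6 := inferInstanceAs (Fintype (Fin 6))
def mk (i : ℕ) : K6 := Fin.ofNat 6 i
def val (k : K6) : ℕ := Fin.val k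
def mulT : ℕ := 0x811000c50c01410840420041430030451021050830011440c2040
instance : Mul K6 := ⟨fun a b => mk (lk mulT 6 (6 * a.val + b.val))⟩
instance : One K6 := ⟨mk 0⟩
instance : Inv K6 := ⟨fun a => mk (lk 0x840c5040 6 a.val)⟩
def cd (i : ℕ) (k : K6) : ℕ := lk (match i with | 0 => 0xa088 | 1 => 0x11401 | _ => 0x252) 3 k.val
instance : SMul K6 J3 := ⟨fun k j => (sel (cd 0 k) j, sel (cd 1 k) j, sel (cd 2 k) j)⟩
theorem mul_smul' (k l : K6) (j : J3) : (k * l) • j = k • l • j := by
  have h : ∀ k l : K6, ∀ i < 3, cd i l < 6 ∧ cd i k < 6 ∧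
      cd i (k * l) = cmp (cd i k) (cd 0 l) (cd 1 l) (cd 2 l) := by decide +kernel
  have e := fun i hi => (h k l i hi).2.2 ▸ sel_cmp (h k l i hi).2.1 (h k l 0 (by decide)).1
    (h k l 1 (by decide)).1 (h k l 2 (by decide)).1 j
  exact Prod.ext (e 0 (by decide)) (Prod.ext (e 1 (by decide)) (e 2 (by decide)))
theorem faith {k l : K6} (h : ∀ j : J3, k • j = l • j) : k = l :=
  (by decide +kernel : ∀ k l : K6, k • ((1, 0, 0) : J3) = l • (1, 0, 0) →
    k • ((0, 1, 0) : J3) = l • (0, 1, 0) → k • ((0, 0, 1) : J3) = l • (0, 0, 1) → k = l) k l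
    (h _) (h _) (h _)
instance : Group K6 := Group.ofLeftAxioms
  (fun _ _ _ => faith fun _ => by simp only [mul_smul']) (by decide +kernel) (by decide +kernel)
instance : DistribMulAction K6 J3 where
  one_smul := by decide +kernel
  mul_smul := mul_smul'
  smul_zero _ := Prod.ext (sel_zero _) (Prod.ext (sel_zero _) (sel_zero _))
  smul_add _ _ _ := Prod.ext (sel_add _ _ _) (Prod.ext (sel_add _ _ _) (sel_add _ _ _))
theorem card_eq : Nat.card K6 = 6 := Nat.card_fin 6
theorem card_M : Nat.card (SD J3 K6) = 162 := by rw [SD.card_eq, card_eq]; simp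
def t : SD J3 K6 := ⟨0, mk 1⟩
def s : SD J3 K6 := ⟨0, mk 2⟩
end K6

def K12 : Type := Fin 12

namespace K12
instance : DecidableEq K12 := inferInstanceAs (DecidableEq (Fin 12))
instance : Fintype K12 := inferInstanceAs (Fintype (Fin 12))
def mk (i : ℕ) : K12 := Fin.ofNat 12 i
def val (k : K12) : ℕ := Fin.val k
def mulT : ℕ := 0x8118020510a1c324b1001c124308b18520a0420061481c310a2c90040470c918508b2882052830812462c01072432c510020728108618708428b0080490c51480ca0422c02461c41c61022ca0490081430c914b00428120718228b2091870c21440012ca2481c61440c2040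
instance : Mul K12 := ⟨fun a b => mk (lk mulT 6 (12 * a.val + b.val))⟩
instance : One K12 := ⟨mk 0⟩
instance : Inv K12 := ⟨fun a => mk (lk 0x20a24b0861440c7040 6 a.val)⟩
def cd (i : ℕ) (k : K12) : ℕ := lk (match i with | 0 => 0x95d2a0688 | 1 => 0xb2b45a801 | _ => 0x6e4029a52) 3 k.val
instance : SMul K12 J3 := ⟨fun k j => (sel (cd 0 k) j, sel (cd 1 k) j, sel (cd 2 k) j)⟩
theorem mul_smul' (k l : K12) (j : J3) : (k * l) • j = k • l • j := by
  have h : ∀ k l : K12, ∀ i < 3, cd i l < 6 ∧ cd i k < 6 ∧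
      cd i (k * l) = cmp (cd i k) (cd 0 l) (cd 1 l) (cd 2 l) := by decide +kernel
  have e := fun i hi => (h k l i hi).2.2 ▸ sel_cmp (h k l i hi).2.1 (h k l 0 (by decide)).1
    (h k l 1 (by decide)).1 (h k l 2 (by decide)).1 j
  exact Prod.ext (e 0 (by decide)) (Prod.ext (e 1 (by decide)) (e 2 (by decide)))
theorem faith {k l : K12} (h : ∀ j : J3, k • j = l • j) : k = l :=
  (by decide +kernel : ∀ k l : K12, k • ((1, 0, 0) : J3) = l • (1, 0, 0) →
    k • ((0, 1, 0) : J3) = l • (0, 1, 0) → k • ((0, 0, 1) : J3) = l • (0, 0, 1) → k = l) k l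
    (h _) (h _) (h _)
instance : Group K12 := Group.ofLeftAxioms
  (fun _ _ _ => faith fun _ => by simp only [mul_smul']) (by decide +kernel) (by decide +kernel)
instance : DistribMulAction K12 J3 where
  one_smul := by decide +kernel
  mul_smul := mul_smul'
  smul_zero _ := Prod.ext (sel_zero _) (Prod.ext (sel_zero _) (sel_zero _))
  smul_add _ _ _ := Prod.ext (sel_add _ _ _) (Prod.ext (sel_add _ _ _) (sel_add _ _ _))
theorem card_eq : Nat.card K12 = 12 := Nat.card_fin 12
theorem card_M : Nat.card (SD J3 K12) = 324 := by rw [SD.card_eq, card_eq]; simp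
def t : SD J3 K12 := ⟨0, mk 1⟩
def s : SD J3 K12 := ⟨0, mk 2⟩
def i : SD J3 K12 := ⟨0, mk 3⟩
/-- the inclusion of `S₃` -/
def κ0 : K6 →* K12 := MonoidHom.mk' (fun k => mk (lk 0x1c6102040 6 k.val)) (by decide +kernel)
def κ : SD J3 K6 →* SD J3 K12 := MonoidHom.mk' (fun m => ⟨m.j, κ0 m.k⟩) fun a b =>
  SD.ext (by simp [(by decide +kernel : ∀ (k : K6) (j : J3), κ0 k • j = k • j)]) (map_mul κ0 _ _)
end K12

def K24b : Type := Fin 24

namespace K24b
instance : DecidableEq K24b := inferInstanceAs (DecidableEq (Fin 24))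
instance : Fintype K24b := inferInstanceAs (Fintype (Fin 24))
def mk (i : ℕ) : K24b := Fin.ofNat 24 i
def val (k : K24b) : ℕ := Fin.val k
def mulT : ℕ := 0xc11400902cc3863c72094c448d59150a5571400c110f24d48740628b44238c5d35485160430052c608e3101cf4c420935250a5915d500504324711234f19044228b30e5485d35943442870114852415c20d53c65084162cc39308c18838004b0d311640715429524d3d74523022060533832c058415440754a3d724d4912873441975485024413125802454cf3832d02063021d650a5444c034e5c12c345048524f10d1ca4810091510973c60d52142cc4164ce2ce4133050c204825418f0164571121d528d2523d134314400a2d51d00574d608e19420c1ca10d5421942170515803121493834cf40b38b4d00c830108550901618f5d11d511234a18808c5041d52960135c134e0cb4854503c948944f14a34010354b0571d059319408e3084d038b3d45915c920548c54308128634010744f4894155d358b28338d5051002073010865545d620d2861cc48e0911133d000904b0c54132ce5893d745414854348c0423402861c451559728c20718d39211309140f04b0091433d12525cb4164d50ca50538d00430120718259751544e4cf41230d2482ca1870c21440015d65544d24503ce34c2ca2481c61440c2040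
instance : Mul K24b := ⟨fun a b => mk (lk mulT 6 (24 * a.val + b.val))⟩
instance : One K24b := ⟨mk 0⟩
instance : Inv K24b := ⟨fun a => mk (lk 0x5165574d238831124f28b3500861440c7040 6 a.val)⟩
def cd (i : ℕ) (k : K24b) : ℕ := lk (match i with | 0 => 0x81916ca626ea2a0688 | 1 => 0x10ba45954a9b45a801 | _ => 0xb6d8e00db30c011452) 3 k.val
instance : SMul K24b J3 := ⟨fun k j => (sel (cd 0 k) j, sel (cd 1 k) j, sel (cd 2 k) j)⟩
theorem mul_smul' (k l : K24b) (j : J3) : (k * l) • j = k • l • j := by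
  have h : ∀ k l : K24b, ∀ i < 3, cd i l < 6 ∧ cd i k < 6 ∧
      cd i (k * l) = cmp (cd i k) (cd 0 l) (cd 1 l) (cd 2 l) := by decide +kernel
  have e := fun i hi => (h k l i hi).2.2 ▸ sel_cmp (h k l i hi).2.1 (h k l 0 (by decide)).1
    (h k l 1 (by decide)).1 (h k l 2 (by decide)).1 j
  exact Prod.ext (e 0 (by decide)) (Prod.ext (e 1 (by decide)) (e 2 (by decide)))
theorem faith {k l : K24b} (h : ∀ j : J3, k • j = l • j) : k = l :=
  (by decide +kernel : ∀ k l : K24b, k • ((1, 0, 0) : J3) = l • (1, 0, 0) →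
    k • ((0, 1, 0) : J3) = l • (0, 1, 0) → k • ((0, 0, 1) : J3) = l • (0, 0, 1) → k = l) k l
    (h _) (h _) (h _)
instance : Group K24b := Group.ofLeftAxioms
  (fun _ _ _ => faith fun _ => by simp only [mul_smul']) (by decide +kernel) (by decide +kernel)
instance : DistribMulAction K24b J3 where
  one_smul := by decide +kernel
  mul_smul := mul_smul'
  smul_zero _ := Prod.ext (sel_zero _) (Prod.ext (sel_zero _) (sel_zero _))
  smul_add _ _ _ := Prod.ext (sel_add _ _ _) (Prod.ext (sel_add _ _ _) (sel_add _ _ _))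
theorem card_eq : Nat.card K24b = 24 := Nat.card_fin 24
theorem card_M : Nat.card (SD J3 K24b) = 648 := by rw [SD.card_eq, card_eq]; simp
def t : SD J3 K24b := ⟨0, mk 1⟩
def s : SD J3 K24b := ⟨0, mk 2⟩
def d : SD J3 K24b := ⟨0, mk 3⟩
def f : SD J3 K24b := ⟨0, mk 22⟩
/-- the inclusion of `S₃` -/
def κ0 : K6 →* K24b := MonoidHom.mk' (fun k => mk (lk 0x1c6102040 6 k.val)) (by decide +kernel)
def κ : SD J3 K6 →* SD J3 K24b := MonoidHom.mk' (fun m => ⟨m.j, κ0 m.k⟩) fun a b =>
  SD.ext (by simp [(by decide +kernel : ∀ (k : K6) (j : J3), κ0 k • j = k • j)]) (map_mul κ0 _ _)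
end K24b

def K48 : Type := Fin 48

namespace K48
instance : DecidableEq K48 := inferInstanceAs (DecidableEq (Fin 48))
instance : Fintype K48 := inferInstanceAs (Fintype (Fin 48))
def mk (i : ℕ) : K48 := Fin.ofNat 48 i
def val (k : K48) : ℕ := Fin.val k
def mulT : ℕ := 0x40421870cb14824a30d38f4d441149559761969e7db71d8218a3a24966aab9eea6cb6f18708100438f2056194110cb6da30d8a371d24a5259135979e6495a5f7a1b6c82fa2baae0420041c61480cb30d24a3ce45051359749569b61d7197de8609259a28e8aeaa6c9eebed1c61000423ce2c369b51314865824a9257de30d423891495a685979dc760bee86d9aaaec1001c60812c33ce51369b2052896197de92541131548d8a3a2971d8165e7baf9aa86db2b08118710020538f4116192c334c69b71d8a351325758a9259a77de852569b2da2b82fbaa30d14841159704249500471d82118724a0cb8a39aaae738f4d4619bacb5a79f6e8be496941120530d71d0818a31875979e600461938f49586db200cb6da24abeba949644e9b9f7a824a0cb5134950045970427de8601c630d148925a2baa93ce45069bb2ebd875c666b628e75132c324a7de1009251c6495a6804269b3ce59782fba114865830db6aad08e2467b1c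76614830d45004259700449575c1c68600cb24a9a788f3a3aea513b2d69866e7debe46e8a6545034c14875c5d69a78600428e2495b2daea00419960724abee0cb6ce3d3a6852569e7e40cb24a4d400449504259779f18782114830da2990e3e5aab411baf61a6ec71db626669e34d42890cb79f552a29821004964597bafaab0421db68630db6c14864f3919e642361d72269b3ce6199251c67de1008a3a290815132c371d9eebe6205289411aadb0c552360ad65e161938f69b8a318771d0819259a71004112057dea6cb682c334c513aefb895d62a1a9256034c4502055d675c8609a70815528a3aeab2d18700a244619baf38f4c32dba2969e52591f20541134c08171d1878a35d61009a738f61986048b0d5b2d69baea5092af925b9f4e9a1e2c35132891007de1c6925552081a293ce69b821588157baf619aab40c36d8a3b1c46799d2894d42c355279f821a291005d6925aabbaf1c604d30269bb2d3ce4452199a761d42389c49559786024a30d0cb148aea513450004042b2db9f7af75c1c69a7928a623ce8da95865b8605d6495aea34cb2d45024abee1489a775c0cb4e9a140428e200495e7c66581db90e3da59749582130d24a1480cbaab4114d4042004bafb1c76d79f187a298a69e438f9588da6d9821552597aab289baf4d430db6c0cba2979f1484679900049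640428dd7076da19988f3983ce69b6581c69251007de8e2042a682c35139e670521dbee24ab6c31046a495ad63608576586da3ce8e29649e6a681c675c7deb6cbee100091401513aea2c334814a86025731549638f6196da1878a308171d9640049e6205411a687c32deb6c30dbee2544eb597a922a18159a775c8a3b2d450aea34c619baf2058605d638f6e8a5a0815521877a59002891137c32d48a371d9a761941138f205b2d69b34c187081aeabe496e5d61008607e9a122c35547892936da65838f9648e2a689e618779f71dbeeb6c081113500411aab20528b0cd8213152575929257dea2969b5133ce2c3baf6192891c6100aabb628ec5520818217279962055d074c351a2979f925baf4d4aab28969bb2d2c38215523ce6669d81005d61c676388134c0917052105d686055234caea450b2d289205baf75c9a74d40c204ba298a379f18012561990e1db68f5528215d6289aab4d4baf34c2c3b2d79fa294501440089a792575c1c10a369b88f19960e7de925a6851369b2c33cebee24a6581001c6b6ca9256b8e20429e65a085c14874c5d044da689647debee6dab6c658513aea3ce9e68e22c32a18091c675c1005d548245004d58814c75c9a78e2450b2d34caea658148bee5d68606da38108fa684959640061de24a7c311350b71d8a39e641161920538fb6c30d6d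a081187beead65ea964004a684a181f0cb7895544ca9e68e271db6c658bee6da411aab38fa6896420536084c18779f0815575844d400a48b0c979fa299644d4baf289aab6da0cbb6c5528216583c010e9e65978e204719d30d705091408b2daeabaf9a786075c5d6a298a355245034c79f9586642892054d439b6830812c63c0107bafaabb2da2982179f5529a79255d64d428975c8da6e234c2c34503d9605100207381086964a6879f6dabee658b6c4d438faab8e29e62892c61c382171d55208401741158804d305aeab2dbee8609a75d675ca684958e234c45096478929f6581486da0d350e0423c02c61c48e29e675c658b6c6dabee4503ceaea964a6834c2071858607de5d610205551348b00a243aabbafb6c821a2955279f9e65979642894d48e274c35c6da0cb65815140f004381207182b6cbeeaab9e6a688e296482171d79f6586da5525d04564d438f28920d30b1870c2144001beeb6caeaa689e69648e28607de75c6da6585d65544d24503ce34c2ca2481c61440c2040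
instance : Mul K48 := ⟨fun a b => mk (lk mulT 6 (48 * a.val + b.val))⟩
instance : One K48 := ⟨mk 0⟩
instance : Inv K48 := ⟨fun a => mk (lk 0xbebb6cbaa8dd9e6957a6189c55ea206cd6519167c839261029368c2cf1540862440c7040 6 a.val)⟩
def cd (i : ℕ) (k : K48) : ℕ := lk (match i with | 0 => 0x95b96501b2a594a00a6ecb0a280762288688 | 1 => 0x6e5b0094a6ec46c280b1a2ec46c40345a201 | _ => 0xb2c6ecb2cb006dbb2c2880806ca251011452) 3 k.val
instance : SMul K48 J3 := ⟨fun k j => (sel (cd 0 k) j, sel (cd 1 k) j, sel (cd 2 k) j)⟩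
theorem mul_smul' (k l : K48) (j : J3) : (k * l) • j = k • l • j := by
  have h : ∀ k l : K48, ∀ i < 3, cd i l < 6 ∧ cd i k < 6 ∧
      cd i (k * l) = cmp (cd i k) (cd 0 l) (cd 1 l) (cd 2 l) := by decide +kernel
  have e := fun i hi => (h k l i hi).2.2 ▸ sel_cmp (h k l i hi).2.1 (h k l 0 (by decide)).1
    (h k l 1 (by decide)).1 (h k l 2 (by decide)).1 j
  exact Prod.ext (e 0 (by decide)) (Prod.ext (e 1 (by decide)) (e 2 (by decide)))
theorem faith {k l : K48} (h : ∀ j : J3, k • j = l • j) : k = l :=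
  (by decide +kernel : ∀ k l : K48, k • ((1, 0, 0) : J3) = l • (1, 0, 0) →
    k • ((0, 1, 0) : J3) = l • (0, 1, 0) → k • ((0, 0, 1) : J3) = l • (0, 0, 1) → k = l) k l
    (h _) (h _) (h _)
instance : Group K48 := Group.ofLeftAxioms
  (fun _ _ _ => faith fun _ => by simp only [mul_smul']) (by decide +kernel) (by decide +kernel)
instance : DistribMulAction K48 J3 where
  one_smul := by decide +kernel
  mul_smul := mul_smul'
  smul_zero _ := Prod.ext (sel_zero _) (Prod.ext (sel_zero _) (sel_zero _))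
  smul_add _ _ _ := Prod.ext (sel_add _ _ _) (Prod.ext (sel_add _ _ _) (sel_add _ _ _))
theorem card_eq : Nat.card K48 = 48 := Nat.card_fin 48
theorem card_M : Nat.card (SD J3 K48) = 1296 := by rw [SD.card_eq, card_eq]; simp
def t : SD J3 K48 := ⟨0, mk 1⟩
def s : SD J3 K48 := ⟨0, mk 2⟩
def r1 : SD J3 K48 := ⟨0, mk 3⟩
def r2 : SD J3 K48 := ⟨0, mk 12⟩
def r3 : SD J3 K48 := ⟨0, mk 27⟩
def d : SD J3 K48 := ⟨0, mk 22⟩
def i : SD J3 K48 := ⟨0, mk 45⟩
/-- the inclusion of `S₃` -/
def κ0 : K6 →* K48 := MonoidHom.mk' (fun k => mk (lk 0x1c6102040 6 k.val)) (by decide +kernel)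
def κ : SD J3 K6 →* SD J3 K48 := MonoidHom.mk' (fun m => ⟨m.j, κ0 m.k⟩) fun a b =>
  SD.ext (by simp [(by decide +kernel : ∀ (k : K6) (j : J3), κ0 k • j = k • j)]) (map_mul κ0 _ _)
def μK120 : K12 →* K48 := MonoidHom.mk' (fun k => mk (lk 0xaeab2e1c6bc4b42040 6 k.val)) (by decide +kernel)
/-- the inclusion of the model for `K12` -/
def μK12 : SD J3 K12 →* SD J3 K48 := MonoidHom.mk' (fun m => ⟨m.j, μK120 m.k⟩) fun a b =>
  SD.ext (by simp [(by decide +kernel : ∀ (k : K12) (j : J3), μK120 k • j = k • j)]) (map_mul μK120 _ _)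
def μK24b0 : K24b →* K48 := MonoidHom.mk' (fun k => mk (lk 0xa6796399ea2181d7dc5e45621c6484582040 6 k.val)) (by decide +kernel)
/-- the inclusion of the model for `K24b` -/
def μK24b : SD J3 K24b →* SD J3 K48 := MonoidHom.mk' (fun m => ⟨m.j, μK24b0 m.k⟩) fun a b =>
  SD.ext (by simp [(by decide +kernel : ∀ (k : K24b) (j : J3), μK24b0 k • j = k • j)]) (map_mul μK24b0 _ _)
end K48

end H56.L3
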