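/- Tower `L₄(3)` (row S3373), jobs I1 and I2: common part. -/
import Cfsg.Agent.H42.L43K
import Cfsg.Agent.H14.Std

set_option autoImplicit false

namespace H56.L43
open Cfsg Subgroup H47.L43 H42.L43 H56.L3 Matrix
open H14 (opp)

universe u

theorem sq1 : ∀ a : F3, a ≠ 0 → a * a = 1 := by decide

theorem cen_dec {α β : F3} (hβ : β ≠ 0) {m : PP} (h : m * uP 0 α 0 0 β 0 = uP 0 α 0 0 β 0 * m) :
    ∃ t b c d e, m = uP (α * t) b c d e (β * t) ∨ m = uP (α * t) b c d e (β * t) * (t2 * t3) := by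
  obtain ⟨v, A, rfl⟩ := exists_mk m
  have hd := A.2
  have h1 := ent h 2 3
  have h2 := ent h 3 3
  have h3 := ent h 1 2
  have h4 := ent h 1 3
  have h5 := ent h 0 3
  simp [val_mul, mk_val, uP_val, Matrix.mul_apply, Fin.sum_univ_four, hβ] at h1 h2 h3 h4 h5
  rw [det_fin_three] at hd
  have k : ∀ a x y : F3, a * x * y = 1 → a * β = β * y → x = 1 ∧ y = a ∧ (a = 1 ∨ a = -1) := by
    clear * - hβ; revert β; decide
  obtain ⟨k1, k2, k3⟩ := k (A 0 0) (A 1 1) (A 2 2) (by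
    rw [h1, h2, h3] at hd; linear_combination hd) (by linear_combination h4)
  have k4 : v 0 = α * (β * A 1 2) := by linear_combination β * h5 - v 0 * sq1 β hβ
  have k5 : A 1 2 = β * (β * A 1 2) := by linear_combination - A 1 2 * sq1 β hβ
  rcases k3 with k3 | k3
  · refine ⟨β * A 1 2, v 1, v 2, A 0 1, A 0 2, .inl (PP_ext ?_)⟩
    rw [mk_val, uP_val, ← k4, ← k5, h1, h2, h3, k1, k2, k3]
  · refine ⟨-(β * A 1 2), v 1, -v 2, A 0 1, -A 0 2, .inr (PP_ext ?_)⟩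
    rw [mk_val, val_mul, val_mul, uP_val, t2_val, t3_val, mul_neg, mul_neg, ← k4, ← k5, h1, h2, h3, k1,
      k2, k3]
    ext i j
    fin_cases i <;> fin_cases j <;> simp [Matrix.mul_apply, Fin.sum_univ_four]

theorem exists_z {a b c : F3} (h : a ≠ 0 ∨ b ≠ 0 ∨ c ≠ 0) :
    ∃ m : PP, m * uP 0 0 1 0 0 0 * m⁻¹ = uP a b c 0 0 0 := by
  obtain ⟨B, hB⟩ : ∃ B : SL3, ![0, 0, 1] ᵥ* B.1 = ![a, b, c] := by
    rcases h with h | h | h
    · exact ⟨⟨!![0, a, 0; 0, 0, 1; a, b, c], by simp [det_fin_three, sq1 a h]⟩, by simp⟩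
    · exact ⟨⟨!![b, 0, 0; 0, 0, -1; a, b, c], by simp [det_fin_three, sq1 b h]⟩, by simp⟩
    · exact ⟨⟨!![c, 0, 0; 0, 1, 0; a, b, c], by simp [det_fin_three, sq1 c h]⟩, by simp⟩
  exact ⟨mk 0 B⁻¹, by rw [uP_eq_mk, uP_eq_mk, mk_conj, inv_inv, hB]⟩

theorem exists_u {b c d e : F3} (h : b * e - c * d ≠ 0) :
    ∃ m : PP, m * uP 0 b c d e 0 = uP 0 1 0 0 (b * e - c * d) 0 * m := by
  have k := sq1 _ h
  generalize hδ : b * e - c * d = δ at k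
  obtain ⟨B, hB⟩ : ∃ B : SL3, B.1 = !![1, 0, 0; 0, b, c; 0, δ * d, δ * e] := ⟨⟨_, by
    simp [det_fin_three]; linear_combination δ * hδ + k⟩, rfl⟩
  refine ⟨mk 0 B, PP_ext ?_⟩
  rw [val_mul, val_mul, mk_val, uP_val, uP_val]
  ext i j
  fin_cases i <;> fin_cases j <;> simp [hB, Matrix.mul_apply, Fin.sum_univ_four, ← mul_assoc, k]

variable {G : Type u} [Group G]

/-- Burnside's transfer theorem -/
theorem bur [Finite G] {A W : Subgroup G} (hA : IsPGroup 3 A) (h : A ≤ W)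
    (c : ∀ a ∈ A, ∀ b ∈ A, a * b = b * a) (hn : W ⊓ Nr A ≤ A) : W ≤ opp 3 W ⊔ A := by
  have := Fact.mk Nat.prime_three
  have hD : H98.IsSyl 3 A W := H98.isSyl_of_isSyl_normalizer
    (le_antisymm (le_inf h le_normalizer) hn ▸ H98.isSyl_self hA)
  obtain ⟨S, rfl⟩ := hD.exists_sylow_map
  have hS : normalizer ((S : Subgroup W) : Set W) ≤ centralizer ((S : Subgroup W) : Set W) :=
    fun g hg => mem_centralizer_iff.2 fun d hd => Subtype.ext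
      (c d ⟨d, hd, rfl⟩ g (hn ⟨g.2, le_normalizer_map W.subtype ⟨g, hg, rfl⟩⟩))
  have hc := MonoidHom.ker_transferSylow_isComplement' S hS
  have k := H14.le_opp (p := 3) (map_subtype_le (MonoidHom.transferSylow S hS).ker)
    (H98.le_normalizer_map_subtype _) (by
      rw [card_map_of_injective W.subtype_injective, ← hc.index_eq_card]
      exact ((Nat.Prime.coprime_iff_not_dvd Fact.out).2 S.not_dvd_index).symm)
  intro g hg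
  obtain ⟨⟨x, d⟩, e⟩ := hc.2 ⟨g, hg⟩
  have : g = (x : W) * (d : W) := (congrArg Subtype.val e).symm
  rw [this]
  exact mul_mem_sup (k ⟨x, x.2, rfl⟩) ⟨d, d.2, rfl⟩

theorem mC {x g : G} : g ∈ Ce x ↔ g * x = x * g := mem_centralizer_singleton_iff

/-- the elements of `C(d)` that centralise `g` modulo `⟨d⟩` -/
def Wg (d g : G) : Subgroup G where
  carrier := {k | k ∈ Ce d ∧ k * g * k⁻¹ * g⁻¹ ∈ zpowers d}
  one_mem' := ⟨one_mem _, by simp⟩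
  mul_mem' := by
    rintro k l ⟨h1, h2⟩ ⟨h3, i, h4⟩
    refine ⟨mul_mem h1 h3, ?_⟩
    rw [show k * l * g * (k * l)⁻¹ * g⁻¹ = k * (l * g * l⁻¹ * g⁻¹) * k⁻¹ * (k * g * k⁻¹ * g⁻¹) by group,
      ← h4, (Commute.zpow_right (mC.1 h1) i).eq, mul_inv_cancel_right]
    exact mul_mem ⟨i, rfl⟩ h2
  inv_mem' := by
    rintro k ⟨h1, i, h2⟩
    refine ⟨inv_mem h1, -i, ?_⟩
    change d ^ i = _ at h2
    change d ^ (-i) = _
    rw [show k⁻¹ * g * k⁻¹⁻¹ * g⁻¹ = k⁻¹ * (k * g * k⁻¹ * g⁻¹)⁻¹ * k by group, ← h2, ← _root_.zpow_neg,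
      mul_assoc, ← (Commute.zpow_right (mC.1 h1) _).eq, inv_mul_cancel_left]

variable (φ : PP →* G)

/-- the Sylow subgroup of the centraliser of `s 0 α 0 0 β 0` -/
def Sp (α β : F3) : Subgroup G where
  carrier := {g | ∃ t b c d e, g = s φ (α * t) b c d e (β * t)}
  one_mem' := ⟨0, 0, 0, 0, 0, by simp [s_zero]⟩
  mul_mem' := by
    rintro _ _ ⟨t, b, c, d, e, rfl⟩ ⟨t', b', c', d', e', rfl⟩
    exact ⟨t + t', _, _, _, _, by rw [s_mul, mul_add, mul_add]⟩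
  inv_mem' := by
    rintro _ ⟨t, b, c, d, e, rfl⟩
    exact ⟨-t, _, _, _, _, by rw [s_inv, mul_neg, mul_neg]⟩

/-- `J ∩ Q` -/
def EE : Subgroup G where
  carrier := {g | ∃ b c e, g = s φ 0 b c 0 e 0}
  one_mem' := ⟨0, 0, 0, (s_zero φ).symm⟩
  mul_mem' := by
    rintro _ _ ⟨b, c, e, rfl⟩ ⟨b', c', e', rfl⟩
    exact ⟨b + b', c + c', e + e', by rw [s_mul]; simp⟩
  inv_mem' := by rintro _ ⟨b, c, e, rfl⟩; exact ⟨-b, -c, -e, by rw [s_inv]; simp⟩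

variable {φ}

theorem s_τ (a b c d e f : F3) :
    φ (t2 * t3) * s φ a b c d e f * (φ (t2 * t3))⁻¹ = s φ (-a) b (-c) (-d) e (-f) := by
  have := s_t2 (φ := φ) a (-b) (-c) (-d) (-e) f
  rw [← s_t3, neg_neg, neg_neg] at this
  rw [← this, map_mul]; group

theorem zp {α β : F3} {x : G} : x ∈ zpowers (s φ 0 α 0 0 β 0) ↔ ∃ i, x = s φ 0 (α * i) 0 0 (β * i) 0 := by
  let L : Subgroup G :=
    { carrier := {x | ∃ i, x = s φ 0 (α * i) 0 0 (β * i) 0}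
      one_mem' := ⟨0, by simp [s_zero]⟩
      mul_mem' := by rintro _ _ ⟨i, rfl⟩ ⟨j, rfl⟩; exact ⟨i + j, by rw [s_mul]; simp [mul_add]⟩
      inv_mem' := by rintro _ ⟨i, rfl⟩; exact ⟨-i, by rw [s_inv]; simp⟩ }
  refine ⟨fun h => (zpowers_le (H := L)).2 ⟨1, by simp⟩ h, ?_⟩
  rintro ⟨i, rfl⟩
  obtain rfl | rfl | rfl : i = 0 ∨ i = 1 ∨ i = -1 := by revert i; decide
  · simp [s_zero]
  · simp
  · exact inv_mem_iff.1 (by rw [s_inv]; simp)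

theorem pSS : IsPGroup 3 (SS φ) := H98.isPGroup_iff_forall.2 (by
  rintro _ ⟨a, b, c, d, e, f, rfl⟩
  exact ⟨2, by rw [pow_two, pow_mul, s_cube, s_cube]; simp [s_zero]⟩)

theorem J_le (α β : F3) : JJ φ ≤ Sp φ α β := by
  rintro _ ⟨b, c, d, e, rfl⟩; exact ⟨0, b, c, d, e, by simp⟩

theorem Sp_le (α β : F3) : Sp φ α β ≤ SS φ := by
  rintro _ ⟨t, b, c, d, e, rfl⟩; exact ⟨_, _, _, _, _, _, rfl⟩

theorem SS_le : SS φ ≤ φ.range := by rintro _ ⟨a, b, c, d, e, f, rfl⟩; exact s_mem ..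

theorem J_comm : ∀ a ∈ JJ φ, ∀ b ∈ JJ φ, a * b = b * a := by
  rintro _ ⟨b, c, d, e, rfl⟩ _ ⟨b', c', d', e', rfl⟩
  simp [s_mul, add_comm]

theorem Sp_cen {α β : F3} : Sp φ α β ≤ Ce (s φ 0 α 0 0 β 0) := by
  rintro _ ⟨t, b, c, d, e, rfl⟩
  rw [mC, s_mul, s_mul]
  congr 1 <;> ring

/-- the centraliser in `P₀` -/
theorem dec (hl : HL φ) {α β : F3} (hβ : β ≠ 0) {k : G} (h1 : k ∈ φ.range)
    (h2 : k ∈ Ce (s φ 0 α 0 0 β 0)) : k ∈ Sp φ α β ∨ k * (φ (t2 * t3))⁻¹ ∈ Sp φ α β := by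
  obtain ⟨m, rfl⟩ := h1
  obtain ⟨t, b, c, d, e, rfl | rfl⟩ := cen_dec (α := α) hβ (m := m)
    (hl.inj (by rw [map_mul, map_mul]; exact mC.1 h2))
  · exact .inl ⟨t, b, c, d, e, rfl⟩
  · exact .inr ⟨t, b, c, d, e, by rw [map_mul, mul_inv_cancel_right]; rfl⟩

theorem dec' (hl : HL φ) {α β : F3} (hβ : β ≠ 0) {k : G} (h1 : k ∈ φ.range)
    (h2 : k ∈ Ce (s φ 0 α 0 0 β 0)) {a b c d e f a' b' c' e' : F3} (h : d ≠ 0 ∨ f ≠ 0)
    (k1 : k * s φ a b c d e f * k⁻¹ = s φ a' b' c' d e' f) : k ∈ Sp φ α β := by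
  refine (dec hl hβ h1 h2).resolve_right fun ⟨t, b1, c1, d1, e1, k2⟩ => ?_
  rw [eq_mul_of_mul_inv_eq k2, show ∀ x y z : G, x * y * z * (x * y)⁻¹ = x * (y * z * y⁻¹) * x⁻¹ by
    intros; group, s_τ, s_inv, s_mul, s_mul, s_inj hl.inj] at k1
  obtain ⟨-, -, -, k3, -, k4⟩ := k1
  have : ∀ x y : F3, x + -y + -x = y → y = 0 := by decide
  exact h.elim (fun k => k (this _ _ k3)) fun k => k (this _ _ k4)

theorem sc1 (sc : SC φ) {a b c : F3} (h : a ≠ 0 ∨ b ≠ 0 ∨ c ≠ 0) {k : G}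
    (hk : k * s φ a b c 0 0 0 * k⁻¹ ∈ φ.range) : k ∈ φ.range := by
  obtain ⟨m, e⟩ := exists_z h
  refine (mul_mem_cancel_right (show φ m ∈ φ.range from ⟨m, rfl⟩)).1 (sc (k * φ m) ?_)
  rw [s, ← e, map_mul, map_mul, map_inv] at hk
  simpa only [_root_.mul_inv_rev, mul_assoc, zz, s] using hk

theorem nor_le (sc : SC φ) {A : Subgroup G} (h1 : zz φ ∈ A) (h2 : A ≤ φ.range) : Nr A ≤ φ.range :=
  fun g hg => sc g (h2 ((mem_normalizer_iff.1 hg _).1 h1))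

variable [Finite G]

theorem lemB (fx : Fx φ) (sc : SC φ) {W : Subgroup G} (h : JJ φ ≤ W) (hn : W ⊓ φ.range ≤ JJ φ) :
    W ≤ φ.range := by
  have l : JJ φ ≤ SS φ := (J_le 0 0).trans (Sp_le 0 0)
  have := bur (pSS.to_le l) h J_comm
    ((inf_le_inf_left W (nor_le sc (A := JJ φ) ⟨0, 1, 0, 0, rfl⟩ (l.trans SS_le))).trans hn)
  rw [fx.sig _ (H14.coprime_card_opp W) fun j hj k hk =>
    (mem_normalizer_iff.1 (H14.self_le_normalizer_opp W (h hj)) k).1 hk, bot_sup_eq] at this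
  exact this.trans (l.trans SS_le)

theorem k9 (K : JobK9.{u}) (hl : HL φ) (fx : Fx φ) (sc : SC φ) {α β : F3} (hβ : β ≠ 0)
    (loc : ∀ t b c d e, s φ (α * t) b c d e (β * t) ∉ zpowers (s φ 0 α 0 0 β 0) →
      α * t * d * (β * t) = 0 → Wg (s φ 0 α 0 0 β 0) (s φ (α * t) b c d e (β * t)) ≤ φ.range) :
    Ce (s φ 0 α 0 0 β 0) ≤ φ.range := by
  have l : EE φ ≤ Sp φ α β := by rintro _ ⟨b, c, e, rfl⟩; exact ⟨0, b, c, 0, e, by simp⟩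
  have c1 : Nat.card (F3 × F3 × F3) = Nat.card (EE φ) := Nat.card_eq_of_bijective
    (fun v => ⟨_, v.1, v.2.1, v.2.2, rfl⟩) ⟨fun ⟨_, _, _⟩ ⟨_, _, _⟩ h => by
      simpa [s_inj hl.inj] using congrArg Subtype.val h, fun ⟨_, b, c, e, h⟩ => ⟨(b, c, e), Subtype.ext h.symm⟩⟩
  have c2 : Nat.card (F3 × F3 × F3 × F3 × F3) = Nat.card (Sp φ α β) := Nat.card_eq_of_bijective
    (fun v => ⟨_, v.1, v.2.1, v.2.2.1, v.2.2.2.1, v.2.2.2.2, rfl⟩)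
    ⟨fun ⟨_, _, _, _, _⟩ ⟨_, _, _, _, _⟩ h => by
      have h := congrArg Subtype.val h
      simp [s_inj hl.inj, hβ] at h; simp [h],
      fun ⟨_, t, b, c, d, e, h⟩ => ⟨(t, b, c, d, e), Subtype.ext h.symm⟩⟩
  have c3 := relIndex_mul_relIndex ⊥ _ _ bot_le l
  rw [relIndex_bot_left, relIndex_bot_left] at c3
  simp only [Nat.card_prod, Nat.card_zmod] at c1 c2
  refine K G φ.range (Sp φ α β) (EE φ) _ (φ (t2 * t3)) (s φ 0 0 0 1 0 0) (zz φ)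
    ⟨pSS.to_le (Sp_le α β), ⟨α, 0, β, rfl⟩, by simp [s_cube, s_zero], l,
      le_inf ((Sp_le α β).trans SS_le) Sp_cen, ⟨⟨_, rfl⟩, mC.2 (mul_inv_eq_iff_eq_mul.1 (by
        rw [s_τ]; simp))⟩, mem_normalizer_fintype ?_, ?_, fun k hk => dec hl hβ hk.1 hk.2, by rw [← c1, ← c2] at c3; omega,
      ?_, ?_, mem_normalizer_fintype ?_, ?_, J_le α β ⟨0, 0, 1, 0, rfl⟩, ?_, ?_, ⟨0, 1, 0, rfl⟩, ?_,
      by simp [s_cube, s_zero], ?_, inf_le_right.trans (nor_le sc (J_le α β ⟨0, 1, 0, 0, rfl⟩)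
        ((Sp_le α β).trans SS_le)), fun N h1 h2 => fx.sig N h1 fun j hj => h2 j (J_le α β hj)⟩
  · rintro _ ⟨t, b, c, d, e, rfl⟩
    exact ⟨-t, _, _, _, _, by rw [s_τ, mul_neg, mul_neg]⟩
  · rintro _ ⟨t, b, c, d, e, rfl⟩
    refine mem_normalizer_fintype ?_
    rintro _ ⟨b', c', e', rfl⟩
    exact ⟨_, _, _, by rw [s_inv, s_mul, s_mul]; congr 1 <;> ring⟩
  · rintro _ ⟨t, b, c, d, e, rfl⟩
    exact ⟨_, _, _, by rw [s_τ, s_mul]; congr 1 <;> ring⟩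
  · rintro _ ⟨t, b, c, d, e, rfl⟩
    exact ⟨_, _, _, s_cube ..⟩
  · rintro _ ⟨b, c, e, rfl⟩
    exact ⟨_, _, _, by rw [s_τ, neg_zero]⟩
  · rintro _ ⟨b, c, e, rfl⟩ _ ⟨b', c', e', rfl⟩
    simp [s_mul, add_comm]
  · rintro ⟨b, c, e, h⟩
    simp [s_inj hl.inj] at h
  · rintro _ ⟨b, c, e, rfl⟩
    simp [s_mul, s_cube, s_zero]
  · intro h
    obtain ⟨i, h⟩ := zp.1 h
    simp [s_inj hl.inj] at h
  · rintro _ ⟨t, b, c, d, e, rfl⟩ h1 h2 k h3 h4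
    obtain ⟨i, h2⟩ := zp.1 h2
    rw [s_cube, s_inj hl.inj] at h2
    exact loc t b c d e h1 h2.2.2.1 ⟨h3, h4⟩

end H56.L43
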