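/- Tower `L₄(3)` (row S3373), jobs I1 and I2. -/
import Cfsg.Agent.H56.L43I1

set_option autoImplicit false

namespace H56.L43
open Cfsg Subgroup H47.L43 H42.L43 H56.L3
open H14 (opp)

universe u

variable {G : Type u} [Group G] {φ : PP →* G}

theorem cz {α β : F3} {k : G} (h : k ∈ Ce (s φ 0 α 0 0 β 0)) (j : F3) :
    k * s φ 0 (α * j) 0 0 (β * j) 0 = s φ 0 (α * j) 0 0 (β * j) 0 * k := by
  obtain ⟨n, hn⟩ := zp.2 (⟨j, rfl⟩ : ∃ i, s φ 0 (α * j) 0 0 (β * j) 0 = s φ 0 (α * i) 0 0 (β * i) 0)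
  exact hn ▸ (Commute.zpow_right (mC.1 h) n).eq

theorem shift {α β : F3} {k g : G} (h : k ∈ Wg (s φ 0 α 0 0 β 0) g) : ∃ i, ∀ j,
    k * (s φ 0 (α * j) 0 0 (β * j) 0 * g) * k⁻¹ = s φ 0 (α * (j + i)) 0 0 (β * (j + i)) 0 * g := by
  obtain ⟨i, hi⟩ := zp.1 h.2
  refine ⟨i, fun j => ?_⟩
  rw [← mul_assoc, cz h.1, mul_assoc, mul_assoc, ← mul_assoc k, eq_mul_of_mul_inv_eq hi, ← mul_assoc,
    s_mul]
  simp [mul_add]

theorem J_Wg {d g : G} (hd : d ∈ JJ φ) (hg : g ∈ JJ φ) : JJ φ ≤ Wg d g := fun k hk =>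
  ⟨mC.2 (J_comm k hk d hd), by rw [J_comm k hk g hg]; simp⟩

theorem intoJ {a b c e f : F3} (ha : a ≠ 0) (h : a * e + b * f = 0) :
    ∃ y : G, y * s φ a b c 0 e f * y⁻¹ ∈ JJ φ := by
  have k := sq1 a ha
  have : s φ 0 0 0 (a * b) 0 0 * s φ a b c 0 e f * (s φ 0 0 0 (a * b) 0 0)⁻¹ = s φ a 0 c 0 0 f := by
    rw [s_inv, s_mul, s_mul]
    congr 1
    · ring
    · linear_combination -b * k
    · ring
    · ring
    · linear_combination a * h - e * k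
    · ring
  refine ⟨φ n2 * s φ 0 0 0 (a * b) 0 0, -a, c, 0, f, ?_⟩
  rw [show ∀ x y z : G, x * y * z * (x * y)⁻¹ = x * (y * z * y⁻¹) * x⁻¹ by intros; group, this, s_n2,
    neg_zero]

theorem QQ_le : QQ φ ≤ φ.range := by rintro _ ⟨a, b, c, e, f, rfl⟩; exact s_mem ..

variable [Finite G]

theorem cu1 (K : JobK9.{u}) (hl : HL φ) (fx : Fx φ) (sc : SC φ) {δ : F3} (hδ : δ ≠ 0) :
    Ce (s φ 0 1 0 0 δ 0) ≤ φ.range := by
  have q := sq1 δ hδ
  refine k9 K hl fx sc hδ fun t b c d e h1 h2 => ?_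
  by_cases ht : t = 0
  · subst ht
    simp only [mul_zero] at h1 ⊢
    by_cases hd : d = 0
    · subst hd
      intro k hk
      obtain ⟨i, hi⟩ := shift hk
      have k1 := hi (-(δ * e))
      rw [s_mul, s_mul, show δ * -(δ * e) + e + 0 * 0 = 0 by linear_combination -e * q] at k1
      simp only [add_zero] at k1
      refine sc1 sc ?_ (k1 ▸ s_mem ..)
      by_contra! k2
      refine h1 (zp.2 ⟨δ * e, ?_⟩)
      congr 1
      · linear_combination k2.2.1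
      · linear_combination k2.2.2
      · linear_combination -e * q
    · refine lemB fx sc (J_Wg ⟨_, _, _, _, rfl⟩ ⟨_, _, _, _, rfl⟩) fun k hk => ?_
      obtain ⟨i, hi⟩ := shift hk.1
      have k1 := hi 0
      simp only [mul_zero, s_zero, one_mul, s_mul, zero_add, add_zero] at k1
      obtain ⟨t, b', c', d', e', rfl⟩ := dec' hl hδ hk.2 hk.1.1 (.inl hd) k1
      rw [mul_inv_eq_iff_eq_mul, s_mul, s_mul, s_inj hl.inj] at k1
      obtain ⟨-, k2, -, -, k3, -⟩ := k1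
      have k4 : ∀ t d δ : F3, d ≠ 0 → δ ≠ 0 → 2 * t * d * δ = 0 → t = 0 := by decide
      obtain rfl := k4 t d δ hd hδ (by linear_combination δ * k2 - k3)
      exact ⟨_, _, _, _, by rw [mul_zero, mul_zero]⟩
  · obtain rfl : d = 0 := by simpa [ht, hδ] using h2
    intro k hk
    obtain ⟨i, hi⟩ := shift hk
    simp only [s_mul, add_zero] at hi
    have h3 : (3 : F3) = 0 := rfl
    by_cases h0 : i = 0
    · have k1 := hi (δ * e + b + 1)
      rw [h0, add_zero, mul_inv_eq_iff_eq_mul] at k1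
      refine QQ_le (fx.cx _ _ _ _ _ (fun h => mul_ne_zero ht hδ ?_) (mC.2 k1))
      linear_combination -h + t * (e + δ * b + δ) * h3 + 2 * t * e * q
    · obtain ⟨y, hy⟩ := (fun h1 h2 => hi (δ * e + b - i) ▸ intoJ (φ := φ) h1 h2 :
        _ → _ → ∃ y : G, y * (k * _ * k⁻¹) * y⁻¹ ∈ JJ φ) (by simpa using ht)
        (by linear_combination t * (e + δ * b) * h3 + 2 * t * e * q)
      refine (fx.xJ _ _ _ _ _ (fun h => mul_ne_zero ht (mul_ne_zero hδ h0) ?_) (y * k) (by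
        simpa only [mul_inv_rev, mul_assoc] using hy)).elim
      linear_combination h - t * (e + δ * b - δ * i) * h3 - 2 * t * e * q

/-- **I1** -/
theorem jobI1 : JobI1.{u} := by
  intro K G _ _ φ hl fx sc b c d e h k hk
  obtain ⟨m, hm⟩ := exists_u h
  have h1 : φ m * s φ 0 b c d e 0 = s φ 0 1 0 0 (b * e - c * d) 0 * φ m := by
    rw [s, s, ← map_mul, ← map_mul, hm]
  have h2 : φ m * k * (φ m)⁻¹ ∈ φ.range := cu1 K hl fx sc h (mC.2 (by
    rw [← mul_inv_eq_iff_eq_mul] at h1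
    rw [← h1, show ∀ x y z : G, x * y * x⁻¹ * (x * z * x⁻¹) = x * (y * z) * x⁻¹ by intros; group,
      mC.1 hk]
    group))
  have h3 : φ m ∈ φ.range := ⟨m, rfl⟩
  exact (mul_mem_cancel_left h3).1 ((mul_mem_cancel_right (inv_mem h3)).1 h2)

theorem cpf (hl : HL φ) (fx : Fx φ) (sc : SC φ) {b c d e : F3} (hd : d ≠ 0) :
    Ce (f0 φ) ⊓ Ce (s φ 0 b c d e 0) ≤ φ.range := by
  refine lemB fx sc (fun k hk => ⟨mC.2 (J_comm k hk _ ⟨_, _, _, _, rfl⟩),
    mC.2 (J_comm k hk _ ⟨_, _, _, _, rfl⟩)⟩) fun k hk => ?_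
  have k1 := mC.1 hk.1.2
  obtain ⟨t, b', c', d', e', rfl⟩ := dec' hl one_ne_zero hk.2 hk.1.1 (.inl hd)
    (mul_inv_eq_iff_eq_mul.2 k1)
  rw [s_mul, s_mul, s_inj hl.inj] at k1
  obtain rfl : t = 0 := (mul_eq_zero.1 (by linear_combination -k1.2.2.2.2.1 : d * t = 0)).resolve_left hd
  exact ⟨_, _, _, _, by rw [mul_zero, mul_zero]⟩

/-- `⟨z, e₂₃⟩` -/
def AA (φ : PP →* G) : Subgroup G where
  carrier := {g | ∃ c d, g = s φ 0 0 c d 0 0}
  one_mem' := ⟨0, 0, (s_zero φ).symm⟩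
  mul_mem' := by
    rintro _ _ ⟨c, d, rfl⟩ ⟨c', d', rfl⟩
    exact ⟨c + c', d + d', by rw [s_mul]; simp⟩
  inv_mem' := by rintro _ ⟨c, d, rfl⟩; exact ⟨-c, -d, by rw [s_inv]; simp⟩

theorem cgf (hl : HL φ) (fx : Fx φ) (sc : SC φ) {b c d e f : F3} (hf : f ≠ 0) :
    Ce (f0 φ) ⊓ Ce (s φ 0 b c d e f) ≤ φ.range := by
  have := Fact.mk Nat.prime_three
  have q := sq1 f hf
  set W := Ce (f0 φ) ⊓ Ce (s φ 0 b c d e f) with hW
  have h1 : ∀ k ∈ W ⊓ φ.range, ∃ c' e' t, k = s φ 0 (b * f * t) c' (d * f * t) e' t := fun k hk => by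
    have k1 := mC.1 hk.1.2
    obtain ⟨t, b', c', d', e', rfl⟩ := dec' hl one_ne_zero hk.2 hk.1.1 (.inr hf)
      (mul_inv_eq_iff_eq_mul.2 k1)
    rw [s_mul, s_mul, s_inj hl.inj] at k1
    refine ⟨c', e', t, ?_⟩
    congr 1
    · ring
    · linear_combination f * k1.2.2.1 - b' * q
    · linear_combination f * k1.2.2.2.2.1 - d' * q
    · ring
  have h2 : W ≤ opp 3 W ⊔ (W ⊓ φ.range) := bur (pSS.to_le fun k hk => by
      obtain ⟨_, _, _, rfl⟩ := h1 k hk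
      exact ⟨_, _, _, _, _, _, rfl⟩) inf_le_left (fun x hx y hy => by
      obtain ⟨_, _, _, rfl⟩ := h1 x hx
      obtain ⟨_, _, _, rfl⟩ := h1 y hy
      rw [s_mul, s_mul]
      congr 1 <;> ring)
    (inf_le_inf_left W (nor_le sc ⟨⟨mC.2 (by simp [s_mul]), mC.2 (by simp [s_mul, add_comm])⟩,
      s_mem ..⟩ inf_le_right))
  have c1 : Nat.card (F3 × F3) = Nat.card (AA φ) := Nat.card_eq_of_bijective
    (fun v => ⟨_, v.1, v.2, rfl⟩) ⟨fun ⟨_, _⟩ ⟨_, _⟩ h => by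
      simpa [s_inj hl.inj] using congrArg Subtype.val h, fun ⟨_, c, d, h⟩ => ⟨(c, d), Subtype.ext h.symm⟩⟩
  refine h2.trans (sup_le (H14.le_of_forall_inf_centralizer (p := 3) (A := AA φ) ⟨⟨⟨?_⟩⟩, ?_⟩
    (by rw [← c1]; simp) (le_trans ?_ (H14.normalizer_le_normalizer_opp W)) (H14.coprime_card_opp W) ?_)
    inf_le_right)
  · rintro ⟨_, c, d, rfl⟩ ⟨_, c', d', rfl⟩
    exact Subtype.ext (J_comm _ ⟨_, _, _, _, rfl⟩ _ ⟨_, _, _, _, rfl⟩)
  · rintro _ ⟨c, d, rfl⟩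
    simp [s_cube, s_zero]
  · rintro _ ⟨c', d', rfl⟩
    refine mem_normalizer_fintype fun k hk => ?_
    have k1 : s φ 0 0 c' d' 0 0 ∈ Ce (f0 φ) := mC.2 (J_comm _ ⟨_, _, _, _, rfl⟩ _ ⟨_, _, _, _, rfl⟩)
    refine mem_inf.2 ⟨mul_mem (mul_mem k1 hk.1) (inv_mem k1), mC.2 ?_⟩
    have k2 : s φ 0 b c d e f = s φ 0 0 c' d' 0 0 *
        (s φ 0 (0 * -(d' * f)) 0 0 (1 * -(d' * f)) 0 * s φ 0 b c d e f) * (s φ 0 0 c' d' 0 0)⁻¹ := by
      simp only [s_inv, s_mul]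
      congr 1 <;> ring
    have k3 : Commute k (s φ 0 (0 * -(d' * f)) 0 0 (1 * -(d' * f)) 0 * s φ 0 b c d e f) :=
      Commute.mul_right (cz hk.1 _) (mC.1 hk.2)
    rw [k2]
    exact (k3.conj _).eq
  · rintro _ ⟨c', d', rfl⟩ h k hk
    by_cases hd : d' = 0
    · subst hd
      refine sc1 sc (a := 0) (b := 0) (c := c') (.inr (.inr fun h' => h (by rw [h', s_zero]))) ?_
      rw [mC.1 hk.2, mul_inv_cancel_right]
      exact s_mem ..
    · exact cpf hl fx sc hd ⟨(H14.opp_le W hk.1).1, hk.2⟩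

/-- **I2** -/
theorem jobI2 : JobI2.{u} := by
  intro K G _ _ φ hl fx sc _
  refine k9 K hl fx sc one_ne_zero fun f b c d e h1 _ => ?_
  simp only [zero_mul, one_mul] at h1 ⊢
  have ad : ∀ {g k y : G}, y ∈ φ.range → y ∈ Ce (f0 φ) → k ∈ Ce (f0 φ) → y * (k * g * k⁻¹) * y⁻¹ = g →
      Ce (f0 φ) ⊓ Ce g ≤ φ.range → k ∈ φ.range := fun {g k y} y1 y2 k1 k2 k3 =>
    (mul_mem_cancel_left y1).1 (k3 ⟨mul_mem y2 k1, mC.2 (mul_inv_eq_iff_eq_mul.1 (by
      simpa only [mul_inv_rev, mul_assoc] using k2))⟩)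
  by_cases hf : f = 0
  · subst hf
    by_cases hd : d = 0
    · subst hd
      intro k hk
      obtain ⟨i, hi⟩ := shift hk
      have k1 := hi (-e)
      rw [s_mul, s_mul, show 1 * -e + e + 0 * 0 = 0 by ring] at k1
      simp only [add_zero] at k1
      refine sc1 sc ?_ (k1 ▸ s_mem ..)
      by_contra! k2
      refine h1 (zp.2 ⟨e, ?_⟩)
      congr 1
      · linear_combination k2.2.1
      · linear_combination k2.2.2
      · ring
    by_cases hb : b = 0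
    · subst hb
      intro k hk
      obtain ⟨i, hi⟩ := shift hk
      have k1 := hi 0
      simp only [mul_zero, s_zero, one_mul] at k1
      refine ad (g := s φ 0 0 c d e 0) (y := s φ 0 0 0 0 0 (d * i)) (s_mem ..) (mC.2 (by simp [s_mul])) hk.1 ?_
        (cpf hl fx sc hd)
      rw [k1, s_inv, s_mul, s_mul, s_mul]
      congr 1 <;> first | ring1 | linear_combination -i * sq1 d hd
    · refine lemB fx sc (J_Wg ⟨_, _, _, _, rfl⟩ ⟨_, _, _, _, rfl⟩) fun k hk => ?_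
      obtain ⟨i, hi⟩ := shift hk.1
      have k1 := hi 0
      simp only [mul_zero, s_zero, one_mul, s_mul, zero_add, add_zero] at k1
      obtain ⟨t, b', c', d', e', rfl⟩ := dec' hl one_ne_zero hk.2 hk.1.1 (.inl hd) k1
      rw [mul_inv_eq_iff_eq_mul, s_mul, s_mul, s_inj hl.inj] at k1
      obtain rfl : t = 0 := (mul_eq_zero.1 (by linear_combination -k1.2.2.1 : b * t = 0)).resolve_left hb
      exact ⟨_, _, _, _, by rw [mul_zero, mul_zero]⟩
  · intro k hk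
    obtain ⟨i, hi⟩ := shift hk
    have k1 := hi 0
    simp only [mul_zero, s_zero, one_mul] at k1
    refine ad (g := s φ 0 b c d e f) (y := s φ 0 0 0 (-(f * i)) 0 0) (s_mem ..) (mC.2 (by simp [s_mul])) hk.1 ?_
      (cgf hl fx sc hf)
    rw [k1, s_inv, s_mul, s_mul, s_mul]
    congr 1 <;> first | ring1 | linear_combination -i * sq1 f hf

end H56.L43
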