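import Cfsg.Agent.H54.SpCard
import Cfsg.Agent.H54.SpBasis

set_option autoImplicit false
set_option linter.unusedSectionVars false

/-! Normal 2-rank of Sylow 2-subgroups of `GL_n(q)` and `Sp_{2n}(q)`: lower bounds. -/

namespace H56.NR

open Module Cfsg

/-- The 2-adic valuation of `q ^ i - 1`. -/
def av (q i : ℕ) : ℕ := padicValNat 2 (q ^ i - 1)

/-- The 2-adic valuation of the order of `GL_n(q)`. -/
def gv (q n : ℕ) : ℕ := ∑ i ∈ Finset.range n, av q (i + 1)

section arith

variable {q : ℕ}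

theorem sub_ne (h1 : 1 < q) {i : ℕ} (hi : i ≠ 0) : q ^ i - 1 ≠ 0 :=
  Nat.sub_ne_zero_of_lt (Nat.one_lt_pow hi h1)

theorem av_odd (h1 : 1 < q) (hq : Odd q) {i : ℕ} (hi : Odd i) : av q i = av q 1 := by
  have h2 : q ^ i - 1 = (∑ j ∈ Finset.range i, q ^ j) * (q - 1) := by
    zify [h1.le, Nat.one_le_pow i q (by omega)]
    rw [geom_sum_mul]
  have h3 : Odd (∑ j ∈ Finset.range i, q ^ j) := by
    rw [Finset.odd_sum_iff_odd_card_odd, Finset.filter_true_of_mem fun j _ => hq.pow]
    simpa using hi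
  rw [av, av, h2, padicValNat.mul h3.pos.ne' (by omega), pow_one,
    padicValNat.eq_zero_of_not_dvd h3.not_two_dvd_nat, zero_add]

theorem av_one (h1 : 1 < q) (hq : q % 4 = 1) {i : ℕ} (hi : i ≠ 0) :
    av q i = av q 1 + padicValNat 2 i := by
  have h2 : Odd q := Nat.odd_iff.2 (by omega)
  rcases i.even_or_odd with h | h
  · have h3 := padicValNat.pow_two_sub_one h1 h2.not_two_dvd_nat hi h
    have h4 : padicValNat 2 (q + 1) = 1 := by
      rw [show q + 1 = 2 * (2 * (q / 4) + 1) by omega, padicValNat.mul (by omega) (by omega),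
        padicValNat.eq_zero_of_not_dvd (n := 2 * (q / 4) + 1) (by omega)]
      simp
    rw [av, av, pow_one]
    omega
  · rw [av_odd h1 h2 h, padicValNat.eq_zero_of_not_dvd h.not_two_dvd_nat, add_zero]

theorem av_even (h1 : 1 < q) (hq : Odd q) {i : ℕ} (hi : i ≠ 0) :
    av q (2 * i) = av q 2 + padicValNat 2 i := by
  have h2 : q ^ 2 % 4 = 1 := by
    obtain ⟨k, rfl⟩ := hq
    rw [show (2 * k + 1) ^ 2 = 1 + 4 * (k * k + k) by ring]; omega
  simpa [av, pow_mul] using av_one (Nat.one_lt_pow two_ne_zero h1) h2 hi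

theorem val_fact (n : ℕ) :
    padicValNat 2 (n + 1).factorial = padicValNat 2 (n + 1) + padicValNat 2 n.factorial := by
  rw [Nat.factorial_succ, padicValNat.mul (by omega) n.factorial_ne_zero]

theorem gv_succ (n : ℕ) : gv q (n + 1) = gv q n + av q (n + 1) := Finset.sum_range_succ _ _

theorem gv_one (h1 : 1 < q) (hq : q % 4 = 1) (n : ℕ) :
    gv q n = n * gv q 1 + padicValNat 2 n.factorial := by
  induction n with
  | zero => simp [gv]
  | succ n ih => rw [gv_succ, ih, val_fact, av_one h1 hq n.succ_ne_zero]; simp [gv]; ring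

theorem gv_even (h1 : 1 < q) (hq : Odd q) (n : ℕ) :
    gv q (2 * n) = n * gv q 2 + padicValNat 2 n.factorial := by
  induction n with
  | zero => simp [gv]
  | succ n ih =>
    rw [Nat.mul_succ, gv_succ, gv_succ, ih, val_fact, av_odd h1 hq (odd_two_mul_add_one n),
      show 2 * n + 1 + 1 = 2 * (n + 1) by ring, av_even h1 hq n.succ_ne_zero]
    simp [gv, Finset.sum_range_succ]; ring

theorem val_sp (h1 : 1 < q) (hq : Odd q) (m : ℕ) :
    padicValNat 2 (H54.spOrder q m) = m * av q 2 + padicValNat 2 m.factorial := by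
  induction m with
  | zero => simp [H54.spOrder_zero]
  | succ m ih =>
    have h2 := (H54.spOrder_pos h1 m).ne'
    rw [H54.spOrder_succ, padicValNat.mul (sub_ne h1 (by omega)) (by positivity),
      padicValNat.mul (by positivity) h2, ih, val_fact,
      padicValNat.eq_zero_of_not_dvd hq.pow.not_two_dvd_nat, ← av, av_even h1 hq m.succ_ne_zero]
    ring

theorem val_gl (h1 : 1 < q) (hq : Odd q) (n : ℕ) :
    padicValNat 2 (∏ i : Fin n, (q ^ n - q ^ (i : ℕ))) = gv q n := by
  have h2 : ∀ s : Finset ℕ, (∀ i ∈ s, i < n) → padicValNat 2 (∏ i ∈ s, (q ^ n - q ^ i)) =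
      ∑ i ∈ s, av q (n - 1 - i + 1) := fun s => by
    induction s using Finset.induction_on with
    | empty => simp
    | insert a s ha ih =>
      intro h
      have h3 := h a (by simp)
      have h4 : q ^ n - q ^ a = q ^ a * (q ^ (n - 1 - a + 1) - 1) := by
        rw [Nat.mul_sub, ← pow_add, mul_one]; congr 2; omega
      rw [Finset.prod_insert ha, Finset.sum_insert ha, padicValNat.mul
        (Nat.sub_ne_zero_of_lt (Nat.pow_lt_pow_right h1 h3)) (Finset.prod_ne_zero_iff.2 fun i hi =>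
          Nat.sub_ne_zero_of_lt (Nat.pow_lt_pow_right h1 (h i (by simp [hi])))),
        ih fun i hi => h i (by simp [hi]), h4,
        padicValNat.mul (by positivity) (sub_ne h1 (by omega)),
        padicValNat.eq_zero_of_not_dvd hq.pow.not_two_dvd_nat, zero_add, av]
  rw [Fin.prod_univ_eq_prod_range (fun i => q ^ n - q ^ i), h2 _ (by simp),
    Finset.sum_range_reflect (fun i => av q (i + 1))]
  rfl

theorem gv_add (h1 : 1 < q) (hq : Odd q) (b m : ℕ) : gv q b + m + (b % 2 + m) / 2 +
    padicValNat 2 ((b + 1).ascFactorial m) ≤ gv q (b + m) := by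
  induction m with
  | zero => simp
  | succ m ih =>
    rw [← add_assoc b, gv_succ, Nat.ascFactorial_succ,
      padicValNat.mul (by omega) (Nat.ascFactorial_pos b m).ne', add_right_comm b 1]
    rcases (b + m + 1).even_or_odd with h | h
    · have := padicValNat.pow_two_sub_one_ge h1 hq.not_two_dvd_nat (by omega) h
      rw [av]; omega
    · have h2 : 1 ≤ av q 1 := one_le_padicValNat_of_dvd (sub_ne h1 one_ne_zero)
        (by obtain ⟨k, rfl⟩ := hq; simp)
      rw [av_odd h1 hq h, padicValNat.eq_zero_of_not_dvd h.not_two_dvd_nat]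
      rw [Nat.odd_iff] at h
      omega

end arith

/-- An elementary abelian 2-subgroup of rank at least `r` whose normaliser has odd index. -/
def LB (G : Type*) [Group G] (r : ℕ) : Prop :=
  ∃ D N : Subgroup G, IsElementaryAbelian 2 D ∧ 2 ^ r ≤ Nat.card D ∧
    N ≤ Subgroup.normalizer (D : Set G) ∧ ¬ 2 ∣ N.index

variable {G K : Type*} [Group G] [Group K] {r s : ℕ}

theorem ea_map {D : Subgroup K} (h : IsElementaryAbelian 2 D) (φ : K →* G) :
    IsElementaryAbelian 2 (D.map φ) :=
  ⟨have := h.1; inferInstance, by rintro _ ⟨a, ha, rfl⟩; rw [← map_pow, h.2 a ha, map_one]⟩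

theorem LB.of_hom [Finite G] (h : LB K r) (φ : K →* G) (hφ : Function.Injective φ)
    (hv : padicValNat 2 (Nat.card G) ≤ padicValNat 2 (Nat.card K)) : LB G r := by
  obtain ⟨D, N, h1, h2, h3, h4⟩ := h
  have : Finite K := Finite.of_injective φ hφ
  refine ⟨D.map φ, N.map φ, ea_map h1 φ, by rwa [Subgroup.card_map_of_injective hφ],
    (Subgroup.map_mono h3).trans (Subgroup.le_normalizer_map φ), ?_⟩
  rw [Subgroup.index_map_of_injective _ hφ]
  refine Nat.prime_two.not_dvd_mul h4 fun h5 => ?_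
  have h6 := φ.range.index_mul_card
  rw [← Nat.card_congr (MonoidHom.ofInjective hφ).toEquiv] at h6
  have := one_le_padicValNat_of_dvd Subgroup.index_ne_zero_of_finite h5
  rw [← h6, padicValNat.mul Subgroup.index_ne_zero_of_finite Nat.card_pos.ne'] at hv
  omega

theorem LB.of_equiv [Finite G] (h : LB K r) (φ : K ≃* G) : LB G r :=
  h.of_hom φ.toMonoidHom φ.injective (by rw [Nat.card_congr φ.toEquiv])

theorem LB.prod (h : LB G r) (h' : LB K s) : LB (G × K) (r + s) := by
  obtain ⟨D, N, h1, h2, h3, h4⟩ := h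
  obtain ⟨D', N', h1', h2', h3', h4'⟩ := h'
  refine ⟨D.prod D', N.prod N', ⟨⟨⟨fun a b => Subtype.ext (Prod.ext
    (congrArg Subtype.val (h1.1.1.1 ⟨_, a.2.1⟩ ⟨_, b.2.1⟩))
    (congrArg Subtype.val (h1'.1.1.1 ⟨_, a.2.2⟩ ⟨_, b.2.2⟩)))⟩⟩,
    fun a ha => Prod.ext (h1.2 _ ha.1) (h1'.2 _ ha.2)⟩, ?_, fun g hg x => ?_, ?_⟩
  · rw [Nat.card_congr (Subgroup.prodEquiv D D').toEquiv, Nat.card_prod, pow_add]
    exact Nat.mul_le_mul h2 h2'
  · exact and_congr (h3 hg.1 x.1) (h3' hg.2 x.2)
  · rw [Subgroup.index_prod]; exact Nat.prime_two.not_dvd_mul h4 h4'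

theorem LB.sylow [Finite G] (h : LB G r) (S : Sylow 2 G) :
    ∃ E : Subgroup S, E.Normal ∧ IsElementaryAbelian 2 E ∧ 2 ^ r ≤ Nat.card E := by
  obtain ⟨D, N, h1, h2, h3, h4⟩ := h
  have h5 : IsPGroup 2 D := fun a => ⟨1, Subtype.ext (h1.2 a a.2)⟩
  obtain ⟨T⟩ : Nonempty (Sylow 2 N) := inferInstance
  have h6 : IsPGroup 2 ↥(D ⊔ T.1.map N.subtype) :=
    h5.to_sup_of_normal_left' (T.2.map _) ((Subgroup.map_subtype_le _).trans h3)
  obtain ⟨Q, hQ⟩ := h6.exists_le_sylow
  have h7 : T.1.map N.subtype = Q := by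
    have h8 : ¬ 2 ∣ (T.1.map N.subtype).index := by
      rw [Subgroup.index_map_of_injective _ N.subtype_injective, Subgroup.range_subtype]
      exact Nat.prime_two.not_dvd_mul T.not_dvd_index h4
    exact ((T.2.map N.subtype).toSylow h8).3 Q.2 (le_sup_right.trans hQ) |>.symm
  have h8 : (Q : Subgroup G) ≤ Subgroup.normalizer (D : Set G) :=
    h7 ▸ (Subgroup.map_subtype_le _).trans h3
  have h9 : D ≤ Q := le_sup_left.trans hQ
  have : (D.subgroupOf Q).Normal := (Subgroup.normal_subgroupOf_iff_le_normalizer h9).2 h8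
  let e := Q.equiv S
  refine ⟨(D.subgroupOf Q).map e, Subgroup.Normal.map this _ e.surjective, ea_map ⟨have := h1.1; inferInstance,
    fun a ha => Subtype.ext (h1.2 a ha)⟩ _, ?_⟩
  rwa [Subgroup.card_map_of_injective e.injective,
    Nat.card_congr (Subgroup.subgroupOfEquivOfLe h9).toEquiv]

/-- The wreath product with a symmetric group. -/
abbrev Wre (ι K : Type*) [Group K] := (ι → K) ⋊[mulAutArrow] Equiv.Perm ι

theorem LB.wre {ι : Type*} [Fintype ι] {z : K} (hz : orderOf z = 2) (hc : ∀ k, k * z = z * k) :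
    LB (Wre ι K) (Fintype.card ι) := by
  classical
  have h1 : ∀ a ∈ Subgroup.zpowers z, ∀ k, k * a = a * k := by
    rintro _ ⟨n, rfl⟩ k; exact (Commute.zpow_right (hc k) n).eq
  refine ⟨(Subgroup.pi Set.univ fun _ => Subgroup.zpowers z).map SemidirectProduct.inl, ⊤,
    ea_map ⟨⟨⟨fun a b => Subtype.ext (funext fun i => h1 _ ((Subgroup.mem_pi _).1 b.2 i trivial) _)⟩⟩, fun a ha =>
      funext fun i => ?_⟩ _, ?_, ?_, by simp⟩
  · exact orderOf_dvd_iff_pow_eq_one.1 (hz ▸ orderOf_dvd_of_mem_zpowers (ha i trivial))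
  · rw [Subgroup.card_map_of_injective SemidirectProduct.inl_injective]
    refine le_of_eq (Eq.symm ((Nat.card_congr (β := ι → Subgroup.zpowers z)
      ⟨fun a i => ⟨a.1 i, a.2 i trivial⟩, fun a => ⟨fun i => a i, fun i _ => (a i).2⟩,
        fun _ => rfl, fun _ => rfl⟩).trans ?_))
    rw [Nat.card_fun, Nat.card_zpowers, hz, Nat.card_eq_fintype_card]
  · rw [top_le_iff, Subgroup.normalizer_eq_top_iff]
    refine ⟨?_⟩
    rintro _ ⟨a, ha, rfl⟩ g
    refine ⟨mulAutArrow g.right a, fun i _ => ha _ trivial, ?_⟩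
    rw [eq_mul_inv_iff_mul_eq]
    ext i
    · exact (h1 _ (ha _ trivial) _).symm
    · simp

variable {F V W : Type*} [Field F] [AddCommGroup V] [Module F V] [AddCommGroup W] [Module F W]

/-- The imprimitive action of a wreath product. -/
def wrHom {ι : Type*} (ρ : K →* (W ≃ₗ[F] W)) : Wre ι K →* ((ι → W) ≃ₗ[F] (ι → W)) :=
  MonoidHom.mk' (fun g => (LinearEquiv.piCongrLeft' F (fun _ => W) g.right).trans
    (LinearEquiv.piCongrRight fun i => ρ (g.left i))) fun a b => by
      ext v i; simp; rfl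

theorem wrHom_apply {ι : Type*} (ρ : K →* (W ≃ₗ[F] W)) (g : Wre ι K) (v : ι → W) (i : ι) :
    wrHom ρ g v i = ρ (g.left i) (v (g.right.symm i)) := rfl

theorem wrHom_inj {ι : Type*} [Nontrivial W] {ρ : K →* (W ≃ₗ[F] W)} (hρ : Function.Injective ρ) :
    Function.Injective (wrHom (ι := ι) ρ) := by
  classical
  refine (injective_iff_map_eq_one _).2 fun g hg => ?_
  have h1 : ∀ (v : ι → W) i, ρ (g.left i) (v (g.right.symm i)) = v i := fun v i =>
    congrFun (LinearEquiv.congr_fun hg v) i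
  ext i
  · exact (injective_iff_map_eq_one _).1 hρ _ (LinearEquiv.ext fun w => h1 (fun _ => w) i)
  · obtain ⟨w, hw⟩ := exists_ne (0 : W)
    by_contra hc
    have := h1 (Pi.single i w) (g.right i)
    simp [Pi.single_eq_of_ne (show g.right i ≠ i from hc), hw] at this

theorem card_wre {ι : Type*} [Fintype ι] [Finite K] : padicValNat 2 (Nat.card (Wre ι K)) =
    Fintype.card ι * padicValNat 2 (Nat.card K) + padicValNat 2 (Fintype.card ι).factorial := by
  classical
  rw [SemidirectProduct.card, Nat.card_fun, Nat.card_perm, padicValNat.mul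
    (pow_ne_zero _ Nat.card_pos.ne') (Nat.factorial_ne_zero _), padicValNat.pow,
    Nat.card_eq_fintype_card (α := ι)]

theorem orderOf_neg [Nontrivial W] (h2 : (2 : F) ≠ 0) : orderOf (LinearEquiv.neg F : W ≃ₗ[F] W) = 2 :=
  orderOf_eq_prime (by ext; simp [sq]) fun h => by
    obtain ⟨w, hw⟩ := exists_ne (0 : W)
    have : -w = w := LinearEquiv.congr_fun h w
    rw [neg_eq_iff_add_eq_zero, ← two_smul F, smul_eq_zero] at this
    tauto

variable [Finite F] [FiniteDimensional F V] [FiniteDimensional F W]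

theorem two_ne (hq : Odd (Nat.card F)) : (2 : F) ≠ 0 := fun h => by
  have := Fintype.ofFinite F
  obtain ⟨k, hk⟩ := hq
  have h1 := FiniteField.cast_card_eq_zero F
  rw [← Nat.card_eq_fintype_card, hk] at h1
  simp [h] at h1

theorem val_card (hq : Odd (Nat.card F)) :
    padicValNat 2 (Nat.card (V ≃ₗ[F] V)) = gv (Nat.card F) (finrank F V) := by
  rw [H54.card_linearEquiv_self, val_gl Finite.one_lt_card hq]

instance : Finite (V ≃ₗ[F] V) :=
  have := Module.finite_of_finite F (M := V)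
  Finite.of_injective (fun g : V ≃ₗ[F] V => (g : V → V)) DFunLike.coe_injective

/-- Transport of automorphisms. -/
def cj (e : V ≃ₗ[F] W) : (V ≃ₗ[F] V) ≃* (W ≃ₗ[F] W) where
  toFun g := e.symm.trans (g.trans e)
  invFun g := e.trans (g.trans e.symm)
  left_inv g := by ext; simp
  right_inv g := by ext; simp
  map_mul' a b := by ext; simp

theorem lb_wre (hq : Odd (Nat.card F)) {k n : ℕ} (hk : k ≠ 0) (hV : finrank F V = n * k)
    (hv : gv (Nat.card F) (n * k) ≤ n * gv (Nat.card F) k + padicValNat 2 n.factorial) :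
    LB (V ≃ₗ[F] V) n := by
  have : Nonempty (Fin k) := ⟨⟨0, by omega⟩⟩
  have h1 : finrank F (Fin n → Fin k → F) = n * k := by simp [finrank_pi_fintype]
  have := (LB.wre (ι := Fin n) (orderOf_neg (W := Fin k → F) (two_ne hq))
    fun k => by ext; simp).of_hom _ (wrHom_inj (ρ := MonoidHom.id _) Function.injective_id)
      (by rw [val_card hq, card_wre, val_card hq, h1]; simpa using hv)
  simpa using this.of_equiv (cj (LinearEquiv.ofFinrankEq _ V (h1.trans hV.symm)))

theorem lb_one (hq : Nat.card F % 4 = 1) : LB (V ≃ₗ[F] V) (finrank F V) :=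
  lb_wre (Nat.odd_iff.2 (by omega)) one_ne_zero (mul_one _).symm
    (by rw [mul_one, gv_one Finite.one_lt_card hq])

theorem lb_half (hq : Odd (Nat.card F)) : LB (V ≃ₗ[F] V) ((finrank F V + 1) / 2) := by
  have h1 : ∀ n, gv (Nat.card F) (n * 2) ≤ n * gv (Nat.card F) 2 + padicValNat 2 n.factorial :=
    fun n => by rw [mul_comm, gv_even Finite.one_lt_card hq]
  obtain ⟨n, h | h⟩ := (finrank F V).even_or_odd'
  · rw [h, show (2 * n + 1) / 2 = n by omega]
    exact lb_wre hq two_ne_zero (by omega) (h1 n)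
  rw [h, show (2 * n + 1 + 1) / 2 = n + 1 by omega]
  have := ((lb_wre (V := Fin (2 * n) → F) hq two_ne_zero (by simp [mul_comm]) (h1 n)).prod
    (lb_wre (V := F) (n := 1) hq one_ne_zero (by simp) (by simp))).of_hom
    (MonoidHom.mk' (fun g => g.1.prodCongr g.2) fun a b => by ext <;> simp)
    ((injective_iff_map_eq_one _).2 fun g hg => Prod.ext
      (LinearEquiv.ext fun v => congrArg Prod.fst (LinearEquiv.congr_fun hg (v, 0)))
      (LinearEquiv.ext fun v => congrArg Prod.snd (LinearEquiv.congr_fun hg (0, v)))) (by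
      rw [Nat.card_prod, padicValNat.mul Nat.card_pos.ne' Nat.card_pos.ne', val_card hq,
        val_card hq, val_card hq]
      simp [gv_succ, av_odd Finite.one_lt_card hq (odd_two_mul_add_one n)])
  exact this.of_equiv (cj (LinearEquiv.ofFinrankEq _ V (by simp [h])))

theorem lb_sp (hq : Odd (Nat.card F)) (n : ℕ) : LB (Matrix.symplecticGroup (Fin n) F) n := by
  let B : LinearMap.BilinForm F (Fin n → Fin 1 ⊕ Fin 1 → F) :=
    ∑ i, (H54.spB (Fin 1) F).compl₁₂ (LinearMap.proj i) (LinearMap.proj i)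
  have h1 : ∀ u v, B u v = ∑ i, H54.spB (Fin 1) F (u i) (v i) := fun u v => by
    simp [B, LinearMap.sum_apply]
  have hA : B.IsAlt := fun u => by simp [h1, H54.spB_isAlt.self_eq_zero]
  have h2 : ∀ u, (∀ v, B u v = 0) → u = 0 := fun u hu => funext fun i =>
    H54.spB_nondegenerate.1 _ fun w => by
      simpa [h1, Pi.single_apply, apply_ite] using hu (Pi.single i w)
  have hB : B.Nondegenerate := ⟨h2, fun u hu => h2 u fun v => by rw [← hA.neg_eq, hu, neg_zero]⟩
  have h3 : finrank F (Fin n → Fin 1 ⊕ Fin 1 → F) = 2 * n := by simp [finrank_pi_fintype, mul_comm]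
  obtain ⟨e⟩ := H54.nonempty_isom_equiv_sp hB hA (Fin n) (by simpa using h3)
  have := (LB.wre (ι := Fin n) (K := H54.Isom (H54.spB (Fin 1) F))
    (z := ⟨LinearEquiv.neg F, fun u v => by simp⟩)
    (by rw [← Subgroup.orderOf_coe]; exact orderOf_neg (two_ne hq))
    fun k => by ext; simp).of_hom ((wrHom (Subgroup.subtype _)).codRestrict (H54.Isom B)
      fun g u v => by
        rw [h1, h1, ← g.right.symm.sum_comp (fun i => H54.spB (Fin 1) F (u i) (v i))]
        exact Finset.sum_congr rfl fun i _ => (g.left i).2 _ _)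
    ((MonoidHom.injective_codRestrict _ _ _).2 (wrHom_inj (Subgroup.subtype_injective _))) (by
      rw [card_wre, H54.card_Isom hB hA h3, H54.card_Isom H54.spB_nondegenerate H54.spB_isAlt
        (m := 1) (by simp), val_sp Finite.one_lt_card hq, val_sp Finite.one_lt_card hq]
      simp)
  simpa using this.of_equiv e

end H56.NR
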