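import Cfsg.Agent.H56.NR1

set_option autoImplicit false
set_option linter.unusedSectionVars false

/-! Normal 2-rank of Sylow 2-subgroups of `GL_n(q)` and `Sp_{2n}(q)`: upper bounds. -/

namespace H56.NR

open Module Cfsg

variable {F V S : Type*} [Field F] [AddCommGroup V] [Module F V] [FiniteDimensional F V] [Group S]
  [Finite S] {ρ : S →* (V ≃ₗ[F] V)} {E : Subgroup S}

theorem exists_basis (h2 : (2 : F) ≠ 0) (ρ : S →* (V ≃ₗ[F] V)) (hE : IsElementaryAbelian 2 E) :
    ∃ (b : Basis (Fin (finrank F V)) F V) (χ : Fin (finrank F V) → E → F),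
      (∀ i e, χ i e = 1 ∨ χ i e = -1) ∧ ∀ i (e : E), ρ e (b i) = χ i e • b i := by
  classical
  have h1 : ∀ s : Finset E, Submodule.span F {v | ∀ e ∈ s, ρ e v = v ∨ ρ e v = -v} = ⊤ := by
    intro s
    induction s using Finset.induction_on with
    | empty => simp
    | insert a s _ ih =>
      rw [eq_top_iff, ← ih, Submodule.span_le]
      intro v hv
      have h3 : ρ a (ρ a v) = v := by
        rw [← LinearEquiv.mul_apply, ← map_mul, ← sq, hE.2 a a.2, map_one]; rfl
      have h4 : ∀ e : E, ρ e (ρ a v) = ρ a (ρ e v) := fun e => by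
        rw [← LinearEquiv.mul_apply, ← map_mul, ← LinearEquiv.mul_apply, ← map_mul]
        exact congrArg (fun x : E => ρ x v) (hE.1.1.1 e a)
      have h5 : v = (2 : F)⁻¹ • ((v + ρ a v) + (v - ρ a v)) := by
        match_scalars <;> field_simp <;> ring
      rw [h5]
      refine Submodule.smul_mem _ _ (add_mem (Submodule.subset_span ?_) (Submodule.subset_span ?_))
      all_goals
        refine Finset.forall_mem_insert _ _ _ |>.2 ⟨by simp [h3, add_comm], fun e he => ?_⟩
        rcases hv e he with h | h <;> simp [h4, h, add_comm, neg_add_eq_sub]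
  have := Fintype.ofFinite E
  obtain ⟨t, t1, t2, t3⟩ := exists_linearIndependent F
    {v | ∀ e ∈ (Finset.univ : Finset E), ρ e v = v ∨ ρ e v = -v}
  let b := Basis.mk t3 (by rw [Subtype.range_coe, t2, h1])
  have := FiniteDimensional.fintypeBasisIndex b
  let σ := Fintype.equivFinOfCardEq (finrank_eq_card_basis b).symm
  have h3 : ∀ i (e : E), ∃ c : F, (c = 1 ∨ c = -1) ∧ ρ e (b.reindex σ i) = c • b.reindex σ i :=
    fun i e => by
      rw [Basis.reindex_apply, Basis.mk_apply]
      rcases t1 (σ.symm i).2 e (Finset.mem_univ _) with h | h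
      · exact ⟨1, Or.inl rfl, by simpa using h⟩
      · exact ⟨-1, Or.inr rfl, by simpa using h⟩
  choose χ h4 h5 using h3
  exact ⟨_, χ, h4, h5⟩

variable {ι : Type*} [Fintype ι] [DecidableEq ι] {b : Basis ι F V} {χ : ι → E → F}

open Classical in
theorem card_le (hρ : Function.Injective ρ) (h1 : ∀ i e, χ i e = 1 ∨ χ i e = -1)
    (h2 : ∀ i (e : E), ρ e (b i) = χ i e • b i) :
    Nat.card E ≤ 2 ^ (Finset.univ.image χ).card := by
  have := Nat.card_le_card_of_injective (β := Finset.univ.image χ → Prop)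
    (fun (e : E) ψ => ψ.1 e = 1) fun e e' h => Subtype.ext (hρ (LinearEquiv.toLinearMap_injective
      (b.ext fun i => by
        have h3 : (χ i e = 1) = (χ i e' = 1) :=
          congrFun h ⟨χ i, Finset.mem_image_of_mem _ (Finset.mem_univ i)⟩
        have : χ i e = χ i e' := by
          rcases h1 i e with h4 | h4 <;> rcases h1 i e' with h5 | h5 <;> simp_all
        simp [h2, this])))
  rwa [Nat.card_fun, Nat.card_eq_fintype_card (α := Prop), Fintype.card_prop,
    Nat.card_eq_fintype_card (α := Finset.univ.image χ), Fintype.card_coe] at this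

open Classical in
theorem two_mul_card_le {κ : Type*} (χ : ι → κ) : 2 * (Finset.univ.image χ).card ≤
    Fintype.card ι + Nat.card {i // ∀ j, χ j = χ i → j = i} := by
  rw [Nat.card_eq_fintype_card, Fintype.card_subtype, ← Finset.card_univ, Finset.card_eq_sum_card_image χ Finset.univ,
    Finset.card_eq_sum_card_fiberwise (f := χ) (t := Finset.univ.image χ)
      (s := Finset.univ.filter _) fun i _ => by simp, ← Finset.sum_add_distrib, mul_comm]
  refine Finset.card_nsmul_le_sum _ _ (2 : ℕ) fun ψ hψ => ?_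
  obtain ⟨i, -, rfl⟩ := Finset.mem_image.1 hψ
  by_cases h : ∀ j, χ j = χ i → j = i
  · exact Nat.add_le_add (Finset.card_pos.2 ⟨i, by simp⟩) (Finset.card_pos.2 ⟨i, by simpa using h⟩)
  · push Not at h
    obtain ⟨j, h1, h2⟩ := h
    exact le_add_right (Finset.one_lt_card.2 ⟨j, by simpa using h1, i, by simp, h2⟩)

theorem ub_gl (h2 : (2 : F) ≠ 0) (hρ : Function.Injective ρ) (hE : IsElementaryAbelian 2 E) :
    Nat.card E ≤ 2 ^ finrank F V := by
  classical
  obtain ⟨b, χ, h1, h3⟩ := exists_basis h2 ρ hE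
  exact (card_le hρ h1 h3).trans (Nat.pow_le_pow_right two_pos
    (by convert (Finset.card_image_le (f := χ) (s := Finset.univ)).trans (Finset.card_fin _).le))

theorem ub_sp (h2 : (2 : F) ≠ 0) (hρ : Function.Injective ρ) (hE : IsElementaryAbelian 2 E)
    {B : LinearMap.BilinForm F V} (hB : B.Nondegenerate) (hA : B.IsAlt)
    (hS : ∀ s u v, B (ρ s u) (ρ s v) = B u v) {m : ℕ} (hm : finrank F V = 2 * m) :
    Nat.card E ≤ 2 ^ m := by
  classical
  obtain ⟨b, χ, h1, h3⟩ := exists_basis h2 ρ hE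
  refine (card_le hρ h1 h3).trans (Nat.pow_le_pow_right two_pos ?_)
  have h4 := two_mul_card_le χ
  have : IsEmpty {i // ∀ j, χ j = χ i → j = i} := ⟨fun i => b.ne_zero i (hB.1 _ fun v =>
    LinearMap.congr_fun (b.ext (f₁ := B (b i)) (f₂ := 0) fun j => by_contra fun h5 => h5 (by
      rw [i.2 j (funext fun e => ?_)]
      · exact hA.self_eq_zero _
      have h6 := hS e (b i) (b j)
      simp only [h3, map_smul, LinearMap.smul_apply, smul_eq_mul, ← mul_assoc] at h6
      have h7 := (mul_eq_right₀ h5).1 h6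
      rcases h1 i e with h | h <;> rw [h] at h7 ⊢
      · simpa using h7
      · linear_combination -h7)) v)⟩
  rw [Nat.card_of_isEmpty, Fintype.card_fin] at h4
  omega

set_option maxHeartbeats 600000 in
theorem ub_three [Fintype F] (hq : Fintype.card F % 4 = 3) (hρ : Function.Injective ρ) [E.Normal]
    (hE : IsElementaryAbelian 2 E) (hS : Nat.card S = 2 ^ gv (Nat.card F) (finrank F V)) :
    Nat.card E ≤ 2 ^ ((finrank F V + 1) / 2) := by
  classical
  have hodd : Odd (Nat.card F) := by rw [Nat.card_eq_fintype_card, Nat.odd_iff]; omega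
  obtain ⟨b, χ, h1, h3⟩ := exists_basis (two_ne hodd) ρ hE
  refine (card_le hρ h1 h3).trans (Nat.pow_le_pow_right two_pos ?_)
  have h4 := two_mul_card_le χ
  rw [Fintype.card_fin] at h4
  set I := {i // ∀ j, χ j = χ i → j = i}
  suffices Nat.card I ≤ 1 by omega
  by_contra hm
  have k1 : ∀ (s : S) i j, b.repr (ρ s (b i)) j ≠ 0 → ∀ e : E,
      χ j e = χ i (MulAut.conjNormal s⁻¹ e) := fun s i j h e => by
    have h5 : ρ e (ρ s (b i)) = χ i (MulAut.conjNormal s⁻¹ e) • ρ s (b i) := by
      rw [← map_smul, ← h3]; simp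
    have h6 : ∀ v, b.repr (ρ e v) j = χ j e * b.repr v j := fun v => LinearMap.congr_fun
      (b.ext (f₁ := b.coord j ∘ₗ (ρ e : V →ₗ[F] V)) (f₂ := χ j e • b.coord j) fun k => by
        by_cases h7 : k = j <;> simp [h3, h7]) v
    have h7 := h6 (ρ s (b i))
    rw [h5, map_smul, Finsupp.smul_apply, smul_eq_mul] at h7
    exact (mul_right_cancel₀ h h7).symm
  have k6 : ∀ (s : S) i, ∃ j, b.repr (ρ s (b i)) j ≠ 0 := fun s i => by
    by_contra hc
    push Not at hc
    exact b.ne_zero i (by simpa using (Finsupp.ext hc : b.repr (ρ s (b i)) = 0))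
  have k2 : ∀ (s : S) (i : I) j, b.repr (ρ s (b i)) j ≠ 0 → ∀ k, ρ s⁻¹ (b k) ∉ F ∙ b i → χ k ≠ χ j :=
    fun s i j a1 k a2 a3 => a2 (by
      rw [← Set.image_singleton, b.mem_span_image]
      intro l hl
      have a5 : ∀ e, χ l e = χ i e := fun e => by
        rw [k1 s⁻¹ k l (Finsupp.mem_support_iff.1 hl), a3, k1 s i j a1]
        simp [← MulAut.mul_apply, ← map_mul]
      exact i.2 l (funext a5))
  have k3 : ∀ (s : S) (i : I), ∃ j : I, ∃ c : F, ρ s (b i) = c • b j := fun s i => by
    obtain ⟨j, hj⟩ := k6 s i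
    have a1 : ∀ k, χ k = χ j → ∃ c : F, b k = c • ρ s (b i) := fun k hk => by
      obtain ⟨c, hc⟩ := Submodule.mem_span_singleton.1 (of_not_not fun h => k2 s i j hj k h hk)
      exact ⟨c, by rw [← map_smul, hc]; simp⟩
    obtain ⟨c, hc⟩ := a1 j rfl
    have a2 : c ≠ 0 := by rintro rfl; exact b.ne_zero j (by simpa using hc)
    refine ⟨⟨j, fun k hk => ?_⟩, c⁻¹, by simp [hc, a2]⟩
    obtain ⟨d, hd⟩ := a1 k hk
    by_contra a3
    have a4 := congrArg (b.repr · k) hc
    have a5 := congrArg (b.repr · k) hd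
    simp [Ne.symm a3, a2] at a4 a5
    simp [a4] at a5
  choose σ c hσ using k3
  have k4 : ∀ {i j : I} {x y : F}, x • b i = y • b j → x • b i ≠ 0 → i = j := fun {i j x y} h h0 =>
    Subtype.ext (by_contra fun a => h0 (by
      have := congrArg (b.repr · i) h
      simp [Ne.symm a] at this
      simp [this]))
  have k5 : ∀ s i, c s i • b (σ s i) ≠ 0 := fun s i => by simp [← hσ, b.ne_zero]
  let _ : MulAction S I :=
    { smul := σ
      one_smul := fun i => k4 (i := σ 1 i) (y := 1) (by rw [← hσ]; simp) (k5 1 i)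
      mul_smul := fun s t i => k4 (i := σ (s * t) i) (j := σ s (σ t i)) (y := c t i * c s (σ t i)) (by
        rw [← hσ, map_mul, LinearEquiv.mul_apply, hσ t, map_smul, hσ s, smul_smul]) (k5 _ i) }
  let U := Submodule.span F (b '' {i | ¬ ∀ j, χ j = χ i → j = i})
  have hU : ∀ s : S, ∀ v ∈ U, ρ s v ∈ U := fun s => by
    refine Submodule.span_le (p := U.comap (ρ s : V →ₗ[F] V)) |>.2 ?_
    rintro _ ⟨i, hi, rfl⟩
    refine b.mem_span_image.2 fun j hj hj' => hi ?_
    have a1 := hσ s⁻¹ ⟨j, hj'⟩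
    have a2 : b.repr (ρ s⁻¹ (b j)) (σ s⁻¹ ⟨j, hj'⟩) ≠ 0 := by
      rw [a1]
      simpa [b.ne_zero] using k5 s⁻¹ ⟨j, hj'⟩
    have a3 : ∀ e, χ (σ s⁻¹ ⟨j, hj'⟩) e = χ i e := fun e => by
      rw [k1 s⁻¹ j _ a2, k1 s i j (Finsupp.mem_support_iff.1 hj)]
      simp [← MulAut.mul_apply, ← map_mul]
    rw [(σ s⁻¹ ⟨j, hj'⟩).2 i (funext a3).symm]
    exact (σ s⁻¹ ⟨j, hj'⟩).2
  let ρ' : Representation F S V := LinearEquiv.automorphismGroup.toLinearMapMonoidHom.comp ρ
  let π := (MulAction.toPermHom S I).prod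
    ((LinearMap.GeneralLinearGroup.generalLinearEquiv F U).toMonoidHom.comp
      (ρ'.subrepresentation U hU).asGroupHom)
  have hp : IsPGroup 2 S := IsPGroup.of_card hS
  have hdim : finrank F U + Nat.card I = finrank F V := by
    have a0 := finrank_span_eq_card (b.linearIndependent.comp
      (Subtype.val : {i // ¬ ∀ j, χ j = χ i → j = i} → _) Subtype.val_injective)
    rw [Set.range_comp, Subtype.range_coe_subtype, Fintype.card_subtype_compl, Fintype.card_fin] at a0
    have a1 := Fintype.card_subtype_le fun i => ∀ j, χ j = χ i → j = i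
    rw [Fintype.card_fin] at a1
    rw [a0, Nat.card_eq_fintype_card]
    exact Nat.sub_add_cancel a1
  obtain ⟨a, ha⟩ := IsPGroup.iff_card.1 (hp.of_surjective _ π.rangeRestrict_surjective)
  have a1 : a ≤ padicValNat 2 (Nat.card I).factorial + gv (Nat.card F) (finrank F U) := by
    have := π.range.card_subgroup_dvd_card
    rw [ha, padicValNat_dvd_iff_le Nat.card_pos.ne', Nat.card_prod, padicValNat.mul Nat.card_pos.ne'
      Nat.card_pos.ne', val_card hodd, Nat.card_perm] at this
    exact this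
  have a2 : ∀ (t : ℕ) (x : F), x ^ 2 ^ t = 1 → x = 1 ∨ x = -1 := fun t => by
    induction t with
    | zero => simp +contextual
    | succ t ih =>
      intro x hx
      rcases ih (x ^ 2) (by rwa [← pow_mul, ← pow_succ']) with h | h
      · exact mul_self_eq_one_iff.1 (by rw [← h, sq])
      · exact absurd hq (FiniteField.isSquare_neg_one_iff.1 ⟨x, by rw [← h, sq]⟩)
  have a3 : ∀ s : π.ker, ∀ i : I, ρ s (b i) = b i ∨ ρ s (b i) = -b i := fun s i => by
    have a4 : σ s i = i := Equiv.congr_fun (congrArg Prod.fst s.2) i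
    have a5 : ∀ n : ℕ, ρ (s.1 ^ n) (b i) = c s i ^ n • b i := fun n => by
      induction n with
      | zero => simp
      | succ n ih => rw [pow_succ', map_mul, LinearEquiv.mul_apply, ih, map_smul, hσ, a4, smul_smul,
          pow_succ]
    obtain ⟨t, ht⟩ := hp s.1
    have a6 := a5 (2 ^ t)
    rw [ht, map_one] at a6
    rcases a2 t (c s i) (smul_left_injective F (b.ne_zero i) (by simpa using a6.symm)) with h | h <;>
      simp [hσ, a4, h]
  have a4 : Nat.card π.ker ≤ 2 ^ Nat.card I := by
    have := Nat.card_le_card_of_injective (β := I → Prop) (fun (s : π.ker) i => ρ s (b i) = b i)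
      fun s t h => Subtype.ext (hρ (LinearEquiv.toLinearMap_injective (b.ext fun i => by
        by_cases a4 : ∀ j, χ j = χ i → j = i
        · have a5 : (ρ s (b i) = b i) = (ρ t (b i) = b i) := congrFun h ⟨i, a4⟩
          change ρ s (b i) = ρ t (b i)
          rcases a3 s ⟨i, a4⟩ with h4 | h4 <;> rcases a3 t ⟨i, a4⟩ with h5 | h5
          · exact h4.trans h5.symm
          · exact h4.trans (a5 ▸ h4 :).symm
          · exact (a5 ▸ h5 : ρ s (b i) = b i).trans h5.symm
          · exact h4.trans h5.symm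
        · have a5 : ∀ s : π.ker, ρ s (b i) = b i := fun s => congrArg Subtype.val
            (LinearEquiv.congr_fun (congrArg Prod.snd s.2) ⟨b i, Submodule.subset_span ⟨i, a4, rfl⟩⟩)
          exact (a5 s).trans (a5 t).symm)))
    rwa [Nat.card_fun, Nat.card_eq_fintype_card (α := Prop), Fintype.card_prop] at this
  have a5 := π.ker.index_mul_card
  rw [Subgroup.index_ker, ha, hS] at a5
  have a6 : gv (Nat.card F) (finrank F V) ≤ a + Nat.card I := by
    rw [← Nat.pow_le_pow_iff_right one_lt_two, pow_add, ← a5]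
    exact Nat.mul_le_mul_left _ a4
  have a7 := gv_add (q := Nat.card F) Finite.one_lt_card hodd (finrank F U) (Nat.card I)
  have a8 := (padicValNat_dvd_iff_le (p := 2) (Nat.ascFactorial_pos _ _).ne').1
    (pow_padicValNat_dvd.trans (Nat.factorial_dvd_ascFactorial (finrank F U + 1) (Nat.card I)))
  rw [hdim] at a7
  omega

end H56.NR
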