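/- O7 tower: `SL₂` on a four dimensional orthogonal space, the non-split case. -/
import Cfsg.Agent.H31.O7K
import Cfsg.Agent.H56.WtK
import Cfsg.Agent.H70.SL2Art

set_option autoImplicit false
set_option linter.unusedSectionVars false

namespace H56.O4n

open H31.O7 H56.SL2M QuadraticMap Module Polynomial
open scoped MatrixGroups

universe u

section
variable {K W F : Type*} [Field K] [AddCommGroup W] [Module K W] [FiniteDimensional K W]
  {q : QuadraticForm K W} [Field F] [Fintype F] (φ : SL(2, F) →* O q)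

/-- The stabiliser of a vector. -/
def stab (x : W) : Subgroup SL(2, F) := (MulAction.stabilizer (O q) x).comap φ

/-- An invariant line is centralised. -/
theorem fix_of_line (p : ℕ) [Fact p.Prime] [CharP K p] [CharP F p] (hF : H70.BigField F) {x : W}
    (h : ∀ g, ∃ c : K, φ g x = c • x) (g : SL(2, F)) : φ g x = x := by
  rcases eq_or_ne x 0 with rfl | hx
  · simp
  have hN : (stab φ x).Normal := ⟨fun n hn g => by
    obtain ⟨c, e⟩ := h g⁻¹
    change φ (g * n * g⁻¹) x = x
    rw [map_mul, map_mul, O.mul_apply, O.mul_apply, e, map_smul, show φ n x = x from hn, ← e,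
      map_inv, O.apply_inv_apply]⟩
  refine (H70.sl2_normal_eq_top hF (stab φ x) fun hle => ?_).ge trivial
  obtain ⟨c, e⟩ := h (xx 1)
  have h1 : ∀ n : ℕ, φ (xx 1 ^ n) x = c ^ n • x := fun n => by
    induction n with
    | zero => simp
    | succ n ih => rw [pow_succ, map_mul, O.mul_apply, e, map_smul, ih, smul_smul, pow_succ']
  have h2 := h1 p
  rw [xx_pow, CharP.cast_eq_zero, zero_mul, xx_zero, map_one, O.one_apply, eq_comm,
    ← sub_eq_zero, ← one_smul K x, smul_smul, mul_one, ← sub_smul, smul_eq_zero, or_iff_left hx,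
    ← one_pow p, ← sub_pow_char, pow_eq_zero_iff (NeZero.ne p), sub_eq_zero] at h2
  have h3 := Subgroup.mem_center_iff.1 (hle (show φ (xx 1) x = x by rw [e, h2, one_smul])) (yy 1)
  simpa [xx_coe, yy_coe] using congrArg (fun g : SL(2, F) => g.1 0 0) h3

/-- If `-1` is a square and acts as `-1` then the module is not simple and orthogonal. -/
theorem false_of_neg [Nontrivial W] (ι : F →+* K) (hq : q.polarBilin.Nondegenerate) (h2 : (2 : K) ≠ 0)
    (hs : ∀ U : Submodule K W, (∀ g, U ≤ U.comap (orep φ g)) → U = ⊥ ∨ U = ⊤)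
    (hn : ∀ x, φ (-1) x = -x) {s : Fˣ} (h : s * s = -1) : False := by
  obtain ⟨ψ, ψ0, a, -, -, h1, h3⟩ := exists_weight ι (orep φ)
  obtain ⟨v, hv⟩ := exists_polar_eq hq ψ
  replace h1 : ∀ t x, polar q v (φ (xx t) x) = polar q v x := fun t x => by
    rw [hv, hv]; exact h1 t x
  replace h3 : ∀ s x, polar q v (φ (hh s) x) = ι ((s⁻¹ : Fˣ) : F) ^ a * polar q v x :=
    fun s x => by rw [hv, hv]; exact h3 s x
  have h4 : ∀ t, φ (xx t) v = v := fun t => sub_eq_zero.1 (eq_zero_of_polar hq fun x => by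
    rw [polar_sub_left, O.polar_apply_left, ← h1 t ((φ (xx t))⁻¹ x), O.apply_inv_apply, sub_self])
  have h5 : polar q v (φ ww v) = 0 := by
    have e : φ ww * φ ww = φ (-1) := by
      rw [← map_mul]; congr 1
      ext i j; fin_cases i <;> fin_cases j <;> simp [ww_coe]
    have := (φ ww).map_polar (φ ww v) v
    rw [← O.mul_apply, e, hn, polar_neg_left, polar_comm q (φ ww v)] at this
    exact mul_left_cancel₀ h2 (by linear_combination -this)
  have h6 : polar q v v = 0 := by
    have a1 := h3 s v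
    have a2 := h3 s (φ (hh s) v)
    have a3 := (φ (hh s)).map_polar (φ (hh s) v) v
    rw [← O.mul_apply, ← map_mul, ← hh_mul, h, hh_neg_one, hn] at a2 a3
    rw [polar_neg_left, polar_comm q (φ (hh s) v), a1] at a3
    rw [polar_neg_right, a1] at a2
    have a4 : ι ((s⁻¹ : Fˣ) : F) ^ a ≠ 0 := pow_ne_zero _ ((map_ne_zero ι).2 (Units.ne_zero _))
    have a5 := mul_left_cancel₀ a4 (mul_left_cancel₀ h2 (show 2 * (ι ((s⁻¹ : Fˣ) : F) ^ a *
      polar q v v) = 2 * (ι ((s⁻¹ : Fˣ) : F) ^ a * 0) by linear_combination -a3))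
    exact a5
  have h7 : ∀ g, polar q v (φ g v) = 0 := fun g => by
    by_cases h0 : g 1 0 = 0
    · obtain ⟨s, t, rfl⟩ := bruhat_zero g h0
      rw [map_mul, O.mul_apply, h4, h3, h6, mul_zero]
    · obtain ⟨t, u, e⟩ := bruhat_ne g h0
      rw [e, map_mul, map_mul, map_mul, O.mul_apply, O.mul_apply, O.mul_apply, h4, h1, h3, h5,
        mul_zero]
  rcases hs (Submodule.span K (Set.range fun g => φ g v)) fun g => Submodule.span_le.2 (by
    rintro _ ⟨g', rfl⟩
    exact Submodule.subset_span ⟨g * g', by simp [orep]⟩) with e | e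
  · have : v ∈ Submodule.span K (Set.range fun g => φ g v) := Submodule.subset_span ⟨1, by simp⟩
    rw [e, Submodule.mem_bot] at this
    exact ψ0 (LinearMap.ext fun x => by simp [← hv, this])
  · refine ψ0 (LinearMap.ext fun x => ?_)
    have : x ∈ perp q (Submodule.span K {v}) := (Submodule.span_le.2 (by
      rintro _ ⟨g, rfl⟩
      exact mem_perp_span_singleton.2 (h7 g)) : _ ≤ perp q _) (e ▸ Submodule.mem_top)
    rw [← hv, mem_perp_span_singleton.1 this]; rfl

end

theorem dvd_of_root {K : Type*} [Field K] {μ : K} {n j m : ℕ} (h0 : μ ≠ 0)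
    (hn : ∀ m, μ ^ m = 1 ↔ n ∣ m) (h : (μ ^ m * μ⁻¹ ^ (j - m)) ^ 2 = 1) :
    2 * m ≡ 2 * (j - m) [MOD n] := by
  rw [inv_pow, ← div_eq_mul_inv, div_pow, div_eq_one_iff_eq (by simp [h0]), ← pow_mul,
    ← pow_mul, mul_comm m, mul_comm (j - m)] at h
  rcases le_total (2 * m) (2 * (j - m)) with e | e
  · refine (Nat.modEq_iff_dvd' e).2 ((hn _).1 (mul_left_cancel₀ (pow_ne_zero (2 * m) h0) ?_))
    rw [← pow_add, Nat.add_sub_cancel' e, h, mul_one]
  · refine ((Nat.modEq_iff_dvd' e).2 ((hn _).1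
      (mul_left_cancel₀ (pow_ne_zero (2 * (j - m)) h0) ?_))).symm
    rw [← pow_add, Nat.add_sub_cancel' e, h, mul_one]

theorem jobO4n : JobO4n.{u} := by
  intro K _ W _ _ _ q _ b b' h p F _ _ _ _ h5 φ y c l hy h1 ⟨l', h2⟩ h3
  have hp : Fact p.Prime := ⟨CharP.char_is_prime F p⟩
  have p2 : p ≠ 2 := by rintro rfl; exact h.two CharTwo.two_eq_zero
  have hF : H70.BigField F := H70.bigField_of (by rwa [ringChar.eq F p])
    (by rw [Nat.card_eq_fintype_card]; omega)
  obtain ⟨a, -, ha⟩ := FiniteField.card F p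
  have hco : ∀ i, (Fintype.card F + 1).Coprime (p ^ i) := fun i => .pow_right _ (by
    rw [ha]; exact ((Nat.coprime_self_add_left.2 (Nat.coprime_one_left _)).coprime_dvd_right
      (dvd_pow_self p a.2.ne')))
  set P := Submodule.span K {b, b'}
  have hS : ∀ x, x ∈ perp q P ↔ polar q x b = 0 ∧ polar q x b' = 0 := fun x => by
    rw [mem_perp_span_pair, polar_comm q b, polar_comm q b']
  have bb : polar q b b = 0 := by rw [polar_self', h.qb, mul_zero]
  have bb' : polar q b' b' = 0 := by rw [polar_self', h.qb', mul_zero]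
  have hk : ∀ s t : K, s • b + t • b' ∈ perp q P → t = 0 ∧ s = 0 := fun s t hx => by
    simpa [bb, bb', polar_comm q b' b, h.ne] using (hS _).1 hx
  have hd : Disjoint P (perp q P) := Submodule.disjoint_def.2 fun x hx hx' => by
    obtain ⟨s, t, rfl⟩ := Submodule.mem_span_pair.1 hx
    simp [(hk s t hx').1, (hk s t hx').2]
  have hP : finrank K P = 2 := finrank_span_pair (LinearIndependent.pair_iff.2 fun s t e =>
    (hk s t (e ▸ zero_mem _)).symm)
  have hS2 := finrank_perp h.nd P
  rw [hP, h.dim] at hS2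
  have dec : ∀ x, ∃ s t : K, ∃ z ∈ perp q P, x = s • b + t • b' + z := fun x => by
    obtain ⟨u, hu, z, hz, rfl⟩ := Submodule.mem_sup.1 ((Submodule.eq_top_of_disjoint _ _ (by
      rw [hP, h.dim]; omega) hd).ge Submodule.mem_top : x ∈ _)
    obtain ⟨s, t, rfl⟩ := Submodule.mem_span_pair.1 hu
    exact ⟨s, t, z, hz, rfl⟩
  replace h3 : ∀ x ∈ perp q P, φ y x = c • x := fun x hx => h3 x ((hS x).1 hx).1 ((hS x).1 hx).2
  obtain ⟨x₀, x1, x0⟩ := Submodule.exists_mem_ne_zero_of_ne_bot (p := perp q P)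
    fun e => by rw [e, finrank_bot] at hS2; omega
  have ll : l * l' = 1 := mul_right_cancel₀ h.ne (by
    have := (φ y).map_polar b b'
    rw [h1, h2, polar_smul_left, polar_smul_right, smul_smul] at this
    simpa using this)
  have cc : c * c = 1 := by
    obtain ⟨z, hz⟩ := exists_polar_ne_zero h.nd x0
    obtain ⟨s, t, z, z1, rfl⟩ := dec z
    have := (φ y).map_polar x₀ z
    rw [h3 _ x1, h3 _ z1, polar_smul_left, polar_smul_right, smul_smul, smul_eq_mul] at this
    exact mul_right_cancel₀ (by simpa [((hS _).1 x1).1, ((hS _).1 x1).2] using hz)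
      (this.trans (one_mul _).symm)
  have hnc : ∀ m, Fintype.card F + 1 ∣ 2 * m → m = 0 ∨ 3 ≤ m := fun m hm => by
    rcases m.eq_zero_or_pos with rfl | h0
    · exact .inl rfl
    · have := Nat.le_of_dvd (by omega) hm; omega
  have top : ∀ N : Subgroup SL(2, F), N.Normal → y * y ∈ N → N = ⊤ := fun N hN hy' =>
    H70.sl2_normal_eq_top hF N fun hle => by
      have : y ^ 4 = 1 := by
        rcases H61.psl_mk_eq_iff.1 ((QuotientGroup.eq_one_iff _).2 (hle hy')) with e | e <;>
          simp [show y ^ 4 = y * y * (y * y) by simp [pow_succ, mul_assoc], e]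
      have := Nat.le_of_dvd (by omega) (hy ▸ orderOf_dvd_of_pow_eq_one this)
      omega
  have yS : ∀ x ∈ perp q P, φ (y * y) x = x := fun x hx => by
    rw [map_mul, O.mul_apply, h3 x hx, map_smul, h3 x hx, smul_smul, cc, one_smul]
  by_cases hl : l * l = 1
  · refine ⟨x₀, x0, ((hS _).1 x1).1, ((hS _).1 x1).2, fun g => ?_⟩
    rw [MonoidHom.mem_ker.1 ((top φ.ker inferInstance (O.ext fun x => ?_)).ge trivial), O.one_apply]
    obtain ⟨s, t, z, hz, rfl⟩ := dec x
    have : l' * l' = 1 := by linear_combination (l * l' + 1) * ll - l' * l' * hl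
    rw [map_add, yS z hz]
    simp [h1, h2, smul_smul, hl, this, mul_assoc]
  suffices ∃ x, x ≠ 0 ∧ ∀ g, φ g x = x by
    obtain ⟨x, a1, a2⟩ := this
    have b1 := (φ y).map_polar x b
    have b2 := (φ y).map_polar x b'
    rw [a2, h1, polar_smul_right, smul_eq_mul] at b1
    rw [a2, h2, polar_smul_right, smul_eq_mul] at b2
    refine ⟨x, a1, by_contra fun e => hl ?_, by_contra fun e => hl ?_, a2⟩
    · rw [mul_right_cancel₀ e (b1.trans (one_mul _).symm), one_mul]
    · rw [mul_right_cancel₀ e (b2.trans (one_mul _).symm), mul_one] at ll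
      rw [ll, one_mul]
  have line : ∀ U : Submodule K W, (∀ g, ∀ x ∈ U, φ g x ∈ U) → finrank K U = 1 →
      ∃ x, x ≠ 0 ∧ ∀ g, φ g x = x := fun U hU e => by
    obtain ⟨x, a1, a2⟩ := finrank_eq_one_iff'.1 e
    exact ⟨x, fun e => a1 (Subtype.ext e), fix_of_line φ p hF fun g =>
      (a2 ⟨_, hU g x x.2⟩).imp fun c e => (congrArg Subtype.val e).symm⟩
  have hperp : ∀ U : Submodule K W, (∀ g, ∀ x ∈ U, φ g x ∈ U) → ∀ g, ∀ x ∈ perp q U,
      φ g x ∈ perp q U := fun U hU g x hx => mem_perp.2 fun w hw => by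
    rw [O.polar_apply_right, ← map_inv]; exact mem_perp.1 hx _ (hU _ w hw)
  obtain ⟨U, ⟨U0, hU⟩, hm⟩ := exists_minimal_of_wellFoundedLT
    (fun U : Submodule K W => U ≠ ⊥ ∧ ∀ g, ∀ x ∈ U, φ g x ∈ U) ⟨⊤, fun e => x0 (by
      simpa [e] using Submodule.mem_top (R := K) (x := x₀)), fun _ _ _ => trivial⟩
  by_cases d1 : finrank K U = 1
  · exact line U hU d1
  have d0 := finrank_perp h.nd U
  rw [h.dim] at d0
  by_cases d3 : finrank K U = 3
  · exact line _ (hperp U hU) (by omega)
  have d2 : finrank K U ≠ 0 := fun e => U0 (Submodule.finrank_eq_zero.1 e)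
  let := ZMod.algebra F p
  let := ZMod.algebra K p
  let ι : F →+* K := (IsAlgClosed.lift (R := ZMod p) (S := F) (M := K)).toRingHom
  have : Nontrivial U := Submodule.nontrivial_iff_ne_bot.2 U0
  let ρ := (orep φ).subrepresentation U hU
  have hs : ∀ U' : Submodule K U, (∀ g, U' ≤ U'.comap (ρ g)) → U' = ⊥ ∨ U' = ⊤ := fun U' hU' =>
    or_iff_not_imp_left.2 fun e => Submodule.map_injective_of_injective U.subtype_injective (by
      rw [Submodule.map_subtype_top]
      exact (U.map_subtype_le U').antisymm (hm ⟨fun e' => e (Submodule.map_injective_of_injective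
        U.subtype_injective (e'.trans (Submodule.map_bot _).symm)), by
        rintro g _ ⟨x, hx, rfl⟩; exact ⟨_, hU' g hx, rfl⟩⟩ (U.map_subtype_le U')))
  obtain ⟨j, hj, hc⟩ := simple_charpoly ι ρ hs
  obtain ⟨μ, μ0, μ1, μ2⟩ := exists_eig' ι (y := y) p fun e => by
    have := hnc 1 ((hco 1).dvd_of_dvd_mul_right (by
      simpa using hy ▸ orderOf_dvd_of_pow_eq_one e))
    omega
  simp only [← orderOf_dvd_iff_pow_eq_one (x := y), hy] at μ2
  have hw : (wt K j).card = finrank K U := by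
    rw [← (ρ y).charpoly_natDegree, hc y _ _ μ1, natDegree_finsetProd_X_sub_C_eq_card]
  by_cases hx : ∃ x ∈ U, x ≠ 0 ∧ φ y x = c • x
  swap
  · have hle : U ≤ P := fun x hx' => by
      obtain ⟨⟨x, a1⟩, a2⟩ := (LinearMap.injective_iff_surjective (f := ρ y - c • (1 : End K U))).1
        ((injective_iff_map_eq_zero _).2 fun x e => by_contra fun e' => hx ⟨x, x.2,
          fun e'' => e' (Subtype.ext e''), sub_eq_zero.1 (congrArg Subtype.val e)⟩) ⟨x, hx'⟩
      obtain ⟨s, t, z, hz, rfl⟩ := dec x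
      obtain rfl : φ y (s • b + t • b' + z) - c • (s • b + t • b' + z) = _ := congrArg Subtype.val a2
      refine Submodule.mem_span_pair.2 ⟨s * (l - c), t * (l' - c), ?_⟩
      simp only [map_add, map_smul, h1, h2, h3 z hz]
      module
    obtain rfl := Submodule.eq_of_le_of_finrank_le hle (by omega)
    refine ⟨x₀, x0, fun g => ?_⟩
    have := (top (⨅ x ∈ perp q P, stab φ x) ⟨fun n hn g => ?_⟩ (by
      simp only [Subgroup.mem_iInf]; exact yS)).ge trivial (x := g)
    · exact Subgroup.mem_iInf.1 (Subgroup.mem_iInf.1 this x₀) x1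
    · simp only [Subgroup.mem_iInf] at hn ⊢
      intro x hx
      change φ (g * n * g⁻¹) x = x
      rw [map_mul, map_mul, O.mul_apply, O.mul_apply, show φ n _ = _ from hn _ (hperp _ hU _ x hx),
        map_inv, O.apply_inv_apply]
  exfalso
  obtain ⟨m, m1, m2⟩ : ∃ m ∈ wt K j, 2 * m ≡ 2 * (j - m) [MOD Fintype.card F + 1] := by
    obtain ⟨x, a1, a2, a3⟩ := hx
    have := (End.hasEigenvalue_iff_isRoot_charpoly (ρ y) c).1 (End.hasEigenvalue_of_hasEigenvector
      (x := ⟨x, a1⟩) ⟨End.mem_eigenspace_iff.2 (Subtype.ext a3), fun e => a2 (congrArg Subtype.val e)⟩)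
    rw [hc y _ _ μ1, IsRoot.def, eval_prod, Finset.prod_eq_zero_iff] at this
    obtain ⟨m, m1, m2⟩ := this
    rw [eval_sub, eval_X, eval_C, sub_eq_zero] at m2
    exact ⟨m, m1, dvd_of_root μ0 μ2 (by rw [← m2, pow_two, cc])⟩
  rcases wt_cases p (k := K) (j := j) (by omega) with ⟨i, d, -, rfl, a2, a3⟩ |
    ⟨i, i', d, d', a0, a1, a1', rfl, a2, a3⟩
  · obtain ⟨e, e1, rfl⟩ := (a3 m).1 m1
    rw [← Nat.sub_mul, ← mul_assoc, ← mul_assoc] at m2
    have m3 := (Nat.modEq_iff_dvd.1 (m2.cancel_right_of_coprime (hco i)))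
    obtain rfl | rfl : d = 1 ∨ d = 3 := by omega
    · interval_cases e <;> have := Int.le_of_dvd (by norm_num) ((dvd_abs _ _).2 m3) <;>
        norm_num at this <;> omega
    have r5 : Fintype.card F = 5 := by
      interval_cases e <;> have := Int.le_of_dvd (by norm_num) ((dvd_abs _ _).2 m3) <;>
        norm_num at this <;> omega
    obtain rfl : U = ⊤ := Submodule.eq_top_of_finrank_eq (by rw [h.dim]; omega)
    obtain ⟨s, hs'⟩ := FiniteField.isSquare_neg_one_iff.2 (show Fintype.card F % 4 ≠ 3 by omega)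
    have : Nontrivial W := ⟨⟨x₀, 0, x0⟩⟩
    refine false_of_neg φ ι h.nd h.two (fun U' hU' => or_iff_not_imp_left.2 fun e =>
      top_le_iff.1 (hm ⟨e, hU'⟩ le_top)) (fun x => ?_)
      (s := Units.mk0 s (by rintro rfl; simp at hs')) (Units.ext hs'.symm)
    have b1 : φ (-1) * φ (-1) = 1 := by rw [← map_mul]; simp
    by_contra b2
    have := (End.hasEigenvalue_iff_isRoot_charpoly (ρ (-1)) 1).1 (End.hasEigenvalue_of_hasEigenvector
      (x := ⟨φ (-1) x + x, trivial⟩) ⟨End.mem_eigenspace_iff.2 (Subtype.ext (by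
        change φ (-1) (_ + _) = (1 : K) • _
        rw [map_add, ← O.mul_apply, b1, one_smul, add_comm]; rfl)),
        fun e => b2 (eq_neg_of_add_eq_zero_left (congrArg Subtype.val e))⟩)
    rw [hc _ _ _ (eig_neg_one ι), IsRoot.def, eval_prod, Finset.prod_eq_zero_iff] at this
    obtain ⟨m, m1, m2⟩ := this
    rw [← pow_add, Nat.add_sub_cancel' (mem_wt.1 m1).1, Odd.neg_one_pow
      (Odd.mul (by decide) (hp.out.odd_of_ne_two p2).pow)] at m2
    exact h.two (by simpa [one_add_one_eq_two] using m2)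
  · obtain ⟨rfl, rfl⟩ : d = 1 ∧ d' = 1 := by constructor <;> nlinarith
    have p3 : 3 ≤ p := by have := hp.out.two_le; omega
    have key : ∀ {i i' : ℕ}, i < i' → 3 * p ^ i ≤ p ^ i' := fun {i i'} h =>
      (Nat.mul_le_mul_right _ p3).trans (by rw [← pow_succ']; exact Nat.pow_le_pow_right (by omega) h)
    have b1 := key a0
    have b2 := key (i := i') (i' := a) ((Nat.pow_lt_pow_iff_right hp.out.one_lt).1 (by omega))
    have b3 := Nat.pow_pos (n := i) hp.out.pos
    obtain ⟨e, e1, e', e2, rfl⟩ := (a3 m).1 m1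
    rw [← ha] at b2
    generalize p ^ i = A at *
    generalize p ^ i' = B at *
    interval_cases e <;> interval_cases e'
    all_goals
      first
      | have := Nat.le_of_dvd (by omega) ((Nat.modEq_iff_dvd' (by omega)).1 m2); omega
      | have := Nat.le_of_dvd (by omega) ((Nat.modEq_iff_dvd' (by omega)).1 m2.symm); omega

end H56.O4n
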