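/- O7 tower: `L₂(r)` in the defining characteristic. -/
import Cfsg.Agent.H31.O7K
import Cfsg.Agent.H56.WtK

set_option autoImplicit false
set_option linter.unusedSectionVars false

namespace H56.O7L2D

open H31.O7 H56.SL2M QuadraticMap Module Polynomial Subgroup
open scoped MatrixGroups

universe u

theorem g3_of_gen {Γ : Type*} [Group Γ] [IsSimpleGroup Γ] {x y : Γ} (h : closure {x, y} = ⊤)
    (h3 : y ^ 3 = 1) (hx : x ≠ 1) : G3 x := by
  refine ⟨x, y * x * y⁻¹, y * (y * x * y⁻¹) * y⁻¹, .refl x, isConj_iff.2 ⟨y, rfl⟩,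
    isConj_iff.2 ⟨y * y, by group⟩, ?_⟩
  set H := closure {x, y * x * y⁻¹, y * (y * x * y⁻¹) * y⁻¹}
  have h1 : x ∈ H := subset_closure (by simp)
  have h2 : H.map (MulAut.conj y).toMonoidHom = H := by
    have e : y * (y * (y * x * y⁻¹) * y⁻¹) * y⁻¹ = x := by
      rw [show y * (y * (y * x * y⁻¹) * y⁻¹) * y⁻¹ = y ^ 3 * x * (y ^ 3)⁻¹ by
        simp [pow_succ, mul_assoc], h3]; simp
    rw [MonoidHom.map_closure]
    congr 1
    simp only [Set.image_insert_eq, Set.image_singleton, MulEquiv.coe_toMonoidHom, MulAut.conj_apply,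
      e]
    ext; simp only [Set.mem_insert_iff, Set.mem_singleton_iff]; tauto
  have h4 : H.Normal := normalizer_eq_top_iff.1 (eq_top_iff.2 (h ▸ (closure_le _).2 (by
    rintro _ (rfl | rfl)
    · exact le_normalizer h1
    · exact mem_normalizer_iff_map_conj_eq.2 h2)))
  exact h4.eq_bot_or_eq_top.resolve_left fun e => hx (by rwa [e] at h1)

theorem finrank_fix {K V : Type*} [Field K] [AddCommGroup V] [Module K V] [FiniteDimensional K V]
    {Q : QuadraticForm K V} {g : O Q} (h3 : (3 : K) ≠ 0) (hg : g ^ 3 = 1) :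
    3 * (finrank K g.fix : K) = finrank K V + LinearMap.trace K V g.lin +
      LinearMap.trace K V (g ^ 2).lin := by
  have e : ∀ x, g (g (g x)) = x := fun x => by
    simpa [pow_succ] using DFunLike.congr_fun hg x
  have h : LinearMap.IsProj g.fix ((3 : K)⁻¹ • (LinearMap.id + g.lin + (g ^ 2).lin)) :=
    ⟨fun x => by simp [O.mem_fix, pow_succ, e]; abel, fun x hx => by
      simp only [LinearMap.smul_apply, LinearMap.add_apply, O.lin_apply, pow_two, O.mul_apply,
        O.mem_fix.1 hx, LinearMap.id_apply]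
      match_scalars; field_simp; norm_num⟩
  rw [← h.trace, map_smul, map_add, map_add, LinearMap.trace_id, smul_eq_mul, mul_inv_cancel_left₀ h3]

theorem jobL2D : JobL2D.{u} := by
  intro hM hW _ hP hC p K _ V _ _ _ Q Γ _ _ ρ h _ S _ _ _ β γ hS ⟨F, _, _, _, ⟨e⟩⟩
  have hp : Fact p.Prime := ⟨h.prime⟩
  have := h.char
  have := h.simple
  let := ZMod.algebra F p
  let := ZMod.algebra K p
  let ι : F →+* K := (IsAlgClosed.lift (R := ZMod p) (S := F) (M := K)).toRingHom
  let ψ : SL(2, F) →* Γ := e.symm.toMonoidHom.comp (QuotientGroup.mk' _)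
  have hψ : Function.Surjective ψ := e.symm.surjective.comp (QuotientGroup.mk'_surjective _)
  have ψ1 : ψ (-1) = 1 := by
    change e.symm _ = 1
    rw [map_eq_one_iff _ e.symm.injective]
    exact (QuotientGroup.eq_one_iff _).2 (mem_center_iff.2 fun g => by simp)
  have : Nontrivial V := nontrivial_of_finrank_pos (R := K) (by rw [h.dim]; omega)
  obtain ⟨j, -, hc⟩ := simple_charpoly ι (orep (ρ.comp ψ)) fun W hW => h.irr W fun x v hv => by
    obtain ⟨g, rfl⟩ := hψ x
    exact hW g hv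
  have hw : (wt K j).card = 7 := by
    rw [← h.dim, ← (orep (ρ.comp ψ) (-1)).charpoly_natDegree, hc _ _ _ (eig_neg_one ι),
      natDegree_finsetProd_X_sub_C_eq_card]
  rcases wt_cases p hw.le with ⟨i, d, p7, rfl, a2, a3⟩ | ⟨i, i', d, d', -, a1, a1', -, a2, -⟩
  swap
  · rw [hw] at a2
    have : d + 1 ∣ 7 := ⟨_, a2⟩
    rcases (Nat.dvd_prime (by norm_num)).1 this with e | e
    · omega
    · rw [e] at a2; omega
  obtain rfl : d = 6 := by omega
  have hc' : ∀ (g : SL(2, F)) (μ : K), μ ≠ 0 → Eig ι g μ μ⁻¹ → (ρ (ψ g)).lin.charpoly = (X - C 1) *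
      ∏ k, ((X - C (![(μ ^ p ^ i) ^ 2, (μ ^ p ^ i) ^ 4, ((μ ^ p ^ i) ^ 6)⁻¹] k)) *
        (X - C (![(μ ^ p ^ i) ^ 2, (μ ^ p ^ i) ^ 4, ((μ ^ p ^ i) ^ 6)⁻¹] k)⁻¹)) := fun g μ μ0 hg => by
    refine (hc g _ _ hg).trans ?_
    have hl : μ ^ p ^ i ≠ 0 := pow_ne_zero _ μ0
    simp only [wt_eq_image p a3, Finset.prod_map, Function.Embedding.coeFn_mk, ← Nat.sub_mul,
      pow_mul', inv_pow, Fin.prod_univ_three, Matrix.cons_val, Finset.prod_range_succ,
      Finset.prod_range_zero, inv_inv]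
    generalize μ ^ p ^ i = l at hl
    rw [show l ^ 0 * (l ^ (6 - 0))⁻¹ = (l ^ 6)⁻¹ by simp, show l ^ 1 * (l ^ (6 - 1))⁻¹ = (l ^ 4)⁻¹ by
      field_simp, show l ^ 2 * (l ^ (6 - 2))⁻¹ = (l ^ 2)⁻¹ by field_simp,
      show l ^ 3 * (l ^ (6 - 3))⁻¹ = 1 by field_simp, show l ^ 4 * (l ^ (6 - 4))⁻¹ = l ^ 2 by
      field_simp, show l ^ 5 * (l ^ (6 - 5))⁻¹ = l ^ 4 by norm_num; field_simp,
      show l ^ 6 * (l ^ (6 - 6))⁻¹ = l ^ 6 by simp]
    ring
  obtain ⟨x, y, tx, ty, hxy⟩ := hM F p p7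
  have ch : ∀ g : SL(2, F), (g * g).1 = g.1.trace • g.1 - 1 := fun g => by
    have hd : g 0 0 * g 1 1 - g 0 1 * g 1 0 = 1 := by have := g.2; rwa [Matrix.det_fin_two] at this
    ext i j
    fin_cases i <;> fin_cases j <;> simp [Matrix.mul_apply, Matrix.trace_fin_two]
    · linear_combination -hd
    · ring
    · ring
    · linear_combination -hd
  have x2 : ψ x * ψ x = 1 := by
    rw [← map_mul, ← ψ1]; congr 1; exact Subtype.ext (by simp [ch, tx, -Matrix.SpecialLinearGroup.coe_mul])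
  have y3 : y ^ 3 = 1 := Subtype.ext (by
    have := ch y
    rw [ty, Matrix.SpecialLinearGroup.coe_mul] at this
    rw [Matrix.SpecialLinearGroup.coe_pow, pow_succ, pow_two, this, sub_mul, smul_mul_assoc, this]
    simp)
  have y3' : ψ y ^ 3 = 1 := by rw [← map_pow, y3, map_one]
  have gen : closure {ψ x, ψ y} = ⊤ := by
    rw [← map_top_of_surjective e.symm.toMonoidHom e.symm.surjective, ← hxy, MonoidHom.map_closure,
      Set.image_pair]; rfl
  have x1 : ψ x ≠ 1 := fun e => h.nab ⟨⟨fun a b => by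
    rw [e, closure_insert_one, ← zpowers_eq_closure] at gen
    obtain ⟨m, rfl⟩ := gen.ge (mem_top a)
    obtain ⟨n, rfl⟩ := gen.ge (mem_top b)
    exact zpow_mul_comm ..⟩⟩
  have hn : ∀ n : ℕ, 0 < n → n < 7 → (n : K) ≠ 0 := fun n h0 h1 e => by
    have := Nat.le_of_dvd h0 ((CharP.cast_eq_zero_iff K p n).1 e); omega
  have h3 : (3 : K) ≠ 0 := by exact_mod_cast hn 3 (by omega) (by omega)
  have yr : (ρ (ψ y)).rk = 4 := by
    obtain ⟨μ, μ0, μ1, μ2, μ3⟩ := exists_eig ι (y := y) fun e => h3 (by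
      rw [ty] at e
      have := congrArg ι e
      rw [map_pow, map_neg, map_one, map_ofNat] at this
      linear_combination -this)
    have tr : ∀ (g : SL(2, F)) (μ : K), μ ≠ 0 → Eig ι g μ μ⁻¹ → μ ^ 3 = 1 → μ ≠ 1 →
        LinearMap.trace K V (ρ (ψ g)).lin = 1 := fun g μ μ0 hg m3 m1 => by
      have a1 : (μ ^ p ^ i) ^ 3 = 1 := by rw [← pow_mul, mul_comm, pow_mul, m3, one_pow]
      have a4 : μ ^ p ^ i - 1 ≠ 0 := by
        rw [← one_pow (p ^ i), ← sub_pow_char_pow]; exact pow_ne_zero _ (sub_ne_zero.2 m1)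
      rw [End.trace_eq_sum_roots_charpoly_of_splits (IsAlgClosed.splits _), hc' g μ μ0 hg]
      generalize μ ^ p ^ i = l at a1 a4
      have a5 : l ^ 2 + l + 1 = 0 := mul_left_cancel₀ a4 (by linear_combination a1)
      rw [show l ^ 4 = l by linear_combination l * a1, show l ^ 6 = 1 by
        linear_combination (l ^ 3 + 1) * a1, Fin.prod_univ_three]
      simp only [Matrix.cons_val, inv_one, ← eq_inv_of_mul_eq_one_left (show l * l ^ 2 = 1 by
        linear_combination a1), ← eq_inv_of_mul_eq_one_left (show l ^ 2 * l = 1 by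
        linear_combination a1)]
      simp only [roots_mul, X_sub_C_ne_zero, mul_ne_zero_iff, ne_eq, not_false_eq_true, and_self,
        roots_X_sub_C, Multiset.sum_add, Multiset.sum_singleton]
      linear_combination 2 * a5
    have m3 := (μ3 3).2 y3
    have m1 : μ ≠ 1 := fun e => h3 (by
      rw [e, ty, map_neg, map_one, inv_one] at μ2
      linear_combination μ2)
    have a1 := finrank_fix h3 (g := ρ (ψ y)) (by rw [← map_pow, y3', map_one])
    rw [tr y μ μ0 μ1 m3 m1, ← map_pow, ← map_pow, tr (y ^ 2) (μ ^ 2) (pow_ne_zero _ μ0)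
      (by simpa using μ1.pow 2) (by linear_combination (μ ^ 3 + 1) * m3)
      (fun e => m1 (by linear_combination m3 - μ * e)), h.dim] at a1
    have a2 : ((finrank K (ρ (ψ y)).fix : ℕ) : K) = (3 : ℕ) :=
      mul_left_cancel₀ h3 (by rw [a1]; norm_num)
    have a3 := h.rk_add (ψ y)
    have a4 := ((CharP.natCast_eq_natCast K p).1 a2).eq_of_abs_lt (by
      rw [abs_lt]; constructor <;> omega)
    omega
  have hz : Sp1 β γ (ρ (ψ x) * ρ (ψ y)) := by
    rw [← map_mul, ← map_mul]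
    obtain ⟨s1, s2, -⟩ := hP K V Q S β γ hS _ (h.det (ψ (x * y)))
    by_cases ht : (x * y).1.trace ^ 2 = 4
    · refine s1 p 1 h.char h.prime.ne_zero ?_
      rw [pow_one, ← map_pow, ← map_pow]
      rcases pow_eq_one_of_trace p ht with e | e <;> simp [e, ψ1]
    · obtain ⟨μ, μ0, μ1, -, μ3⟩ := exists_eig ι ht
      refine s2 (orderOf (x * y)) _ (fun e => ?_) (by
        rw [← map_pow, ← map_pow, pow_orderOf_eq_one, map_one, map_one]) ?_ (hc' _ μ μ0 μ1)
      · obtain ⟨n, hn⟩ := (CharP.cast_eq_zero_iff K p _).1 e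
        have a1 := (μ3 _).2 (pow_orderOf_eq_one _)
        rw [hn, pow_mul', ← sub_eq_zero, ← one_pow p, ← sub_pow_char, pow_eq_zero_iff h.prime.ne_zero,
          sub_eq_zero, μ3] at a1
        have a2 := orderOf_pos (x * y)
        have := Nat.le_of_dvd (Nat.pos_of_ne_zero (by rintro rfl; omega)) (orderOf_dvd_of_pow_eq_one a1)
        nlinarith
      · simp only [Matrix.cons_val]
        field_simp
  obtain ⟨s, s0, s1, s2⟩ := hC K V Q S β γ hS _ _ (by rw [← map_mul, x2, map_one])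
    ((hW p K V Q Γ ρ h).2.1 _ ⟨x1, x2, .inr (.inr (g3_of_gen gen y3' x1))⟩)
    (by rw [← map_pow, y3', map_one]) (.inr yr) hz
  exact FixS.of_closure gen s0 (by rintro _ (rfl | rfl) <;> assumption)

end H56.O7L2D
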