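/- O8 tower: extensions of a 2-group by `L₃(4)`. -/
import Cfsg.Agent.H74.O8Kit
import Cfsg.Agent.S2739

set_option autoImplicit false

namespace H56.O8

open Cfsg Subgroup H98 H74.OC H74.O8

universe u

section
variable {V : Type*} [CommGroup V]

/-- The fixed points of an automorphism. -/
def fx (α : MulAut V) : Subgroup V := α.toMonoidHom.eqLocus (MonoidHom.id V)

/-- The norm of an automorphism of order three. -/
def nm (α : MulAut V) : V →* V := MonoidHom.id V * α.toMonoidHom * (α * α).toMonoidHom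

theorem nm_self (h2 : ∀ v : V, v * v = 1) {α : MulAut V} (v : fx α) : nm α v = v := by
  have h : α v = v := v.2
  simp [nm, h, h2]

theorem nm_other {α β : MulAut V} (h3 : ∀ v, α (α (α v)) = v) (hc : ∀ v, α (β v) = β (α v))
    (h : ∀ v, α v = v → β v = v → v = 1) (v : fx β) : nm α v = 1 := by
  have e : β v = v := v.2
  exact h _ (by simp [nm, h3, mul_comm, mul_left_comm]) (by simp [nm, ← hc, e])

theorem four_le [Finite V] (h2 : ∀ v : V, v * v = 1) {α β : MulAut V} (a3 : ∀ v, α (α (α v)) = v)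
    (b3 : ∀ v, β (β (β v)) = v) (hc : ∀ v, α (β v) = β (α v))
    (h : ∀ v, α v = v → β v = v → v = 1) : Nat.card (fx α) * (Nat.card (fx β) *
      (Nat.card (fx (α * β)) * Nat.card (fx (α * β * β)))) ≤ Nat.card V := by
  rw [← Nat.card_prod, ← Nat.card_prod, ← Nat.card_prod]
  refine Nat.card_le_card_of_injective ((fx α).subtype.coprod ((fx β).subtype.coprod
    ((fx (α * β)).subtype.coprod (fx (α * β * β)).subtype))) ((injective_iff_map_eq_one _).2 ?_)
  rintro ⟨v₁, v₂, v₃, v₄⟩ e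
  have h13 : ∀ v, α v = v → (α * β) v = v → v = 1 := fun v e1 e2 =>
    h v e1 (by simpa [hc, e1] using e2)
  have h23 : ∀ v, β v = v → (α * β) v = v → v = 1 := fun v e1 e2 =>
    h v (by simpa [e1] using e2) e1
  have h14 : ∀ v, α v = v → (α * β * β) v = v → v = 1 := fun v e1 e2 =>
    h v e1 (by simpa [hc, e1, b3] using (congrArg β e2).symm)
  have h24 : ∀ v, β v = v → (α * β * β) v = v → v = 1 := fun v e1 e2 =>
    h v (by simpa [e1] using e2) e1
  have h34 : ∀ v, (α * β) v = v → (α * β * β) v = v → v = 1 := fun v e1 e2 =>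
    h23 v ((α * β).injective (e2.trans e1.symm)) e1
  replace e : (v₁ * (v₂ * (v₃ * v₄)) : V) = 1 := e
  have e1 := congrArg (nm α) e
  have e2 := congrArg (nm β) e
  have e3 := congrArg (nm (α * β)) e
  rw [map_mul, map_mul, map_mul, map_one] at e1 e2 e3
  rw [nm_self h2, nm_other a3 hc h, nm_other a3 (by simp [hc]) h13,
    nm_other a3 (by simp [hc]) h14] at e1
  rw [nm_self h2, nm_other b3 (by simp [hc]) fun v a b => h v b a, nm_other b3 (by simp [hc]) h23,
    nm_other b3 (by simp [hc]) h24] at e2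
  have c3 : ∀ v, (α * β) ((α * β) ((α * β) v)) = v := by simp [hc, a3, b3]
  rw [nm_self h2, nm_other c3 (by simp [hc]) fun v a b => h13 v b a,
    nm_other c3 (by simp [hc]) fun v a b => h23 v b a, nm_other c3 (by simp [hc]) h34] at e3
  simp only [mul_one, one_mul, OneMemClass.coe_eq_one] at e1 e2 e3
  simpa [e1, e2, e3] using e

end

theorem exists_f21 {H X : Type*} [Group H] [Finite H] [Group X] (f : H →* X)
    (hf : Function.Surjective f) (h2 : IsPGroup 2 f.ker) {σ : H} (hσ : σ ^ 7 = 1) {x : X}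
    (hx : x * f σ * x⁻¹ = f σ ^ 2) : ∃ y, f y = x ∧ y * σ * y⁻¹ = σ ^ 2 := by
  classical
  have : Fact (Nat.Prime 7) := ⟨by norm_num⟩
  have := Fintype.ofFinite {y // f y = x}
  let π : Equiv.Perm {y // f y = x} :=
    ((Equiv.mulLeft (σ ^ 2)⁻¹).trans (Equiv.mulRight σ)).subtypeEquiv fun y => by
      simp only [Equiv.trans_apply, Equiv.coe_mulRight, Equiv.coe_mulLeft, map_mul, map_inv, map_pow,
        ← hx]
      exact ⟨fun h => by rw [h]; group, fun h => by
        rw [← mul_right_cancel_iff (a := f σ), ← mul_left_cancel_iff (a := (x * f σ * x⁻¹)⁻¹),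
          ← mul_assoc, h]; group⟩
  have hπ : ∀ (n : ℕ) (y : {y // f y = x}), ((π ^ n) y).1 = ((σ ^ n) ^ 2)⁻¹ * y * σ ^ n := fun n y => by
    induction n with
    | zero => simp
    | succ n ih =>
      rw [pow_succ', Equiv.Perm.mul_apply]
      change (σ ^ 2)⁻¹ * ((π ^ n) y).1 * σ = _
      rw [ih]; group
  obtain ⟨y, hy⟩ := Equiv.Perm.exists_fixed_point_of_prime (p := 7) (n := 1) (σ := π) (by
    obtain ⟨y, rfl⟩ := hf x
    obtain ⟨k, hk⟩ := IsPGroup.iff_card.1 h2
    rw [← Nat.card_eq_fintype_card, show Nat.card {z // f z = f y} = Nat.card f.ker from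
      Nat.card_congr (f.fiberEquivKer y), hk]
    exact fun h => absurd (Nat.Prime.dvd_of_dvd_pow (by norm_num) h) (by norm_num))
    (Equiv.ext fun y => Subtype.ext (by rw [hπ]; simp [hσ]))
  have e : (σ ^ 2)⁻¹ * y.1 * σ = y := congrArg Subtype.val hy
  exact ⟨y, y.2, by rw [mul_inv_eq_iff_eq_mul, ← inv_mul_eq_iff_eq_mul, ← mul_assoc, e]⟩

theorem exists_psl (F : Type) [Field F] [CharP F 2] : ∃ σ x : PSL 3 F, orderOf σ = 7 ∧
    orderOf x = 3 ∧ x * σ * x⁻¹ = σ ^ 2 := by
  have : Fact (Nat.Prime 7) := ⟨by norm_num⟩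
  let m : L32 →* _ := Matrix.SpecialLinearGroup.map (ZMod.castHom (dvd_refl 2) F)
  let j : L32 →* PSL 3 F := (QuotientGroup.mk' _).comp m
  let s : L32 := ⟨!![0, 0, 1; 1, 0, 1; 0, 1, 0], by decide⟩
  let t : L32 := ⟨!![1, 0, 0; 0, 0, 1; 0, 1, 1], by decide⟩
  have h : j t * j s * (j t)⁻¹ = j s ^ 2 := by
    rw [mul_inv_eq_iff_eq_mul, ← map_pow, ← map_mul, ← map_mul]; congr 1; decide
  have h1 : j s ≠ 1 := fun e => by
    have := mem_center_iff.1 ((QuotientGroup.eq_one_iff _).1 e) (m t)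
    rw [← map_mul, ← map_mul] at this
    exact absurd ((ZMod.castHom (dvd_refl 2) F).injective
      (congrArg (fun g : Matrix.SpecialLinearGroup (Fin 3) F => g.1 1 0) this)) (by decide)
  exact ⟨j s, j t, orderOf_eq_prime (by rw [← map_pow, show s ^ 7 = 1 by decide, map_one]) h1,
    orderOf_eq_prime (by rw [← map_pow, show t ^ 3 = 1 by decide, map_one]) fun e => h1 (by
      simpa [e, sq] using h), h⟩

theorem jobXL34 : JobXL34.{u} := by
  intro h6 hA hF H _ _ F _ _ h4 f hf
  have : CharP F 2 := charP_of_card_eq_prime_pow (f := 2) (by simpa using h4)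
  by_contra h0
  set V := oz 2 f.ker
  have hN : V.Normal := normalizer_eq_top_iff.1 (top_le_iff.1 (le_normalizer_oz
    (normalizer_eq_top_iff.2 inferInstance).ge))
  have hV := ea_oz (p := 2) f.ker
  let := hV.1
  let : CommGroup V := IsMulCommutative.instCommGroup
  let φ : H →* MulAut V := MulAut.conjNormal
  have hφ : ∀ (y : H) (v : V), φ y v = v ↔ (v : H) ∈ centralizer ({y} : Set H) := fun y v => by
    rw [mem_centralizer_singleton_iff, Subtype.ext_iff, MulAut.conjNormal_apply, mul_inv_eq_iff_eq_mul,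
      eq_comm]
  obtain ⟨s, t, hs, ht, e⟩ := exists_psl F
  obtain ⟨σ, rfl⟩ := hf.sur s
  have hσ := ord_eq hf.sp f (by norm_num) hs
  obtain ⟨x, rfl, e1⟩ := exists_f21 f hf.sur hf.two (hσ ▸ pow_orderOf_eq_one σ) e
  obtain ⟨x3, e2⟩ := lift3 hf.sp f ht
  have h1 := hF H V σ (x ^ 4) hf.sp hV (V.normalizer_eq_top.ge trivial)
    (V.normalizer_eq_top.ge trivial) hσ x3 (by
      have a : ∀ n : ℕ, x * σ ^ n * x⁻¹ = σ ^ (2 * n) := fun n => by rw [← conj_pow, e1, pow_mul]
      have b : σ ^ 7 = 1 := hσ ▸ pow_orderOf_eq_one σ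
      rw [show x ^ 4 * σ * (x ^ 4)⁻¹ = x * (x * (x * (x * σ * x⁻¹) * x⁻¹) * x⁻¹) * x⁻¹ by
        simp [pow_succ, mul_assoc], e1, a, a, a, show 2 * (2 * (2 * 2)) = 7 * 2 + 2 from rfl, pow_add,
        pow_mul, b, one_pow, one_mul])
  rw [← Nat.card_congr (subgroupOfEquivOfLe (inf_le_left (a := V))).toEquiv, inf_subgroupOf_left,
    show (centralizer {x ^ 4}).subgroupOf V = fx (φ (x ^ 4)) from Subgroup.ext fun v => (hφ _ v).symm]
    at h1
  have hk : ∀ y z : H, f y = f z → φ y = φ z := fun y z h => by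
    rw [← mul_inv_eq_one, ← map_inv, ← map_mul]
    exact MulEquiv.ext fun v => (hφ _ v).2 (mem_centralizer_singleton_iff.2
      (oz_le_centralizer f.ker v.2 _ (by simp [MonoidHom.mem_ker, h])).symm)
  have h2 : ∀ y : H, orderOf (f y) = 3 → Nat.card (fx (φ y)) = Nat.card (fx (φ (x ^ 4))) := by
    have key : ∀ y z : H, f y ∈ zpowers (f z) → fx (φ z) ≤ fx (φ y) := fun y z ⟨k, h⟩ v hv => by
      rw [hk y (z ^ k) (by rw [map_zpow, ← h])]
      exact (hφ _ v).2 (mem_centralizer_singleton_iff.2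
        ((show Commute (v : H) z from mem_centralizer_singleton_iff.1 ((hφ _ v).1 hv)).zpow_right k))
    intro y hy
    obtain ⟨g, hg⟩ := Cfsg.Agent.S2739.result F h4 (zpowers (f y)) (zpowers (f (x ^ 4)))
      (by rw [Nat.card_zpowers, hy]) (by rw [Nat.card_zpowers, e2, ht])
    obtain ⟨g, rfl⟩ := hf.sur g
    replace hg : zpowers (f (g * y * g⁻¹)) = zpowers (f (x ^ 4)) := by
      rw [← hg]; simp [Subgroup.pointwise_smul_def, MonoidHom.map_zpowers]
    rw [← le_antisymm (key _ _ (hg.ge (mem_zpowers _))) (key _ _ (hg.le (mem_zpowers _)))]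
    refine Nat.card_congr ((φ g).toEquiv.subtypeEquiv fun v => ?_)
    change φ y v = v ↔ φ (g * y * g⁻¹) (φ g v) = φ g v
    simp
  obtain ⟨i, hi⟩ := hA F h4
  let K := i.range.comap f
  let f' : K →* A6 := (MonoidHom.ofInjective hi).symm.toMonoidHom.comp
    ((f.comp K.subtype).codRestrict i.range fun y => y.2)
  have hk' : f'.ker = f.ker.subgroupOf K := Subgroup.ext fun y =>
    (map_eq_one_iff _ (MonoidHom.ofInjective hi).symm.injective).trans Subtype.ext_iff
  have sur : Function.Surjective f' := (MonoidHom.ofInjective hi).symm.surjective.comp fun z => by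
    obtain ⟨y, hy⟩ := hf.sur z.1
    exact ⟨⟨y, show f y ∈ i.range from hy ▸ z.2⟩, Subtype.ext hy⟩
  obtain ⟨A, hA9⟩ := Sylow.exists_subgroup_card_pow_prime (G := K) 3 (n := 2)
    (dvd_trans (by rw [Nat.card_eq_fintype_card, card_alternatingGroup]; decide)
      (card_dvd_of_surjective f' sur))
  have h3 := h6 K f' ⟨hf.sp.sub K, sur, hk' ▸ hf.two.comap_subtype⟩ A hA9
  have q3 : ∀ a ∈ A, a ^ 3 = 1 := fun a ha => exp3 (hf.sp.sub K)
    (k := 2) (by rw [← hA9]; exact congrArg Subtype.val (pow_card_eq_one' (x := (⟨a, ha⟩ : A))))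
  have o3 : ∀ a ∈ A, a ≠ 1 → orderOf a = 3 := fun a ha a1 => orderOf_eq_prime (q3 a ha) a1
  have o3' : ∀ a ∈ A, a ≠ 1 → orderOf (f a.1) = 3 := fun a ha a1 => orderOf_eq_prime (by
    rw [← map_pow, ← coe_pow, q3 a ha, coe_one, map_one]) fun e => by
      have := two_dvd_order hf.two e fun e => a1 (Subtype.ext e)
      rw [orderOf_coe, o3 a ha a1] at this
      omega
  obtain ⟨a, ha, a1⟩ := (A.bot_or_exists_ne_one).resolve_left fun e => by simp [e] at hA9
  have c3 : Nat.card (zpowers a) = 3 := by rw [Nat.card_zpowers, o3 a ha a1]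
  obtain ⟨b, hb, b1⟩ := SetLike.not_le_iff_exists.1 fun h : A ≤ zpowers a => by
    have := card_le_of_le h; omega
  have p3 : ∀ a ∈ A, ∀ v, φ a.1 (φ a.1 (φ a.1 v)) = v := fun a ha v => by
    rw [← MulAut.mul_apply, ← MulAut.mul_apply, ← map_mul, ← map_mul, ← coe_mul, ← coe_mul,
      ← pow_three', q3 a ha]; simp
  have hab : a * b = b * a := congrArg Subtype.val
    ((IsPGroup.isMulCommutative_of_card_eq_prime_sq hA9).1.1 ⟨a, ha⟩ ⟨b, hb⟩)
  have h5 := four_le (V := V) (fun v => Subtype.ext (by simpa [sq] using hV.2 v v.2)) (p3 a ha) (p3 b hb)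
    (fun v => by rw [← MulAut.mul_apply, ← map_mul, ← coe_mul, hab]; simp) fun v e1 e2 => by
      have v1 : v.1 ∈ f.ker := oz_le _ v.2
      let w : K := ⟨v, show f v ∈ i.range by rw [v1]; exact one_mem _⟩
      have cw : ∀ c : K, φ c.1 v = v → c ∈ centralizer ({w} : Set K) := fun c h =>
        mem_centralizer_singleton_iff.2 (Subtype.ext (mem_centralizer_singleton_iff.1
          ((hφ _ v).1 h)).symm)
      rcases eq_or_eq_of_card (A := zpowers a) (B := A ⊓ centralizer {w}) (C := A) Nat.prime_three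
        (zpowers_le.2 ⟨ha, cw a e1⟩) inf_le_left (by omega) with e | e
      · exact absurd (e.le ⟨hb, cw b e2⟩) b1
      · have : w ∈ f'.ker ⊓ centralizer (A : Set K) := ⟨hk' ▸ v1, fun c hc =>
          mem_centralizer_singleton_iff.1 (e.ge hc).2⟩
        rw [h3, mem_bot] at this
        exact Subtype.ext (congrArg (Subtype.val : K → H) this)
  have b2 : b ≠ 1 := fun e => b1 (e ▸ one_mem _)
  rw [← map_mul, ← map_mul, ← coe_mul, ← coe_mul, h2 _ (o3' a ha a1), h2 _ (o3' b hb b2),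
    h2 _ (o3' _ (mul_mem ha hb) fun e => b1 (by
      rw [eq_inv_of_mul_eq_one_right e]; exact inv_mem (mem_zpowers a))),
    h2 _ (o3' _ (mul_mem (mul_mem ha hb) hb) fun e => b1 (by
      rw [show b = a * b * b * b by rw [e, one_mul], mul_assoc, mul_assoc, ← pow_three, q3 b hb,
        mul_one]
      exact mem_zpowers a)), ← h1] at h5
  have h7 := Nat.card_pos (α := fx (φ (x ^ 4)))
  have h8 : Nat.card (fx (φ (x ^ 4))) = 1 := by
    by_contra h
    have : 2 ≤ Nat.card (fx (φ (x ^ 4))) := by omega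
    generalize Nat.card (fx (φ (x ^ 4))) = c at *
    nlinarith [Nat.pow_pos (n := 3) h7]
  rw [h8] at h1
  exact oz_ne_bot hf.two h0 (card_eq_one.1 h1.symm)

end H56.O8
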