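import Cfsg.Agent.H34.R5Spec
import Cfsg.Agent.S4034
import Cfsg.Agent.S4035
import Cfsg.Agent.S4134

/-! Tower R5 (S3194), slot G1. -/

set_option autoImplicit false

namespace H56.R5G1
open Cfsg Subgroup H41.IT H34.R5
open scoped Pointwise

universe u

section
variable {G : Type*} [Group G] [Finite G]

omit [Finite G] in
theorem card_cent (B : Subgroup G) (g : B) :
    Nat.card (centralizer ({g} : Set B)) = Nat.card ↥(B ⊓ C (g : G)) := by
  have h1 : centralizer ({g} : Set B) = (B ⊓ C (g : G)).subgroupOf B := by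
    ext a
    rw [mem_subgroupOf, mem_inf, mem_centralizer_singleton_iff, mem_centralizer_singleton_iff]
    constructor
    · intro h
      exact ⟨a.2, congrArg Subtype.val h⟩
    · intro h
      exact Subtype.ext h.2
  rw [h1]
  exact Nat.card_congr (subgroupOfEquivOfLe inf_le_left).toEquiv

/-- an abelian subgroup containing the full `q`-part makes all Sylow `q`-subgroups abelian -/
theorem syl_comm {q : ℕ} [Fact q.Prime] (A : Subgroup G) (hA : ∀ a ∈ A, ∀ b ∈ A, Commute a b)
    (hq : q ^ (Nat.card G).factorization q ∣ Nat.card A) (Q : Sylow q G) :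
    ∀ a ∈ (Q : Subgroup G), ∀ b ∈ (Q : Subgroup G), Commute a b := by
  obtain ⟨K, hK⟩ := Sylow.exists_subgroup_card_pow_prime q hq
  have hK' : Nat.card (K.map A.subtype) = q ^ (Nat.card G).factorization q := by
    rw [← hK]
    exact (Nat.card_congr (K.equivMapOfInjective A.subtype A.subtype_injective).toEquiv).symm
  obtain ⟨g, hg⟩ := MulAction.exists_smul_eq G (Sylow.ofCard _ hK') Q
  have key : ∀ a ∈ (Q : Subgroup G), g⁻¹ * a * g ∈ A := by
    intro a ha
    rw [← hg, Sylow.coe_subgroup_smul, mem_pointwise_smul_iff_inv_smul_mem] at ha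
    have ha' : g⁻¹ * a * g ∈ K.map A.subtype := by
      simpa [MulAut.smul_def, Sylow.coe_ofCard] using ha
    exact map_subtype_le K ha'
  intro a ha b hb
  have h := hA _ (key a ha) _ (key b hb)
  have h2 : g⁻¹ * (a * b) * g = g⁻¹ * (b * a) * g := by
    have := h.eq
    calc g⁻¹ * (a * b) * g = (g⁻¹ * a * g) * (g⁻¹ * b * g) := by group
      _ = (g⁻¹ * b * g) * (g⁻¹ * a * g) := this
      _ = g⁻¹ * (b * a) * g := by group
  exact mul_left_cancel (mul_right_cancel h2)

theorem nil_of {p k : ℕ} (hp : p.Prime) (h : (center G).index ∣ p ^ k) : Group.IsNilpotent G := by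
  have := Fact.mk hp
  obtain ⟨m, -, hm⟩ := (Nat.dvd_prime_pow hp).1 h
  have h1 : IsPGroup p (G ⧸ center G) := IsPGroup.of_card (n := m) hm
  exact Group.of_quotient_center_nilpotent h1.isNilpotent

/-- class sizes `1` or `n` give a nilpotent group -/
theorem nil_two {n : ℕ} (hn : 1 < n) (h : ∀ x : G, (centralizer ({x} : Set G)).index = 1 ∨
    (centralizer ({x} : Set G)).index = n) : Group.IsNilpotent G := by
  by_cases hex : ∃ x : G, (centralizer ({x} : Set G)).index = n
  · obtain ⟨p, hp, a, -, hP⟩ := Cfsg.Agent.S4134.result n hn h hex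
    obtain ⟨P⟩ : Nonempty (Sylow p G) := inferInstance
    obtain ⟨hPn, ⟨N, hN, hc, hab, hcm⟩, -⟩ := hP P
    have hle : N ≤ center G := by
      intro x hx
      rw [mem_center_iff]
      intro g
      have hg : g ∈ N ⊔ (P : Subgroup G) := by rw [hc.sup_eq_top]; exact mem_top g
      obtain ⟨a, ha, b, hb, rfl⟩ := mem_sup_of_normal_right.1 hg
      have h1 : a * x = x * a := congrArg Subtype.val (hab.is_comm.comm (⟨a, ha⟩ : N) ⟨x, hx⟩)
      rw [mul_assoc, ← hcm x hx b hb, ← mul_assoc, h1, mul_assoc]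
    refine nil_of (p := p) (k := (Nat.card G).factorization p) hp.1 ?_
    rw [← P.card_eq_multiplicity, ← hc.symm.index_eq_card]
    exact index_dvd_of_le hle
  · refine nil_of (p := 2) (k := 0) Nat.prime_two ?_
    have : center G = ⊤ := by
      rw [eq_top_iff]
      intro x _
      have h1 := (h x).resolve_right fun m => hex ⟨x, m⟩
      rw [index_eq_one] at h1
      rw [mem_center_iff]
      intro g
      have : g ∈ centralizer ({x} : Set G) := h1 ▸ mem_top g
      exact mem_centralizer_singleton_iff.1 this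
    rw [this, index_top]
    exact one_dvd _

variable {x y : G} {e s j : ℕ}

/-- class sizes of coprime elements in a centraliser of order `b` -/
theorem idx (h : BS x y e) (hj : c y = e * s ^ j) {z : G} (z1 : z ≠ 1) (hz : c z = c y)
    (g : C z) (hc : (orderOf z).Coprime (orderOf g)) :
    (centralizer ({g} : Set (C z))).index = 1 ∨ (centralizer ({g} : Set (C z))).index = s ^ j := by
  have h1 := (centralizer ({g} : Set (C z))).card_mul_index
  rw [card_cent] at h1
  have h0 : Nat.card (C z) = c y := hz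
  rw [h0] at h1
  have hpos : 0 < c y := Nat.card_pos
  rcases h.inf z1 (hz ▸ dvd_rfl) (mem_C.1 g.2).symm (by rwa [orderOf_coe]) with m | m
  · left
    rw [m] at h1
    exact (Nat.mul_eq_left hpos.ne').1 h1
  · right
    rw [m, hj] at h1
    have he : 0 < e := Nat.pos_of_dvd_of_pos h.dvd hpos
    exact Nat.eq_of_mul_eq_mul_left he h1

theorem part2 (hs : s.Prime) (h : BS x y e) (j0 : 0 < j) (hj : c y = e * s ^ j) (q : ℕ)
    (Q : Sylow q G) (hq : q.Prime) (hqs : q ≠ s) (hqb : q ∣ c y) :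
    ∀ a ∈ (Q : Subgroup G), ∀ b ∈ (Q : Subgroup G), Commute a b := by
  have := Fact.mk hs
  have := Fact.mk hq
  have hse : s * e ∣ c y := by
    rw [hj, mul_comm]
    exact Nat.mul_dvd_mul_left e (dvd_pow_self s j0.ne')
  have hsb : s ∣ c y := (Dvd.intro _ rfl).trans hse
  obtain ⟨P⟩ : Nonempty (Sylow s G) := inferInstance
  have hP : Nontrivial (P : Subgroup G) := by
    rw [← Finite.one_lt_card_iff_nontrivial, h.sylow_card hsb P]
    exact Nat.one_lt_pow (hs.factorization_pos_of_dvd Nat.card_pos.ne' hsb).ne' hs.one_lt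
  have := P.isPGroup'.center_nontrivial
  obtain ⟨z0, hz0⟩ := exists_ne (1 : center (P : Subgroup G))
  set z : G := ((z0 : (P : Subgroup G)) : G) with hzd
  have z1 : z ≠ 1 := fun m => hz0 (Subtype.ext (Subtype.ext m))
  have hPz : (P : Subgroup G) ≤ C z := fun a ha =>
    mem_C.2 (congrArg Subtype.val (mem_center_iff.1 z0.2 ⟨a, ha⟩))
  have hz : c z = c y := h.full hse P z1 hPz
  obtain ⟨k, hk⟩ : ∃ k, orderOf z = s ^ k := by
    obtain ⟨k, hk⟩ := (IsPGroup.iff_orderOf.1 P.isPGroup') (z0 : (P : Subgroup G))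
    exact ⟨k, by rw [hzd, orderOf_coe, hk]⟩
  obtain ⟨H, hH, -, m, hm⟩ := (Cfsg.Agent.S4034.result (G := C z) hs).1 (by
    intro g hg
    rw [H24.ncard_carrier_eq_index]
    rcases idx h hj z1 hz g (by rw [hk]; exact Nat.Coprime.pow_left k hg.symm) with m | m
    · exact ⟨0, by rw [m, pow_zero]⟩
    · exact ⟨j, m⟩)
  refine syl_comm (H.map (C z).subtype) ?_ ?_ Q
  · rintro _ ⟨a, ha, rfl⟩ _ ⟨b, hb, rfl⟩
    exact congrArg (fun t : H => ((t : C z) : G)) (hH.is_comm.comm (⟨a, ha⟩ : H) ⟨b, hb⟩)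
  · rw [← Q.card_eq_multiplicity, h.sylow_card hqb Q,
      ← Nat.card_congr (H.equivMapOfInjective (C z).subtype (C z).subtype_injective).toEquiv]
    have h1 := H.card_mul_index
    have h0 : Nat.card (C z) = c y := hz
    rw [hm, h0] at h1
    have h2 : q ^ (c y).factorization q ∣ Nat.card H * s ^ m := h1 ▸ Nat.ordProj_dvd _ _
    exact Nat.Coprime.dvd_of_dvd_mul_right
      (Nat.Coprime.pow _ _ ((Nat.coprime_primes hq hs).2 hqs)) h2

theorem part1 (hs : s.Prime) (h : BS x y e) (hT : T1 y e s) (u : G) (hu : Gd y s u) :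
    c u = e := by
  obtain ⟨j, j0, hj⟩ := hT.pw
  obtain ⟨hq, hqs, hqb⟩ := hu
  have := Fact.mk hq
  have u1 : u ≠ 1 := fun m => hq.one_lt.ne' (by rw [m, orderOf_one])
  refine (h.bval u1 hq hqb (ord_dvd_c (mem_C.2 (Commute.refl u)))).resolve_left fun hz => ?_
  refine hT.nn u hz ?_
  have hcop : (orderOf u).Coprime s := (Nat.coprime_primes hq hs).2 hqs
  obtain ⟨Q⟩ : Nonempty (Sylow (orderOf u) (C u)) := inferInstance
  obtain ⟨hQn, H, hHn, hHq, hdis, hsup⟩ := Cfsg.Agent.S4035.result (G := C u) (p := orderOf u) (by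
    intro g hg
    rw [H24.ncard_carrier_eq_index]
    rcases idx h hj u1 hz g hg.symm with m | m
    · rw [m]
      exact hq.not_dvd_one
    · rw [m]
      exact fun hd => hqs ((Nat.prime_dvd_prime_iff_eq hq hs).1 (hq.dvd_of_dvd_pow hd))) Q
  -- `Q` is abelian
  obtain ⟨R, hR⟩ := (Q.isPGroup'.map (C u).subtype).exists_le_sylow
  have hQab : ∀ a ∈ (Q : Subgroup (C u)), ∀ b ∈ (Q : Subgroup (C u)), Commute a b := by
    intro a ha b hb
    exact Subtype.ext (part2 hs h j0 hj _ R hq hqs hqb _ (hR ⟨a, ha, rfl⟩) _ (hR ⟨b, hb, rfl⟩)).eq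
  have hcm := commute_of_normal_of_disjoint _ _ hQn hHn (disjoint_iff.2 hdis)
  have hdec : ∀ g : C u, ∃ a ∈ (Q : Subgroup (C u)), ∃ b ∈ H, a * b = g := fun g =>
    mem_sup_of_normal_right.1 (hsup ▸ mem_top g)
  have hcen : ∀ a ∈ (Q : Subgroup (C u)), ∀ g : C u, Commute a g := by
    intro a ha g
    obtain ⟨a', ha', b, hb, rfl⟩ := hdec g
    exact (hQab a ha a' ha').mul_right (hcm a b ha hb)
  refine nil_two (n := s ^ j) (Nat.one_lt_pow j0.ne' hs.one_lt) fun g => ?_
  obtain ⟨a, ha, b, hb, rfl⟩ := hdec g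
  have h1 : centralizer ({a * b} : Set (C u)) = centralizer ({b} : Set (C u)) := by
    ext t
    rw [mem_centralizer_singleton_iff, mem_centralizer_singleton_iff]
    have h2 := (hcen a ha t).eq
    constructor
    · intro m
      rw [← mul_assoc, ← h2, mul_assoc, mul_assoc] at m
      exact mul_left_cancel m
    · intro m
      rw [← mul_assoc, ← h2, mul_assoc, m, mul_assoc]
  rw [h1]
  refine idx h hj u1 hz b ?_
  exact (Nat.Prime.coprime_iff_not_dvd hq).2 fun m => hHq (m.trans (H.orderOf_dvd_natCard hb))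

end

theorem jobG1 : JobG1.{u} := by
  intro G _ _ x y e s hs h hT
  refine ⟨part1 hs h hT, fun q Q hq hqs hqb => ?_⟩
  obtain ⟨j, j0, hj⟩ := hT.pw
  exact part2 hs h j0 hj q Q hq hqs hqb

end H56.R5G1
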