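import Cfsg.Agent.H62.Tv

/-! Products of two regular unipotent elements: the choice of a vector and a functional. -/

set_option autoImplicit false

namespace H56.RegU

open Module

variable {K V : Type*} [Field K] [AddCommGroup V] [Module K V]

theorem avoid4 (hK : 4 ≤ Cardinal.mk K) {p₀ p₁ p₂ p₃ : Submodule K V} (h₀ : p₀ ≠ ⊤) (h₁ : p₁ ≠ ⊤)
    (h₂ : p₂ ≠ ⊤) (h₃ : p₃ ≠ ⊤) : ∃ v, v ∉ p₀ ∧ v ∉ p₁ ∧ v ∉ p₂ ∧ v ∉ p₃ := by
  classical
  have hc : ((3 : ℕ) : ℕ∞) < ENat.card K := by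
    rw [ENat.card, Cardinal.natCast_lt_toENat]
    exact lt_of_lt_of_le (by exact_mod_cast (by norm_num : (3 : ℕ) < 4)) hK
  by_cases h : ∀ x ∈ p₀, x ∈ p₁ ∨ x ∈ p₂ ∨ x ∈ p₃
  · obtain ⟨v, -, hv⟩ := Set.exists_of_ssubset
      (Submodule.iUnion_ssubset_of_forall_ne_top_of_card_lt Finset.univ ![p₁, p₂, p₃]
        (fun i => by fin_cases i <;> assumption) (by simpa using hc))
    simp only [Finset.mem_univ, Set.iUnion_true, Set.mem_iUnion, SetLike.mem_coe, not_exists,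
      Fin.forall_fin_succ] at hv
    exact ⟨v, fun h' => by rcases h v h' with h | h | h <;> simp_all, hv.1, hv.2.1, hv.2.2.1⟩
  push Not at h
  obtain ⟨x, hx₀, hx₁, hx₂, hx₃⟩ := h
  obtain ⟨y, -, hy⟩ := SetLike.exists_of_lt h₀.lt_top
  have key : ∀ p : Submodule K V, x ∉ p → ∃ s : K, ∀ t : K, y + t • x ∈ p → t = s := fun p hp => by
    by_cases h : ∃ s : K, y + s • x ∈ p
    · obtain ⟨s, hs⟩ := h
      refine ⟨s, fun t ht => by_contra fun hne => hp ?_⟩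
      have := p.sub_mem ht hs
      rwa [add_sub_add_left_eq_sub, ← sub_smul, p.smul_mem_iff (sub_ne_zero.2 hne)] at this
    · exact ⟨0, fun t ht => (h ⟨t, ht⟩).elim⟩
  obtain ⟨s₁, k₁⟩ := key _ hx₁
  obtain ⟨s₂, k₂⟩ := key _ hx₂
  obtain ⟨s₃, k₃⟩ := key _ hx₃
  obtain ⟨t, ht⟩ : ∃ t : K, t ∉ ({s₁, s₂, s₃} : Finset K) := by
    by_contra! h
    have h1 : Cardinal.mk K ≤ 3 := by
      rw [← Cardinal.mk_univ, ← Set.eq_univ_of_forall (s := (({s₁, s₂, s₃} : Finset K) : Set K)) h,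
        Finset.coe_sort_coe, Cardinal.mk_coe_finset]
      exact_mod_cast Finset.card_le_three
    exact absurd (hK.trans h1) (by norm_num)
  simp only [Finset.mem_insert, Finset.mem_singleton, not_or] at ht
  exact ⟨y + t • x, fun h => hy ((p₀.add_mem_iff_left (p₀.smul_mem t hx₀)).1 h),
    fun h => ht.1 (k₁ t h), fun h => ht.2.1 (k₂ t h), fun h => ht.2.2 (k₃ t h)⟩

theorem avoid_dual (hK : 4 ≤ Cardinal.mk K) {w x₀ x₁ x₂ x₃ : V} (h₀ : x₀ ∉ K ∙ w) (h₁ : x₁ ∉ K ∙ w)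
    (h₂ : x₂ ∉ K ∙ w) (h₃ : x₃ ∉ K ∙ w) :
    ∃ φ : Dual K V, φ w = 0 ∧ φ x₀ = 1 ∧ φ x₁ ≠ 0 ∧ φ x₂ ≠ 0 ∧ φ x₃ ≠ 0 := by
  let D := LinearMap.ker (Dual.eval K V w)
  have key : ∀ x, x ∉ K ∙ w → LinearMap.ker (Dual.eval K V x ∘ₗ D.subtype) ≠ ⊤ := fun x hx h => by
    obtain ⟨φ, h1, h2⟩ := H62.exists_dual_pair hx
    have : φ x = 0 := h.ge (Submodule.mem_top (x := (⟨φ, h2⟩ : D)))
    simp [h1] at this
  obtain ⟨φ, g₀, g₁, g₂, g₃⟩ := avoid4 (V := D) hK (key _ h₀) (key _ h₁) (key _ h₂) (key _ h₃)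
  have e : φ.1 w = 0 := φ.2
  have f₀ : φ.1 x₀ ≠ 0 := g₀
  have f₁ : φ.1 x₁ ≠ 0 := g₁
  have f₂ : φ.1 x₂ ≠ 0 := g₂
  have f₃ : φ.1 x₃ ≠ 0 := g₃
  exact ⟨(φ.1 x₀)⁻¹ • φ.1, by simp [e], by simp [f₀], by simp [f₀, f₁], by simp [f₀, f₂],
    by simp [f₀, f₃]⟩

variable [FiniteDimensional K V] {g : End K V}

theorem fix_of_det (hd : LinearMap.det g = 1) {a : V} (h : ∀ x, g x - x ∈ K ∙ a) : g a = a := by
  by_cases ha : a = 0
  · simp [ha]
  obtain ⟨ψ, hψ⟩ := H62.exists_dual_of_ne_zero (F := K) ha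
  have h1 : g = LinearMap.transvection (ψ ∘ₗ (g - 1)) a := LinearMap.ext fun x => by
    obtain ⟨c, hc⟩ := Submodule.mem_span_singleton.1 (h x)
    have : (ψ ∘ₗ (g - 1)) x = c := by
      change ψ (g x - x) = c
      rw [← hc, map_smul, hψ, smul_eq_mul, mul_one]
    rw [LinearMap.transvection.apply, this, hc, add_sub_cancel]
  have h2 := hd
  rw [h1, LinearMap.transvection.det, add_eq_left] at h2
  rw [h1, LinearMap.transvection.apply, h2]; simp

theorem exists_vec (hK : 4 ≤ Cardinal.mk K) (hs : ∀ l : K, g ≠ l • 1)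
    (ht : ∀ a, ∃ x, g x - x ∉ K ∙ a) (c : V) {b : Dual K V} (hb : b ≠ 0) :
    ∃ v, b v ≠ 0 ∧ g v - v ∉ K ∙ c ∧ g v ∉ K ∙ v ∧
      (3 ≤ finrank K V → ∃ x, g x - x ∉ Submodule.span K {v, g v}) := by
  have key : ∀ l : K, ¬ Function.Injective (g - l • 1 : End K V) →
      LinearMap.ker (g - l • 1 : End K V) ≠ ⊤ ∧ LinearMap.range (g - l • 1 : End K V) ≠ ⊤ ∧
      ∀ v, v ∉ LinearMap.ker (g - l • 1 : End K V) → v ∉ LinearMap.range (g - l • 1 : End K V) →
        g v ∉ K ∙ v := fun l hl => by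
    refine ⟨fun h => hs l (sub_eq_zero.1 (LinearMap.ker_eq_top.1 h)), fun h => hl
      (LinearMap.injective_iff_surjective.2 (LinearMap.range_eq_top.1 h)), fun v h1 h2 h3 => ?_⟩
    obtain ⟨m, hm⟩ := Submodule.mem_span_singleton.1 h3
    have h4 : (g - l • 1 : End K V) v = (m - l) • v := by simp [← hm, sub_smul]
    have h5 : m - l ≠ 0 := fun h => h1 (by rw [LinearMap.mem_ker, h4, h, zero_smul])
    exact h2 ((Submodule.smul_mem_iff _ h5).1 ⟨v, h4⟩)
  obtain ⟨p, q, hp, hq, h1, h2⟩ : ∃ p q : Submodule K V, p ≠ ⊤ ∧ q ≠ ⊤ ∧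
      (∀ v, v ∉ p → v ∉ q → g v ∉ K ∙ v) ∧ (¬ Function.Injective (g - (1 : K) • 1 : End K V) →
        q = LinearMap.range (g - (1 : K) • 1 : End K V)) := by
    by_cases h1 : Function.Injective (g - (1 : K) • 1 : End K V)
    · by_cases h2 : ∃ l : K, ¬ Function.Injective (g - l • 1 : End K V)
      · obtain ⟨l, hl⟩ := h2
        exact ⟨_, _, (key l hl).1, (key l hl).2.1, (key l hl).2.2, fun h => (h h1).elim⟩
      · push Not at h2
        have hn : (⊥ : Submodule K V) ≠ ⊤ := fun h => hb (LinearMap.ext fun x => by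
          rw [(Submodule.mem_bot K).1 (h.ge Submodule.mem_top : x ∈ ⊥)]; simp)
        refine ⟨⊥, ⊥, hn, hn, fun v h3 _ h4 => h3 ?_, fun h => (h h1).elim⟩
        obtain ⟨m, hm⟩ := Submodule.mem_span_singleton.1 h4
        exact h2 m (by simp [hm])
    · exact ⟨_, _, (key 1 h1).1, (key 1 h1).2.1, (key 1 h1).2.2, fun _ => rfl⟩
  obtain ⟨v, g₀, g₁, g₂, g₃⟩ := avoid4 hK (p₀ := LinearMap.ker b)
    (p₁ := (K ∙ c).comap (g - 1 : End K V)) (fun h => hb (LinearMap.ker_eq_top.1 h))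
    (fun h => (ht c).choose_spec (h.ge Submodule.mem_top : _ ∈ (K ∙ c).comap (g - 1 : End K V)))
    hp hq
  refine ⟨v, g₀, g₁, h1 v g₂ g₃, fun h3 => by_contra fun h => ?_⟩
  push Not at h
  by_cases h4 : Function.Injective (g - (1 : K) • 1 : End K V)
  · have h5 : ⊤ ≤ Submodule.span K {v, g v} := fun y _ => by
      obtain ⟨x, rfl⟩ := LinearMap.injective_iff_surjective.1 h4 y
      simpa using h x
    have h6 := Submodule.finrank_mono h5
    have h7 : finrank K (Submodule.span K {v, g v}) ≤ 2 := by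
      classical
      refine (finrank_span_le_card _).trans ?_
      rw [Set.toFinset_insert, Set.toFinset_singleton]
      exact Finset.card_le_two
    rw [finrank_top] at h6
    omega
  · obtain ⟨x, hx⟩ := ht (g v - v)
    obtain ⟨s, t, e⟩ := Submodule.mem_span_pair.1 (h x)
    by_cases hst : s + t = 0
    · exact hx (Submodule.mem_span_singleton.2 ⟨t, by
        rw [← e, eq_neg_of_add_eq_zero_left hst]; module⟩)
    · refine g₃ (h2 h4 ▸ (Submodule.smul_mem_iff _ hst).1 ⟨x - t • v, ?_⟩)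
      simp only [one_smul, LinearMap.sub_apply, map_sub, map_smul, End.one_apply, ← e]
      module

/-- The induced map on the kernel of `φ` is scalar or a transvection. -/
def Bad (g : End K V) (v : V) (φ : Dual K V) : Prop :=
  (∃ l : K, ∀ w, φ w = 0 → g w - φ (g w) • g v = l • w) ∨
    ∃ a, φ a = 0 ∧ g a - φ (g a) • g v = a ∧ ∀ w, φ w = 0 → g w - φ (g w) • g v - w ∈ K ∙ a

theorem exists_bad (hi : Function.Injective g) (h3 : 3 ≤ finrank K V) {v : V} (hv : g v ∉ K ∙ v)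
    (hx : ∃ x, g x - x ∉ Submodule.span K {v, g v}) :
    ∃ x, x ∉ K ∙ (g v - v) ∧ ∀ φ : Dual K V, φ v = 1 → φ (g v) = 1 → Bad g v φ → φ x = 0 := by
  have w0 : g v - v ≠ 0 := fun h => hv (by
    rw [sub_eq_zero.1 h]; exact Submodule.mem_span_singleton_self _)
  let H : K → Submodule K V := fun l => (K ∙ g v).comap (g - l • 1 : End K V)
  have mH : ∀ l x, x ∈ H l ↔ ∃ s : K, s • g v = g x - l • x := fun l x =>
    Submodule.mem_span_singleton
  obtain ⟨l, hl⟩ : ∃ l, g v - v ∈ H l ∨ (l = 1 ∧ ∀ m, g v - v ∉ H m) := by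
    by_cases h : ∃ l, g v - v ∈ H l
    · exact h.imp fun l hl => Or.inl hl
    · exact ⟨1, Or.inr ⟨rfl, not_exists.1 h⟩⟩
  suffices h : ∀ φ : Dual K V, φ v = 1 → φ (g v) = 1 → Bad g v φ →
      (∀ x ∈ H l, φ x = 0) ∧ ¬ H l ≤ K ∙ (g v - v) by
    by_cases h' : H l ≤ K ∙ (g v - v)
    · refine ⟨v, fun h1 => hv ?_, fun φ h1 h2 h4 => ((h φ h1 h2 h4).2 h').elim⟩
      obtain ⟨s, hs⟩ := Submodule.mem_span_singleton.1 h1
      have s0 : s ≠ 0 := by rintro rfl; rw [zero_smul] at hs; exact w0 (by simp [← hs])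
      refine (Submodule.smul_mem_iff _ s0).1 (Submodule.mem_span_singleton.2 ⟨1 + s, ?_⟩)
      rw [add_smul, one_smul]
      nth_rw 1 [← hs]
      module
    · obtain ⟨x, h1, h2⟩ := SetLike.not_le_iff_exists.1 h'
      exact ⟨x, h2, fun φ h4 h5 h6 => (h φ h4 h5 h6).1 x h1⟩
  intro φ h1 h2 hb
  have e0 : φ (g v - v) = 0 := by simp [h1, h2]
  have e1 : ∀ m x, φ x = 0 → x ∈ H m → g x - φ (g x) • g v = m • x := fun m x h4 h5 => by
    obtain ⟨s, hs⟩ := (mH _ _).1 h5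
    have := congrArg φ hs
    simp only [map_smul, h2, smul_eq_mul, mul_one, map_sub, h4, mul_zero, sub_zero] at this
    rw [← this, hs]; abel
  have e2 : ∀ x, φ (x - φ x • v) = 0 := fun x => by simp [h1]
  rcases hb with ⟨m, hm⟩ | ⟨a, a0, a1, ha⟩
  · have h4 : ∀ w, φ w = 0 → w ∈ H m := fun w hw => (mH _ _).2 ⟨φ (g w), by rw [← hm w hw]; abel⟩
    obtain rfl : l = m := smul_left_injective K w0
      ((e1 _ _ e0 (hl.resolve_right fun h => h.2 m (h4 _ e0))).symm.trans (hm _ e0))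
    refine ⟨fun x hx => by_contra fun h5 => hv ?_, fun h5 => ?_⟩
    · have h6 := (H l).sub_mem hx (h4 _ (e2 x))
      rw [sub_sub_cancel, Submodule.smul_mem_iff _ h5, mH] at h6
      obtain ⟨s, hs⟩ := h6
      have h7 : s = 1 - l := by simpa [h1, h2] using congrArg φ hs
      have h8 : l • (g v - v) = 0 := by
        rw [smul_sub, sub_eq_zero, ← sub_right_inj (a := g v), ← hs, h7]; module
      have h9 : l = 0 := (smul_eq_zero.1 h8).resolve_right w0
      have h10 := hm _ e0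
      rw [h9, zero_smul, ← map_smul, ← map_sub, map_eq_zero_iff _ hi, sub_eq_zero] at h10
      exact Submodule.mem_span_singleton.2 ⟨1 + φ (g (g v - v)), by
        rw [add_smul, ← h10]; simp⟩
    · obtain ⟨y, -, h6, h7⟩ := H62.exists_mem_notMem_ker [φ] (W := ⊤) (Z := K ∙ (g v - v))
        (by rw [finrank_span_singleton w0]; simp; omega)
      exact h6 (h5 (h4 y (h7 φ (by simp))))
  · have a2 : a ∉ K ∙ (g v - v) := fun h => by
      obtain ⟨x, hx⟩ := hx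
      obtain ⟨s, rfl⟩ := Submodule.mem_span_singleton.1 h
      obtain ⟨t, ht⟩ := Submodule.mem_span_singleton.1 (ha _ (e2 x))
      refine hx (Submodule.mem_span_pair.2 ⟨-(t * s) - φ x,
        t * s + φ x + φ (g (x - φ x • v)), ?_⟩)
      generalize φ (g (x - φ x • v)) = r at ht
      rw [map_sub, map_smul] at ht
      linear_combination (norm := module) ht
    have a3 : ∀ s t : K, s • a = t • (g v - v) → t = 0 := fun s t h => by
      by_cases hs : s = 0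
      · rw [hs, zero_smul] at h
        exact (smul_eq_zero.1 h.symm).resolve_right w0
      · exact (a2 ((Submodule.smul_mem_iff _ hs).1 (Submodule.mem_span_singleton.2
          ⟨t, h.symm⟩))).elim
    obtain rfl : l = 1 := by
      refine hl.elim (fun h => ?_) And.left
      obtain ⟨s, hs⟩ := Submodule.mem_span_singleton.1 (ha _ e0)
      exact sub_eq_zero.1 (a3 s _ (by rw [hs, e1 _ _ e0 h]; module))
    refine ⟨fun x hx => ?_, fun h => a2 (h ((mH _ _).2 ⟨φ (g a), by linear_combination (norm := module) -a1⟩))⟩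
    obtain ⟨s, hs⟩ := Submodule.mem_span_singleton.1 (ha _ (e2 x))
    obtain ⟨r, hr⟩ := (mH _ _).1 hx
    generalize φ (g (x - φ x • v)) = u at hs
    rw [map_sub, map_smul] at hs
    have h4 : s • a = (r - u) • g v - φ x • (g v - v) := by
      linear_combination (norm := module) hs - hr
    have h5 : r - u = 0 := by simpa [a0, h1, h2] using (congrArg φ h4).symm
    exact neg_eq_zero.1 (a3 s _ (by rw [h4, h5]; module))

theorem exists_pair (hK : 4 ≤ Cardinal.mk K) (hd : LinearMap.det g = 1) (hs : ∀ l : K, g ≠ l • 1)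
    (ht : ¬ ∃ a, g a = a ∧ ∀ x, g x - x ∈ K ∙ a) {c : V} {b : Dual K V} (hb : b ≠ 0) :
    ∃ (v : V) (φ : Dual K V), φ v = 1 ∧ φ (g v) = 1 ∧ (c ≠ 0 → φ c ≠ 0) ∧ b v ≠ 0 ∧ g v ≠ v ∧
      (∃ w, φ w = 0 ∧ φ (g w) ≠ 0) ∧ (3 ≤ finrank K V → ¬ Bad g v φ) := by
  have ht' : ∀ a, ∃ x, g x - x ∉ K ∙ a := fun a => by
    by_contra! h
    exact ht ⟨a, fix_of_det hd h, h⟩
  have hi : Function.Injective g :=
    ((End.isUnit_iff _).1 ((LinearMap.isUnit_iff_isUnit_det _).2 (hd ▸ isUnit_one))).1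
  obtain ⟨v, h1, h2, h3, h4⟩ := exists_vec hK hs ht' c hb
  have w0 : g v - v ≠ 0 := fun h => h2 (h ▸ zero_mem _)
  have hv : v ∉ K ∙ (g v - v) := fun h => by
    obtain ⟨s, hs⟩ := Submodule.mem_span_singleton.1 h
    have s0 : s ≠ 0 := by rintro rfl; rw [zero_smul] at hs; exact w0 (by simp [← hs])
    refine h3 ((Submodule.smul_mem_iff _ s0).1 (Submodule.mem_span_singleton.2 ⟨1 + s, ?_⟩))
    rw [add_smul, one_smul]
    nth_rw 1 [← hs]
    module
  obtain ⟨x, h5, h6⟩ : ∃ x, x ∉ K ∙ (g v - v) ∧ ∀ φ : Dual K V, φ v = 1 → φ (g v) = 1 →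
      3 ≤ finrank K V → Bad g v φ → φ x = 0 := by
    by_cases h : 3 ≤ finrank K V
    · obtain ⟨x, h5, h6⟩ := exists_bad hi h h3 (h4 h)
      exact ⟨x, h5, fun φ a b _ => h6 φ a b⟩
    · exact ⟨v, hv, fun _ _ _ h' => (h h').elim⟩
  obtain ⟨c', h7, h8⟩ : ∃ c', c' ∉ K ∙ (g v - v) ∧ (c ≠ 0 → c' = c) := by
    by_cases hc : c = 0
    · exact ⟨v, hv, fun h => (h hc).elim⟩
    · exact ⟨c, H62.notMem_span_symm hc h2, fun _ => rfl⟩
  obtain ⟨y, hy⟩ := ht' (g v - v)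
  obtain ⟨φ, f0, f1, f2, f3, f4⟩ := avoid_dual hK hv h7 hy h5
  have f5 : φ (g v) = 1 := by rw [map_sub, sub_eq_zero] at f0; rw [f0, f1]
  exact ⟨v, φ, f1, f5, fun h => h8 h ▸ f2, h1, sub_ne_zero.1 w0,
    ⟨y - φ y • v, by simp [f1], by simpa [f5] using f3⟩, fun h h' => f4 (h6 φ f1 f5 h h')⟩

end H56.RegU
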