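import Cfsg.Agent.H56.RegU1
import Cfsg.Agent.H53.O2

/-! Every non-scalar element of `SL_n(K)`, `n ≥ 3`, `|K| ≥ 4`, is a product of two regular
unipotent elements. -/

set_option autoImplicit false

namespace H56.RegU

open Module

universe u

variable {K : Type*} [Field K] {V : Type u} [AddCommGroup V] [Module K V] {φ : Dual K V} {v : V}

/-- The projection onto the kernel of `φ` along `v`. -/
def pr (h : φ v = 1) : V →ₗ[K] LinearMap.ker φ :=
  (LinearMap.id - φ.smulRight v).codRestrict _ fun x => by simp [h]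

theorem coe_pr (h : φ v = 1) (x : V) : (pr h x : V) = x - φ x • v := rfl

@[simp] theorem pr_coe (h : φ v = 1) (w : LinearMap.ker φ) : pr h w = w :=
  Subtype.ext (by rw [coe_pr, w.2, zero_smul, sub_zero])

@[simp] theorem pr_self (h : φ v = 1) : pr h v = 0 := Subtype.ext (by simp [coe_pr, h])

/-- Lower extension. -/
def low (h : φ v = 1) (A : End K (LinearMap.ker φ)) (c : LinearMap.ker φ) : End K V :=
  (LinearMap.ker φ).subtype ∘ₗ (A ∘ₗ pr h + φ.smulRight c)

theorem low_apply (h : φ v = 1) (A : End K (LinearMap.ker φ)) (c : LinearMap.ker φ) (x : V) :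
    low h A c x = (A (pr h x) + φ x • c : LinearMap.ker φ) := rfl

theorem low_pow (h : φ v = 1) (A : End K (LinearMap.ker φ)) (c : LinearMap.ker φ) (k : ℕ) (x : V) :
    (low h A c ^ (k + 1)) x = ((A ^ (k + 1)) (pr h x) + φ x • (A ^ k) c : LinearMap.ker φ) := by
  induction k with
  | zero => simp [low_apply]
  | succ k ih =>
    rw [pow_succ', End.mul_apply, ih, low_apply, pr_coe, LinearMap.map_coe_ker, zero_smul, add_zero,
      map_add, map_smul, pow_succ' A (k + 1), pow_succ' A k]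
    rfl

/-- Upper extension. -/
def upp (h : φ v = 1) (A : End K (LinearMap.ker φ)) (b : Dual K (LinearMap.ker φ)) : End K V :=
  ((LinearMap.ker φ).subtype ∘ₗ A + b.smulRight v) ∘ₗ pr h

theorem upp_apply (h : φ v = 1) (A : End K (LinearMap.ker φ)) (b : Dual K (LinearMap.ker φ))
    (x : V) : upp h A b x = A (pr h x) + b (pr h x) • v := rfl

theorem upp_pow (h : φ v = 1) (A : End K (LinearMap.ker φ)) (b : Dual K (LinearMap.ker φ)) (k : ℕ)
    (x : V) : (upp h A b ^ (k + 1)) x = (A ^ (k + 1)) (pr h x) + b ((A ^ k) (pr h x)) • v := by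
  induction k with
  | zero => simp [upp_apply]
  | succ k ih =>
    rw [pow_succ', End.mul_apply, ih, upp_apply, map_add, map_smul, pr_self, pr_coe, smul_zero,
      add_zero, pow_succ' A (k + 1)]
    rfl

theorem finrank_ker_add [FiniteDimensional K V] (h : φ v = 1) :
    finrank K (LinearMap.ker φ) + 1 = finrank K V :=
  Module.Dual.finrank_ker_add_one_of_ne_zero fun h' => by simp [h'] at h

theorem main (hK : 4 ≤ Cardinal.mk K) (n : ℕ) : ∀ (V : Type u) [AddCommGroup V] [Module K V]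
    [FiniteDimensional K V], finrank K V = n + 1 → ∀ g : End K V, LinearMap.det g = 1 →
    (1 ≤ n → (∀ l : K, g ≠ l • 1) ∧ ¬ ∃ a, g a = a ∧ ∀ x, g x - x ∈ K ∙ a) →
    ∀ c : V, c ≠ 0 → ∀ b : Dual K V, b ≠ 0 → ∃ A B : End K V, g = (1 + A) * (1 + B) ∧
      A ^ (n + 1) = 0 ∧ B ^ (n + 1) = 0 ∧ (A ^ n) c ≠ 0 ∧ ∃ x, b ((B ^ n) x) ≠ 0 := by
  induction n with
  | zero =>
    intro V _ _ _ hV g hd _ c hc b hb
    refine ⟨0, 0, ?_, by simp, by simp, by simpa using hc, by
      by_contra! h; exact hb (LinearMap.ext h)⟩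
    obtain ⟨l, rfl⟩ := (LinearMap.existsUnique_eq_smul_id_of_finrank_eq_one hV g).exists
    rw [LinearMap.det_smul, hV] at hd
    simp only [zero_add, pow_one, LinearMap.det_id, mul_one] at hd
    simp [hd, ← End.one_eq_id]
  | succ n ih =>
    intro V _ _ _ hV g hd hg c hc b hb
    obtain ⟨v, φ, h1, h2, h3, h4, h5, ⟨w, h6, h7⟩, h8⟩ :=
      exists_pair hK hd (hg (by omega)).1 (hg (by omega)).2 (c := c) hb
    let b₁ : Dual K (LinearMap.ker φ) := φ ∘ₗ g ∘ₗ (LinearMap.ker φ).subtype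
    let g' : End K V := g * LinearMap.transvection (-(b₁ ∘ₗ pr h1)) v
    have e1 : ∀ x, g' x = g x - φ (g (pr h1 x)) • g v := fun x => by
      simp [g', b₁, LinearMap.transvection.apply, sub_eq_add_neg]
    have e2 : ∀ x, φ (g' x) = φ x := fun x => by simp [e1, coe_pr, h2]
    have e3 : LinearMap.ker φ ≤ (LinearMap.ker φ).comap g' := fun x hx => (e2 x).trans hx
    let g₁ : End K (LinearMap.ker φ) := g'.restrict e3
    have e4 : ∀ x : LinearMap.ker φ, (g₁ x : V) = g x - φ (g x) • g v := fun x => by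
      change g' x = _
      rw [e1, pr_coe]
    have hd₁ : LinearMap.det g₁ = 1 := by
      have h9 := g'.det_eq_det_mul_det _ e3
      have h10 : (LinearMap.ker φ).mapQ (LinearMap.ker φ) g' e3 = LinearMap.id :=
        Submodule.linearMap_qext _ (LinearMap.ext fun x =>
          (Submodule.Quotient.eq _).2 (by simp [e2]))
      rw [h10, LinearMap.det_id, mul_one] at h9
      rw [← h9, map_mul, hd, LinearMap.transvection.det]
      simp
    obtain ⟨A, B, f1, f2, f3, f4, x, f5⟩ := ih (LinearMap.ker φ)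
      (by have := finrank_ker_add h1; omega) g₁ hd₁ (fun hn => ⟨fun l hl => h8 (by omega)
        (Or.inl ⟨l, fun w hw => by rw [← e4 ⟨w, hw⟩, hl]; rfl⟩), fun ⟨a, ha, ha'⟩ => h8 (by omega)
        (Or.inr ⟨a, a.2, by rw [← e4, ha], fun w hw => by
          obtain ⟨s, hs⟩ := Submodule.mem_span_singleton.1 (ha' ⟨w, hw⟩)
          exact Submodule.mem_span_singleton.2 ⟨s, by
            rw [← e4 ⟨w, hw⟩]; exact congrArg Subtype.val hs⟩⟩)⟩)
      ⟨g v - v, by simp [h1, h2]⟩ (fun h => h5 (sub_eq_zero.1 (congrArg Subtype.val h))) b₁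
      (fun h => h7 (LinearMap.congr_fun h ⟨w, h6⟩))
    refine ⟨low h1 A ⟨g v - v, by simp [h1, h2]⟩, upp h1 B b₁, LinearMap.ext fun y => ?_,
      LinearMap.ext fun y => ?_, LinearMap.ext fun y => ?_, ?_, x, ?_⟩
    · have f6 := congrArg Subtype.val (LinearMap.congr_fun f1 (pr h1 y))
      rw [e4] at f6
      simp only [End.mul_apply, LinearMap.add_apply, End.one_apply, map_add, Submodule.coe_add,
        upp_apply, low_apply, map_smul, pr_self, pr_coe, map_zero, LinearMap.map_coe_ker, h1,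
        zero_smul, one_smul, Submodule.coe_smul, Submodule.coe_zero] at f6 ⊢
      rw [show b₁ (pr h1 y) = φ (g (pr h1 y)) from rfl]
      generalize φ (g (pr h1 y)) = r at f6
      rw [coe_pr, map_sub, map_smul] at f6
      linear_combination (norm := module) f6
    · rw [low_pow, pow_succ' A, f2]; simp
    · rw [upp_pow, pow_succ' B, f3]; simp
    · rw [low_pow, f2]
      simpa [h3 hc] using f4
    · rw [upp_pow, f3]
      simpa [h4] using f5

theorem exists_nil (n : ℕ) : ∀ (V : Type u) [AddCommGroup V] [Module K V]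
    [FiniteDimensional K V], finrank K V = n + 1 → ∀ (a : V) (φ : Dual K V), a ≠ 0 → φ a = 0 →
    (1 ≤ n → φ ≠ 0) → ∃ A : End K V, A ^ (n + 1) = 0 ∧ A ^ n ≠ 0 ∧ A a = 0 ∧ ∀ x, φ (A x) = 0 := by
  induction n with
  | zero =>
    intro V _ _ _ hV a φ ha _ _
    exact ⟨0, by simp, fun h => ha (by simpa using LinearMap.congr_fun h a), rfl, by simp⟩
  | succ n ih =>
    intro V _ _ _ hV a φ ha h0 hφ
    obtain ⟨v, hv⟩ : ∃ v, φ v = 1 := LinearMap.surjective (hφ (by omega)) 1
    have hW : finrank K (LinearMap.ker φ) = n + 1 := by have := finrank_ker_add hv; omega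
    have ha' : (⟨a, h0⟩ : LinearMap.ker φ) ≠ 0 := fun h => ha (congrArg Subtype.val h)
    obtain ⟨ψ, h1, h2⟩ : ∃ ψ : Dual K (LinearMap.ker φ), ψ ⟨a, h0⟩ = 0 ∧ (1 ≤ n → ψ ≠ 0) := by
      by_cases hn : 1 ≤ n
      · obtain ⟨y, -, hy⟩ := H62.exists_mem_notMem (W := ⊤) (Z := K ∙ (⟨a, h0⟩ : LinearMap.ker φ))
          (by rw [finrank_span_singleton ha', finrank_top]; omega)
        obtain ⟨ψ, h1, h2⟩ := H62.exists_dual_pair hy
        exact ⟨ψ, h2, fun _ h => by simp [h] at h1⟩
      · exact ⟨0, rfl, fun h => (hn h).elim⟩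
    obtain ⟨A, f1, f2, f3, -⟩ := ih _ hW _ ψ ha' h1 h2
    obtain ⟨c, hc⟩ : ∃ c, (A ^ n) c ≠ 0 := by by_contra! h; exact f2 (LinearMap.ext h)
    refine ⟨low hv A c, LinearMap.ext fun y => ?_, fun h => hc ?_, ?_, fun x => ?_⟩
    · rw [low_pow, pow_succ' A, f1]; simp
    · have := LinearMap.congr_fun h v
      rw [low_pow, f1] at this
      simpa [hv] using this
    · rw [low_apply, show pr hv a = ⟨a, h0⟩ from pr_coe hv ⟨a, h0⟩, f3, h0]; simp
    · rw [low_apply, LinearMap.map_coe_ker]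

theorem exists_mul [FiniteDimensional K V] (hK : 4 ≤ Cardinal.mk K) {n : ℕ}
    (hV : finrank K V = n + 1) (hn : 2 ≤ n) {g : End K V} (hd : LinearMap.det g = 1)
    (hs : ∀ l : K, g ≠ l • 1) : ∃ x y : End K V, g = x * y ∧ (x - 1) ^ (n + 1) = 0 ∧
      (x - 1) ^ n ≠ 0 ∧ (y - 1) ^ (n + 1) = 0 ∧ (y - 1) ^ n ≠ 0 := by
  by_cases ht : ∃ a, g a = a ∧ ∀ x, g x - x ∈ K ∙ a
  · obtain ⟨a, h1, h2⟩ := ht
    have ha : a ≠ 0 := by
      rintro rfl
      exact hs 1 (LinearMap.ext fun x => by simpa [sub_eq_zero] using h2 x)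
    obtain ⟨ψ, hψ⟩ := H62.exists_dual_of_ne_zero (F := K) ha
    have h3 : ∀ x, (g - 1) x = (ψ ∘ₗ (g - 1)) x • a := fun x => by
      obtain ⟨c, hc⟩ := Submodule.mem_span_singleton.1 (h2 x)
      change g x - x = ψ (g x - x) • a
      rw [← hc, map_smul, hψ, smul_eq_mul, mul_one]
    have h4 : (ψ ∘ₗ (g - 1)) a = 0 := by simp [h1]
    have h5 : ψ ∘ₗ (g - 1) ≠ 0 := fun h => hs 1 (by
      rw [one_smul, ← sub_eq_zero]; exact LinearMap.ext fun x => by rw [h3, h]; simp)
    generalize ψ ∘ₗ (g - 1) = α at h3 h4 h5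
    obtain ⟨A, f1, f2, f3, f4⟩ := exists_nil n V hV a α ha h4 fun _ => h5
    obtain ⟨T, rfl⟩ : ∃ T, g = 1 + T := ⟨g - 1, by abel⟩
    rw [add_sub_cancel_left] at h3
    have e1 : A * T = 0 := LinearMap.ext fun x => by simp [h3 x, f3]
    have e2 : T * A = 0 := LinearMap.ext fun x => by simp [h3 (A x), f4]
    have e3 : T * T = 0 := LinearMap.ext fun x => by rw [End.mul_apply, h3, h3]; simp [h4]
    obtain ⟨u, hu⟩ := IsNilpotent.isUnit_one_add (⟨_, f1⟩ : IsNilpotent A)
    have e4 : ∀ k, (T - A) ^ (k + 2) = (-A) ^ (k + 2) := fun k => by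
      induction k with
      | zero => simp [pow_two, sub_mul, mul_sub, e1, e2, e3]
      | succ k ih =>
        rw [show k + 1 + 2 = k + 2 + 1 from rfl, pow_succ, ih, pow_succ (-A) (k + 2), mul_sub, pow_succ (-A) (k + 1),
          mul_assoc, neg_mul A, e1]
        simp
    have e5 : Commute (u : End K V) (T - A) := by
      rw [hu, Commute, SemiconjBy]; simp [add_mul, mul_add, mul_sub, sub_mul, e1, e2]; abel
    have e6 : ∀ k, ((↑u⁻¹ : End K V) * (1 + T) - 1) ^ k = (↑u⁻¹ : End K V) ^ k * (T - A) ^ k :=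
      fun k => by
        rw [← e5.units_inv_left.mul_pow, show T - A = 1 + T - u by rw [hu]; abel, mul_sub,
          Units.inv_mul]
    obtain ⟨n, rfl⟩ := Nat.exists_eq_add_of_le' hn
    refine ⟨u, ↑u⁻¹ * (1 + T), by simp, by simpa [hu] using f1, by simpa [hu] using f2, ?_, ?_⟩
    · rw [e6, show n + 2 + 1 = (n + 1) + 2 from rfl, e4, neg_pow, f1]; simp
    · rw [e6, e4, neg_pow, ← Units.val_pow_eq_pow_val, Ne, Units.mul_right_eq_zero,
        (isUnit_neg_one.pow _).mul_right_eq_zero]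
      exact f2
  · obtain ⟨c, hc⟩ := (Module.finrank_pos_iff_exists_ne_zero (R := K) (M := V)).1 (by omega)
    obtain ⟨b, hb⟩ := H62.exists_dual_of_ne_zero (F := K) hc
    obtain ⟨A, B, h1, h2, h3, h4, x, h5⟩ := main hK n V hV g hd (fun _ => ⟨hs, ht⟩) c hc b
      (fun h => by simp [h] at hb)
    exact ⟨_, _, h1, by simpa using h2, fun h => h4 (by simp [show A ^ n = 0 by simpa using h]),
      by simpa using h3, fun h => h5 (by simp [show B ^ n = 0 by simpa using h])⟩

open Matrix in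
theorem shift_pow {n : ℕ} {N : Matrix (Fin n) (Fin n) K}
    (h : ∀ i j, N i j = if j.val = i.val + 1 then 1 else 0) (k : ℕ) (i j : Fin n) :
    (N ^ k) i j = if j.val = i.val + k then 1 else 0 := by
  induction k generalizing j with
  | zero => simp [one_apply, Fin.ext_iff, eq_comm]
  | succ k ih =>
    rw [pow_succ, mul_apply]
    simp only [ih, h, ite_mul, one_mul, zero_mul]
    by_cases hj : j.val = i.val + (k + 1)
    · rw [if_pos hj, Finset.sum_eq_single ⟨i + k, by omega⟩]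
      · simp [hj, add_assoc]
      · intro l _ hl
        rw [if_neg fun h => hl (Fin.ext h)]
      · simp
    · rw [if_neg hj]
      refine Finset.sum_eq_zero fun l _ => ?_
      split_ifs <;> first | rfl | omega

open Matrix in
theorem exists_conj {n : ℕ} {J : GL (Fin (n + 1)) K}
    (hJ : ∀ i j : Fin (n + 1),
      (J : Matrix _ _ K) i j = if i = j then 1 else if j.val = i.val + 1 then 1 else 0)
    {x : End K (Fin (n + 1) → K)} (h1 : (x - 1) ^ (n + 1) = 0) (h2 : (x - 1) ^ n ≠ 0) :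
    ∃ c : GL (Fin (n + 1)) K, ((c * J * c⁻¹ : GL _ K) : Matrix _ _ K) = LinearMap.toMatrix' x := by
  have hN : ∀ i j : Fin (n + 1), ((J : Matrix _ _ K) - 1) i j =
      if j.val = i.val + 1 then 1 else 0 := fun i j => by
    rw [Matrix.sub_apply, hJ, Matrix.one_apply]
    by_cases h : i = j <;> simp [h]
  have h3 : H53.med J.1 = H53.med (LinearMap.toMatrix' x) := by
    rw [H53.med, H53.med, toLin'_toMatrix', H53.ed_eq_singleton_of_pow (by simp) h1 h2,
      H53.ed_eq_singleton_of_pow (k := n) (by simp)]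
    · rw [H53.toLin'_sub_one_pow, LinearEquiv.map_eq_zero_iff]
      ext i j
      rw [shift_pow hN, if_neg (by omega), Matrix.zero_apply]
    · rw [H53.toLin'_sub_one_pow, Ne, LinearEquiv.map_eq_zero_iff]
      intro h
      have := congrFun₂ h 0 (Fin.last n)
      rw [shift_pow hN] at this
      simp at this
  obtain ⟨c, hc⟩ := (H53.isConj_iff_med_eq _ _).2 h3
  exact ⟨c, by rw [Units.val_mul, Units.val_mul, hc.eq, Units.mul_inv_cancel_right]⟩

end H56.RegU
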