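import Cfsg.Agent.H86.SPIDef
import Cfsg.Agent.H59.SOAsm
import Cfsg.Agent.H58.WittIndex

/-! STD-SP, chapter I: the model `Ω(W, Q_δ)` is `PΩ^±_(2k+2)(q)`. -/

set_option autoImplicit false

namespace H56.SpiMO

open H67.UA hiding Par
open H67.SP H86.SPI H56 H58 Module Cfsg
open H59.SO (Om)

theorem jobMO : JobMO := by
  intro n F _ _ _ _ _ pn m δ _
  have p := (m.par δ).toPar0
  obtain ⟨ν⟩ := p.nonempty_pom
  have hk : finrank F (WW n F) = 2 * (kk n + 1) := by
    obtain ⟨l, hl⟩ := pn.odd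
    simp only [Module.finrank_prod, Module.finrank_fin_fun, Module.finrank_self, kk]
    omega
  by_cases hp : IsPlus (QD n F δ)
  · obtain ⟨g, hg⟩ := hp.exists_equiv p.nd hk
    exact .inl ⟨((pOmegaEquiv _ (coe_qPlus (kk n + 1) F)).trans
      ((H55.quotCenterCongr (H55.commutatorCongr (O.congr g hg))).trans ν)).symm⟩
  · obtain ⟨a, b, hab⟩ := exists_aniso_pair F
    obtain ⟨-, g, hg⟩ := exists_equiv_of_not_isPlus hp p.nd hk hab
    exact .inr ⟨a, b, hab, ⟨((pOmegaEquiv _ (coe_qMinus (kk n) F a b)).trans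
      ((H55.quotCenterCongr (H55.commutatorCongr (O.congr g hg))).trans ν)).symm⟩⟩

end H56.SpiMO
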