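import Cfsg.Agent.H86.TP.Spec
import Cfsg.Agent.H14.Tight

/-! Tower NF (S1308), chapter TE part 1, job TQ0: the setting in terms of `Q`, and its
invariance under conjugation. -/

set_option autoImplicit false

namespace H56.TPQ0

open Cfsg Subgroup MulAction H14 H98 H1.Gold H31.S2 H14.GC H14.FE H14.NF H86.TP

universe u

variable {G : Type u} [Group G]

theorem syl_iff [Finite G] {T H X : Subgroup G} (h : IsSyl 2 T H) (hl : H ≤ X) :
    IsSyl 2 T X ↔ ¬ 2 ∣ H.relIndex X := by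
  have e := relIndex_mul_relIndex T H X h.le hl
  constructor
  · intro h1 h2
    exact h1.not_dvd_relIndex (e ▸ h2.mul_left _)
  · intro h1
    refine isSyl_of_not_dvd_relIndex (h.le.trans hl) h.isPGroup fun h2 => ?_
    rw [← e] at h2
    exact (Nat.prime_two.dvd_mul.1 h2).elim h.not_dvd_relIndex h1

theorem el_cj {T : Subgroup G} (h : El T) (g : G) : El (cj g T) := fun a ha => by
  have h1 := h _ (mem_cj.1 ha)
  calc a * a = g * (g⁻¹ * a * g * (g⁻¹ * a * g)) * g⁻¹ := by group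
    _ = 1 := by rw [h1]; group

theorem tq0 : TQ0.{u} := by
  intro G _ _ K h
  obtain ⟨g, T, e⟩ := h.ex
  refine ⟨e.std.2.1, e.four, ?_, ⟨_, T, ⟨g, rfl⟩, fun h1 => e.out (cj_eq_self_iff.1 h1), e.syl, e.ne,
    fun h1 => (syl_iff e.syl inf_le_left).1 h1 e.nf⟩, h.nel⟩
  rintro _ T' ⟨g', rfl⟩ h1 h2 h3 h4
  refine h.all g' T' ⟨e.std, e.four, fun h5 => h1 (cj_eq_self h5), h2, h3, ?_⟩
  by_contra h5
  exact h4 ((syl_iff h2 inf_le_left).2 h5)

theorem cjq : CJ.{u} := by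
  rintro G _ _ Q h _ ⟨g, rfl⟩
  refine ⟨te_cj h.te g, h.four.cj g, ?_, ?_, fun R hR h1 => ?_⟩
  · rintro _ T ⟨a, rfl⟩ h1 h2 h3 h4
    have k := h.all (cj g⁻¹ (cj a (cj g Q))) (cj g⁻¹ T) ⟨g⁻¹ * a * g, by rw [cj_cj, cj_cj]⟩
      (fun e => h1 (by rw [← cj_cj_inv g (cj a (cj g Q)), e]))
      (by have := h2.cj g⁻¹; rwa [cj_inf, cj_normalizer, cj_inv_cj] at this)
      (fun e => h3 (cj_eq_bot_iff.1 e))
      (fun e => h4 (by have := e.cj g; rwa [cj_cj_inv, cj_cj_inv] at this))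
    have k1 := el_cj k.1 g
    have k2 := k.2.cj g
    rw [cj_cj_inv] at k1 k2
    exact ⟨k1, k2⟩
  · obtain ⟨_, T, ⟨a, rfl⟩, h1, h2, h3, h4⟩ := h.ex
    refine ⟨cj g (cj a Q), cj g T, ⟨g * a * g⁻¹, ?_⟩, fun e => h1 (cj_inj.1 e), ?_,
      fun e => h3 (cj_eq_bot_iff.1 e), fun e => h4 ?_⟩
    · rw [cj_cj, cj_cj, inv_mul_cancel_right]
    · have := h2.cj g
      rwa [cj_inf, cj_normalizer] at this
    · have := e.cj g⁻¹
      rwa [cj_inv_cj, cj_inv_cj] at this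
  · refine h.nel (cj g⁻¹ R) ?_ (el_cj h1 _)
    have := hR.cj g⁻¹
    rwa [cj_inv_cj] at this

theorem jTQ0 : JobTQ0.{u} := ⟨tq0, cjq⟩

end H56.TPQ0
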