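import Cfsg.Agent.Base

set_option autoImplicit false
set_option linter.unusedSectionVars false

/-! Stabilisers of partitions in symmetric and alternating groups. -/

namespace H56.Wr

open Equiv Equiv.Perm MulAction

variable {Ω ι : Type*}

/-- The stabiliser of the partition into the fibres of `f`. -/
def ps (f : Ω → ι) : Subgroup (Perm Ω) where
  carrier := {g | ∀ x y, f x = f y ↔ f (g x) = f (g y)}
  one_mem' _ _ := Iff.rfl
  mul_mem' ha hb x y := (hb x y).trans (ha _ _)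
  inv_mem' {g} hg x y := by simpa using (hg (g⁻¹ x) (g⁻¹ y)).symm

theorem closure_eq (f : Ω → ι) :
    Subgroup.closure {g : Perm Ω | ∀ x y, f x = f y ↔ f (g x) = f (g y)} = ps f :=
  Subgroup.closure_eq (ps f)

variable {f : Ω → ι}

theorem mem_ps {g : Perm Ω} : g ∈ ps f ↔ ∀ x y, f x = f y ↔ f (g x) = f (g y) := Iff.rfl

theorem mem_of_semi {g : Perm Ω} {σ : ι → ι} (hσ : Function.Injective σ)
    (h : ∀ x, f (g x) = σ (f x)) : g ∈ ps f := fun x y => by rw [h, h, hσ.eq_iff]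

theorem mem_of_imp [Finite Ω] {g : Perm Ω} (h : ∀ x y, f x = f y → f (g x) = f (g y)) :
    g ∈ ps f := fun x y => ⟨h x y, fun h1 => by
  have h2 : ∀ (n : ℕ) x y, f x = f y → f ((g ^ n) x) = f ((g ^ n) y) := fun n => by
    induction n with
    | zero => simp
    | succ n ih => exact fun x y hxy => by rw [pow_succ']; exact h _ _ (ih x y hxy)
  have h3 := h2 (orderOf g - 1) _ _ h1
  rwa [← Perm.mul_apply, ← Perm.mul_apply, ← pow_succ, Nat.sub_add_cancel (orderOf_pos g),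
    pow_orderOf_eq_one] at h3⟩

theorem exists_equiv [Finite Ω] {a : ℕ} (hf : ∀ i, Nat.card {x // f x = i} = a) :
    ∃ φ : Ω ≃ ι × Fin a, ∀ x, (φ x).1 = f x :=
  ⟨(Equiv.sigmaFiberEquiv f).symm.trans ((Equiv.sigmaCongrRight fun i =>
    Finite.equivFinOfCardEq (hf i)).trans (Equiv.sigmaEquivProd _ _)), fun _ => rfl⟩

variable [DecidableEq Ω]

theorem swap_mem {p q : Ω} (h : f p = f q) : swap p q ∈ ps f :=
  mem_of_semi (σ := id) Function.injective_id fun x => by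
    rw [swap_apply_def]; split_ifs <;> simp_all

/-- The partition has blocks of equal size at least two and at least two blocks. -/
structure Eqp (f : Ω → ι) : Prop where
  blk : ∀ y y', ∃ g ∈ ps f, g y = y' ∧ ∀ x, f x ≠ f y → f x ≠ f y' → g x = x
  two : ∀ x, ∃ y, y ≠ x ∧ f y = f x
  oth : ∀ x, ∃ y, f y ≠ f x
  ne : Nonempty Ω

theorem eqp [Finite Ω] [Nontrivial ι] {a : ℕ} (ha : 2 ≤ a)
    (hf : ∀ i, Nat.card {x // f x = i} = a) : Eqp f := by
  classical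
  obtain ⟨φ, hφ⟩ := exists_equiv hf
  have h1 : ∀ p, f (φ.symm p) = p.1 := fun p => by rw [← hφ, φ.apply_symm_apply]
  refine ⟨fun y y' => ?_, fun x => ?_, fun x => ?_, ⟨φ.symm (Classical.arbitrary ι, ⟨0, by omega⟩)⟩⟩
  · let g : Perm Ω := φ.symm.permCongr ((swap (f y) (f y')).prodCongr (Equiv.refl _))
    have h2 : ∀ x, f (g x) = swap (f y) (f y') (f x) := fun x => by simp [g, h1, hφ]
    refine ⟨swap (g y) y' * g, mul_mem (swap_mem (by simp [h2])) (mem_of_semi (Equiv.injective _) h2),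
      by simp, fun x h3 h4 => ?_⟩
    have h5 : g x = x := φ.injective (Prod.ext (by simp [g, hφ, swap_apply_of_ne_of_ne h3 h4])
      (by simp [g]))
    rw [Perm.mul_apply, h5, swap_apply_of_ne_of_ne
      (fun h : x = g y => h4 (by rw [h, h2, swap_apply_left])) fun h : x = y' => h4 (by rw [h])]
  · have : Nontrivial (Fin a) := Fin.nontrivial_iff_two_le.2 ha
    obtain ⟨k, hk⟩ := exists_ne (φ x).2
    exact ⟨φ.symm ((φ x).1, k), fun h => hk (by rw [← h]; simp), by rw [h1, hφ]⟩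
  · obtain ⟨k, hk⟩ := exists_ne (f x)
    exact ⟨φ.symm (k, (φ x).2), by rwa [h1]⟩

theorem Eqp.ne_top (h : Eqp f) : ps f ≠ ⊤ := fun h0 => by
  obtain ⟨x⟩ := h.ne
  obtain ⟨x', h1, h2⟩ := h.two x
  obtain ⟨y, hy⟩ := h.oth x
  have := (h0.ge (Subgroup.mem_top (swap x' y)) x' x).1 h2
  rw [swap_apply_left, swap_apply_of_ne_of_ne h1.symm (fun h => hy (h ▸ rfl))] at this
  exact hy this

theorem Eqp.isCoatom [Finite Ω] (h : Eqp f) : IsCoatom (ps f) := by
  refine ⟨h.ne_top, fun H hH => ?_⟩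
  obtain ⟨g, hg, hg'⟩ := SetLike.exists_of_lt hH
  obtain ⟨x, y, h1, h2⟩ : ∃ x y, f x = f y ∧ f (g x) ≠ f (g y) := by
    by_contra hc
    push Not at hc
    exact hg' (mem_of_imp hc)
  have h3 : swap (g x) (g y) ∈ H := by
    rw [swap_apply_apply]; exact H.mul_mem (H.mul_mem hg (hH.le (swap_mem h1))) (H.inv_mem hg)
  have h4 : ∀ z, swap (g x) z ∈ H := fun z => by
    by_cases h4 : f (g x) = f z
    · exact hH.le (swap_mem h4)
    obtain ⟨k, k1, k2, k3⟩ := h.blk (g y) z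
    rw [← k2, ← k3 _ h2 h4, swap_apply_apply]
    exact H.mul_mem (H.mul_mem (hH.le k1) h3) (H.inv_mem (hH.le k1))
  rw [eq_top_iff, ← closure_isSwap, Subgroup.closure_le]
  rintro _ ⟨u, v, -, rfl⟩
  exact SubmonoidClass.swap_mem_trans H (swap_comm (g x) u ▸ h4 u) (h4 v)

variable [Fintype Ω]

theorem exists_even {g : Perm Ω} (hg : g ∈ ps f) {p q : Ω} (h1 : p ≠ q) (h2 : f p = f q) :
    ∃ k ∈ ps f ⊓ alternatingGroup Ω, ∀ x, x ≠ p → x ≠ q → k x = g x := by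
  rcases Int.units_eq_one_or (sign g) with h | h
  · exact ⟨g, ⟨hg, h⟩, fun _ _ _ => rfl⟩
  · exact ⟨g * swap p q, ⟨mul_mem hg (swap_mem h2), by simp [h, h1]⟩, fun x h3 h4 => by
      simp [swap_apply_of_ne_of_ne h3 h4]⟩

theorem Eqp.trans (h : Eqp f) (x y : Ω) : ∃ k ∈ ps f ⊓ alternatingGroup Ω, k x = y := by
  obtain ⟨g, g1, g2, -⟩ := h.blk x y
  obtain ⟨p, hp⟩ := h.oth x
  obtain ⟨q, q1, q2⟩ := h.two p
  obtain ⟨k, k1, k2⟩ := exists_even g1 q1 q2
  exact ⟨k, k1, (k2 x (fun h => hp (by rw [← q2, h])) fun h => hp (by rw [h])).trans g2⟩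

theorem Eqp.prim (h : Eqp f)
    (h3 : ∀ x y, f y ≠ f x → ∃ p q, p ≠ q ∧ f p = f q ∧ x ≠ p ∧ x ≠ q ∧ y ≠ p ∧ y ≠ q)
    {H : Subgroup (Perm Ω)} (hH : ps f ⊓ alternatingGroup Ω ≤ H) (hn : ¬ H ≤ ps f) :
    IsPreprimitive H Ω := by
  have : IsPretransitive H Ω := ⟨fun x y => by
    obtain ⟨k, k1, k2⟩ := h.trans x y
    exact ⟨⟨k, hH k1⟩, k2⟩⟩
  refine ⟨fun {B} hB => ?_⟩
  have hB' : ∀ g ∈ H, ∀ x ∈ B, g x = x → ∀ y ∈ B, g y ∈ B := fun g hg x hx h1 y hy =>
    (hB.smul_eq_of_mem (g := ⟨g, hg⟩) hx (by rwa [show (⟨g, hg⟩ : H) • x = x from h1])).le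
      (Set.smul_mem_smul_set hy)
  by_cases h1 : ∃ x ∈ B, ∃ y ∈ B, f y ≠ f x
  · obtain ⟨x, hx, y, hy, h1⟩ := h1
    have h2 : ∀ x ∈ B, ∀ y ∈ B, f y ≠ f x → ∀ z, f z ≠ f x → z ∈ B := fun x hx y hy h1 z hz => by
      obtain ⟨g, g1, g2, g3⟩ := h.blk y z
      obtain ⟨p, q, a1, a2, a3, a4, a5, a6⟩ := h3 x y h1
      obtain ⟨k, k1, k2⟩ := exists_even g1 a1 a2
      rw [← g2, ← k2 y a5 a6]
      exact hB' k (hH k1) x hx ((k2 x a3 a4).trans (g3 x h1.symm hz.symm)) y hy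
    refine Or.inr (Set.eq_univ_of_forall fun z => ?_)
    by_cases h4 : f z = f x
    · exact h2 y hy x hx h1.symm z (h4 ▸ h1.symm)
    · exact h2 x hx y hy h1 z h4
  push Not at h1
  refine Or.inl fun x hx y hy => by_contra fun hxy => hn fun g hg => mem_of_imp fun u v huv => ?_
  have h2 : ∀ z, f z = f x → z ∈ B := fun z hz => by
    by_cases h4 : z = x
    · exact h4 ▸ hx
    obtain ⟨p, hp⟩ := h.oth x
    obtain ⟨q, q1, q2⟩ := h.two p
    obtain ⟨k, k1, k2⟩ := exists_even (swap_mem ((h1 x hx y hy).trans hz.symm)) q1 q2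
    have h5 : ∀ w, f w = f x → k w = swap y z w := fun w hw =>
      k2 w (fun h => hp (by rw [← q2, ← h, hw])) fun h => hp (by rw [← h, hw])
    simpa [h5 y (h1 x hx y hy)] using hB' k (hH k1) x hx
      ((h5 x rfl).trans (swap_apply_of_ne_of_ne hxy (Ne.symm h4))) y hy
  obtain ⟨k, k1, rfl⟩ := h.trans x u
  obtain ⟨k', k2, k3⟩ := h.trans (g (k x)) x
  obtain ⟨v, rfl⟩ := k.surjective v
  refine (k2.1 _ _).2 (k3.symm ▸ (h1 x hx _ (hB' (k' * g * k)
    (H.mul_mem (H.mul_mem (hH k2) hg) (hH k1)) x hx k3 v (h2 v ((k1.1 _ _).2 huv).symm))).symm)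

theorem three_of_pairs {p : Ω → Ω} (p1 : ∀ x, p x ≠ x) (p2 : ∀ x y, f y = f x ↔ y = x ∨ y = p x)
    (h3 : ∀ x y, ∃ z, f z ≠ f x ∧ f z ≠ f y)
    (h5 : ∀ x y z w, f x ≠ f y → f x ≠ f z → f x ≠ f w → f y ≠ f z → f y ≠ f w → f z ≠ f w →
      ∃ k, f k ≠ f x ∧ f k ≠ f y ∧ f k ≠ f z ∧ f k ≠ f w)
    {H : Subgroup (Perm Ω)} (hH : ps f ⊓ alternatingGroup Ω ≤ H) (hn : ¬ H ≤ ps f) :
    ∃ c ∈ H, IsThreeCycle c := by
  classical
  obtain ⟨g, hg, hg'⟩ := SetLike.not_le_iff_exists.1 hn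
  have p3 : ∀ x, f (p x) = f x := fun x => (p2 _ _).2 (Or.inr rfl)
  have p4 : ∀ x, p (p x) = x := fun x => (((p2 (p x) x).1 (p3 x).symm).resolve_left (p1 x).symm).symm
  obtain ⟨x, hx⟩ : ∃ x, f (g x) ≠ f (g (p x)) := by
    by_contra hc
    push Not at hc
    refine hg' (mem_of_imp fun x y hxy => ?_)
    rcases (p2 x y).1 hxy.symm with rfl | rfl
    · rfl
    · exact hc x
  have t1 : ∀ u v, swap u (p u) * swap v (p v) ∈ H := fun u v =>
    hH ⟨mul_mem (swap_mem (p3 u).symm) (swap_mem (p3 v).symm), by simp [(p1 _).symm]⟩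
  obtain ⟨q, q1, q2, q3, q4⟩ : ∃ q : Ω → Ω, (∀ x, q x ≠ x) ∧ (∀ x, q (q x) = x) ∧
      q (g x) = g (p x) ∧ ∀ u v, swap u (q u) * swap v (q v) ∈ H := by
    refine ⟨fun u => g (p (g⁻¹ u)), fun u hu => p1 (g⁻¹ u) (g.injective (by simpa using hu)),
      by simp [p4], by simp, fun u v => ?_⟩
    obtain ⟨u, rfl⟩ := g.surjective u
    obtain ⟨v, rfl⟩ := g.surjective v
    have := H.mul_mem (H.mul_mem hg (t1 u v)) (H.inv_mem hg)
    simpa [swap_apply_apply, mul_assoc] using this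
  rw [← q3] at hx
  generalize g x = w at hx
  have n1 : ∀ {a b}, f a ≠ f b → a ≠ b ∧ a ≠ p b ∧ p a ≠ b ∧ p a ≠ p b := fun {a b} h =>
    ⟨fun e => h (by rw [e]), fun e => h (by rw [e, p3]), fun e => h (by rw [← e, p3]),
      fun e => h (by rw [← p3, e, p3])⟩
  obtain ⟨a1, a2, a3, a4⟩ := n1 hx
  by_cases h1 : q (p (q w)) = p w
  swap
  · have h2 : swap w (q w) * swap (p (q w)) (p w) ∈ H := by
      refine hH ⟨mem_of_semi (σ := swap (f w) (f (q w))) (Equiv.injective _) fun y => ?_,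
        by simp [a1, a4.symm]⟩
      by_cases b1 : f y = f w
      · rcases (p2 _ _).1 b1 with rfl | rfl
        · simp [swap_apply_of_ne_of_ne a2 (p1 y).symm]
        · simp [swap_apply_of_ne_of_ne a2.symm (p1 _), p3]
      by_cases b2 : f y = f (q w)
      · rcases (p2 _ _).1 b2 with rfl | rfl
        · simp [swap_apply_of_ne_of_ne (p1 _).symm a3.symm]
        · simp [swap_apply_of_ne_of_ne (p1 _) a3, p3]
      simp [swap_apply_of_ne_of_ne (n1 b2).2.1 (n1 b1).2.1, swap_apply_of_ne_of_ne (n1 b1).1 (n1 b2).1,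
        swap_apply_of_ne_of_ne b1 b2]
    refine ⟨_, H.mul_mem (H.inv_mem h2) (q4 w (p (q w))), ?_⟩
    simpa [mul_assoc] using isThreeCycle_swap_mul_swap_same a4.symm (q1 _).symm (Ne.symm h1)
  obtain ⟨u, u1, u2⟩ := h3 w (q w)
  have v1 : f (q u) ≠ f w := fun e => by
    rcases (p2 _ _).1 e with e | e
    · exact u2 (by rw [← e, q2])
    · exact u2 (by rw [← q2 u, e, ← h1, q2, p3])
  have v2 : f (q u) ≠ f (q w) := fun e => by
    rcases (p2 _ _).1 e with e | e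
    · exact u1 (by rw [← q2 u, e, q2])
    · exact u1 (by rw [← q2 u, e, h1, p3])
  obtain ⟨k, k1, k2⟩ : ∃ k, (f k ≠ f w ∧ f k ≠ f (q w)) ∧
      swap (swap k (p k) u) (swap k (p k) (q u)) = swap u (q u) := by
    by_cases b1 : f u = f (q u)
    · have : q u = p u := ((p2 _ _).1 b1.symm).resolve_left (q1 u)
      exact ⟨u, ⟨u1, u2⟩, by simp [this, swap_comm]⟩
    · obtain ⟨k, k1, k2, k3, k4⟩ := h5 w (q w) u (q u) hx u1.symm v1.symm u2.symm v2.symm b1
      exact ⟨k, ⟨k1, k2⟩, by rw [swap_apply_of_ne_of_ne (n1 k3).1.symm (n1 k3).2.2.1.symm,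
        swap_apply_of_ne_of_ne (n1 k4).1.symm (n1 k4).2.2.1.symm]⟩
  have h2 := H.mul_mem (H.mul_mem (t1 (q w) k) (q4 w u)) (H.inv_mem (t1 (q w) k))
  have h4 : ∀ t s s' : Perm Ω, t * (s * s') * t⁻¹ = t * s * t⁻¹ * (t * s' * t⁻¹) := fun _ _ _ => by
    group
  have c1 : ∀ y, f y ≠ f (q w) → swap (q w) (p (q w)) y = y := fun y hy =>
    swap_apply_of_ne_of_ne (n1 hy).1 (n1 hy).2.1
  have c2 : ∀ y, f y ≠ f (q w) → f (swap k (p k) y) ≠ f (q w) := fun y hy => by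
    rw [swap_apply_def]; split_ifs <;> simp [p3, k1.2, hy]
  rw [h4, ← swap_apply_apply, ← swap_apply_apply] at h2
  simp only [Perm.mul_apply, swap_apply_of_ne_of_ne (n1 k1.1).1.symm (n1 k1.1).2.2.1.symm,
    swap_apply_of_ne_of_ne (n1 k1.2).1.symm (n1 k1.2).2.2.1.symm, c1 _ hx, swap_apply_left,
    c1 _ (c2 _ u2), c1 _ (c2 _ v2), k2] at h2
  refine ⟨_, H.mul_mem (q4 w u) (H.inv_mem h2), ?_⟩
  simpa [mul_assoc] using isThreeCycle_swap_mul_swap_same a1 a2 (p1 _).symm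

theorem isCoatom_alt {b a : ℕ} (h8 : Fintype.card Ω ≠ 8) (ha : 2 ≤ a) (hb : 2 ≤ b) {f : Ω → Fin b}
    (hf : ∀ i, Nat.card {x // f x = i} = a) :
    IsCoatom ((ps f ⊓ alternatingGroup Ω).subgroupOf (alternatingGroup Ω)) := by
  have : Nontrivial (Fin b) := Fin.nontrivial_iff_two_le.2 hb
  have h := eqp ha hf
  obtain ⟨φ, hφ⟩ := exists_equiv hf
  have h1 : ∀ p, f (φ.symm p) = p.1 := fun p => by rw [← hφ, φ.apply_symm_apply]
  have hc : Fintype.card Ω = b * a := by simpa using Fintype.card_congr φ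
  have hs : ∀ s : Finset (Fin b), s.card < b → ∃ k, f k ∉ s := fun s hs => by
    obtain ⟨i, -, hi⟩ := Finset.exists_mem_notMem_of_card_lt_card (s := s) (t := Finset.univ)
      (by simpa using hs)
    exact ⟨φ.symm (i, ⟨0, by omega⟩), by rwa [h1]⟩
  have h3 : 3 ≤ b → ∀ x y, ∃ z, f z ≠ f x ∧ f z ≠ f y := fun h3 x y => by
    simpa [not_or] using hs {f x, f y} (lt_of_le_of_lt Finset.card_le_two h3)
  have h4 : 3 ≤ a → ∀ x, ∃ p q, p ≠ q ∧ f p = f x ∧ f q = f x ∧ x ≠ p ∧ x ≠ q := fun h4 x => by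
    obtain ⟨i, -, hi⟩ := Finset.exists_mem_notMem_of_card_lt_card (s := {(φ x).2}) (t := Finset.univ)
      (by simp; omega)
    obtain ⟨j, -, hj⟩ := Finset.exists_mem_notMem_of_card_lt_card (s := {(φ x).2, i})
      (t := Finset.univ) (lt_of_le_of_lt Finset.card_le_two (by simp; omega))
    simp only [Finset.mem_insert, Finset.mem_singleton, not_or] at hi hj
    exact ⟨φ.symm (f x, i), φ.symm (f x, j), by simp [Ne.symm hj.2], h1 _, h1 _,
      fun e => hi (by rw [e]; simp), fun e => hj.1 (by rw [e]; simp)⟩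
  refine ⟨fun h0 => ?_, fun H' hH' => ?_⟩
  · obtain ⟨x⟩ := h.ne
    obtain ⟨x', a1, a2⟩ := h.two x
    obtain ⟨y, a3⟩ := h.oth x
    obtain ⟨y', a4, a5⟩ := h.two y
    have b1 : x' ≠ y := fun e => a3 (by rw [← e, a2])
    have := ((h0.ge (Subgroup.mem_top ⟨swap y y' * swap x' y, by simp [a4.symm, b1]⟩)).1 x' x).1 a2
    simp only [Subgroup.coe_subtype, Perm.mul_apply, swap_apply_left,
      swap_apply_of_ne_of_ne a1.symm (fun e : x = y => a3 (by rw [e])),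
      swap_apply_of_ne_of_ne (fun e : x = y => a3 (by rw [e])) (fun e : x = y' => a3 (by rw [e, a5]))]
      at this
    exact a3 (a5.symm.trans this)
  let H := H'.map (alternatingGroup Ω).subtype
  have hH : ps f ⊓ alternatingGroup Ω ≤ H := fun g hg => ⟨⟨g, hg.2⟩, hH'.le hg, rfl⟩
  have hn : ¬ H ≤ ps f := fun hle => hH'.not_ge fun g hg => ⟨hle ⟨g, hg, rfl⟩, g.2⟩
  suffices alternatingGroup Ω ≤ H from eq_top_iff.2 fun g _ => by
    obtain ⟨k, k1, k2⟩ := this g.2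
    exact Subtype.ext k2 ▸ k1
  by_cases ha3 : 3 ≤ a
  · obtain ⟨x⟩ := h.ne
    obtain ⟨p, q, a1, a2, a3, a4, a5⟩ := h4 ha3 x
    refine alternatingGroup_le_of_isPreprimitive_of_isThreeCycle_mem (h.prim (fun x y hxy => ?_) hH hn)
      (isThreeCycle_swap_mul_swap_same a4 a5 a1)
      (hH ⟨mul_mem (swap_mem a2.symm) (swap_mem a3.symm), by simp [a4, a5]⟩)
    obtain ⟨p, q, a1, a2, a3, a4, a5⟩ := h4 ha3 x
    exact ⟨p, q, a1, a2.trans a3.symm, a4, a5, fun e => hxy (e ▸ a2), fun e => hxy (e ▸ a3)⟩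
  obtain rfl : a = 2 := by omega
  by_cases hb3 : 3 ≤ b
  · obtain ⟨c, c1, c2⟩ := three_of_pairs (f := f) (p := fun x => φ.symm ((φ x).1, (φ x).2 + 1))
      (fun x e => by simpa using congrArg (fun y => (φ y).2) e) (fun x y => ⟨fun e => by
        rw [← hφ, ← hφ] at e
        rcases (by decide : ∀ i j : Fin 2, j = i ∨ j = i + 1) (φ x).2 (φ y).2 with e' | e'
        · exact Or.inl (φ.injective (Prod.ext e e'))
        · exact Or.inr (φ.injective (by rw [φ.apply_symm_apply]; exact Prod.ext e e')),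
        by rintro (rfl | rfl) <;> simp [h1, hφ]⟩) (h3 hb3) (fun x y z w b1 b2 b3 b4 b5 b6 => by
        have e : ({f x, f y, f z, f w} : Finset (Fin b)).card = 4 := by
          rw [Finset.card_eq_four]; exact ⟨_, _, _, _, b1, b2, b3, b4, b5, b6, rfl⟩
        have := Finset.card_le_univ ({f x, f y, f z, f w} : Finset (Fin b))
        rw [Fintype.card_fin] at this
        simpa [not_or] using hs {f x, f y, f z, f w} (by omega)) hH hn
    refine alternatingGroup_le_of_isPreprimitive_of_isThreeCycle_mem (h.prim (fun x y _ => ?_) hH hn)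
      c2 c1
    obtain ⟨p, a1, a2⟩ := h3 hb3 x y
    obtain ⟨q, a3, a4⟩ := h.two p
    exact ⟨p, q, a3.symm, a4.symm, fun e => a1 (by rw [e]), fun e => a1 (by rw [e, a4]),
      fun e => a2 (by rw [e]), fun e => a2 (by rw [e, a4])⟩
  obtain rfl : b = 2 := by omega
  have : IsPretransitive ↥(ps f ⊓ alternatingGroup Ω) Ω := ⟨fun x y => by
    obtain ⟨k, k1, k2⟩ := h.trans x y
    exact ⟨⟨k, k1⟩, k2⟩⟩
  obtain ⟨x⟩ := h.ne
  have e1 := (stabilizer ↥(ps f ⊓ alternatingGroup Ω) x).index_dvd_card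
  rw [index_stabilizer_of_transitive, Nat.card_eq_fintype_card, hc] at e1
  have e2 : H ≤ alternatingGroup Ω := Subgroup.map_subtype_le _
  have : Nontrivial Ω := Fintype.one_lt_card_iff_nontrivial.1 (by omega)
  have e3 : Nat.card (alternatingGroup Ω) = 12 := by
    rw [nat_card_alternatingGroup, Nat.card_eq_fintype_card, hc]; rfl
  have e4 := Subgroup.card_dvd_of_le e2
  have e5 := Subgroup.card_dvd_of_le hH
  have e6 : Nat.card ↥(ps f ⊓ alternatingGroup Ω) ≠ Nat.card H := fun e =>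
    hn ((Subgroup.eq_of_le_of_card_ge hH e.ge).ge.trans inf_le_left)
  refine (Subgroup.eq_of_le_of_card_ge e2 ?_).ge
  rw [e3] at e4 ⊢
  have e7 := Nat.le_of_dvd (by norm_num) e4
  have e8 := Nat.le_of_dvd Nat.card_pos e5
  have e9 := Nat.le_of_dvd Nat.card_pos e1
  have e10 := e1.trans e5
  generalize Nat.card H = n at *
  interval_cases n <;> omega

end H56.Wr
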