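import Cfsg.Agent.H56.Wr1

set_option autoImplicit false
set_option linter.unusedSectionVars false

/-! Small cases: `S_a × S_a`, `AGL₃(2)` in `A₈`, Sylow 2-subgroups of `S₈`. -/

namespace H56.Wr

open Equiv Equiv.Perm MulAction
open scoped Pointwise

theorem not_isCoatom_half {Ω : Type*} [Fintype Ω] [DecidableEq Ω] (hΩ : 2 < Fintype.card Ω)
    (O : Set Ω) (hO : Nat.card O = Nat.card ↥Oᶜ) : ¬ IsCoatom (stabilizer (Perm Ω) O) := by
  classical
  have h1 : Nat.card O + Nat.card ↥Oᶜ = Fintype.card Ω := by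
    rw [Nat.card_coe_set_eq, Nat.card_coe_set_eq, Set.ncard_add_ncard_compl,
      Nat.card_eq_fintype_card]
  have h := eqp (f := fun x => decide (x ∈ O)) (a := Nat.card O) (by omega) fun i => by
    cases i
    · rw [hO]; exact Nat.card_congr (Equiv.subtypeEquivRight fun x => by simp)
    · exact Nat.card_congr (Equiv.subtypeEquivRight fun x => by simp)
  have h2 : ∀ g ∈ stabilizer (Perm Ω) O, ∀ x, g x ∈ O ↔ x ∈ O := fun g hg x => by
    conv_lhs => rw [← mem_stabilizer_iff.1 hg]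
    exact Set.smul_mem_smul_set_iff (a := g)
  refine fun hc => h.ne_top (hc.2 _ (lt_of_le_of_ne (fun g hg =>
    mem_of_semi (σ := id) Function.injective_id fun x => by simp [h2 g hg]) fun h0 => ?_))
  obtain ⟨x⟩ := h.ne
  obtain ⟨y, hy⟩ := h.oth x
  obtain ⟨g, g1, g2, -⟩ := h.blk x y
  exact hy (by simp [← g2, h2 g (h0.ge g1)])

/-- The affine ternary operation on eight points. -/
def am (x y z : Fin 4 × Fin 2) : Fin 4 × Fin 2 := (x.1 ^^^ y.1 ^^^ z.1, x.2 + y.2 + z.2)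

/-- The affine group on eight points. -/
def agl : Subgroup (Perm (Fin 4 × Fin 2)) where
  carrier := {g | ∀ x y z, g (am x y z) = am (g x) (g y) (g z)}
  one_mem' _ _ _ := rfl
  mul_mem' ha hb x y z := by rw [Perm.mul_apply, hb, ha]; rfl
  inv_mem' {g} hg x y z := g.injective (by rw [hg]; simp)

theorem le_agl : ps Prod.fst ⊓ alternatingGroup (Fin 4 × Fin 2) ≤ agl := by
  rintro g ⟨h1, h2⟩
  have h3 : ∀ i j, (g (i, j)).1 = (g (i, 0)).1 := fun i j => (h1 _ _).1 rfl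
  let σ : Perm (Fin 4) := Equiv.ofBijective (fun i => (g (i, 0)).1)
    (Finite.injective_iff_bijective.1 fun i j h => (h1 (i, 0) (j, 0)).2 h)
  let τ : Fin 4 → Perm (Fin 2) := fun i => Equiv.ofBijective (fun j => (g (i, j)).2)
    (Finite.injective_iff_bijective.1 fun j k h => by
      simpa using g.injective (Prod.ext ((h3 i j).trans (h3 i k).symm) h))
  have h4 : g = (show Perm _ from prodCongrLeft fun _ => σ) * prodCongrRight τ :=
    Equiv.ext fun x => Prod.ext (h3 x.1 x.2) rfl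
  have h5 : ∏ i, sign (τ i) = 1 := by
    have := mem_alternatingGroup.1 h2
    rwa [h4, map_mul, sign_prodCongrLeft, sign_prodCongrRight, Finset.prod_const, Finset.card_univ,
      Fintype.card_fin, Int.units_sq, one_mul] at this
  have h6 : ∀ σ : Perm (Fin 4), ∀ x y z, σ (x ^^^ y ^^^ z) = σ x ^^^ σ y ^^^ σ z := by
    decide +kernel
  have h7 : ∀ t : Perm (Fin 2), ∃ c : Fin 2, (∀ j, t j = j + c) ∧ sign t = (-1) ^ c.1 := by
    decide +kernel
  choose c c1 c2 using fun i => h7 (τ i)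
  have h8 : ∀ c : Fin 4 → Fin 2, ∏ i, (-1 : ℤˣ) ^ (c i).1 = 1 → ∀ x y z : Fin 4 × Fin 2,
      x.2 + y.2 + z.2 + c (x.1 ^^^ y.1 ^^^ z.1) = x.2 + c x.1 + (y.2 + c y.1) + (z.2 + c z.1) := by
    decide +kernel
  rw [h4]
  refine mul_mem (fun x y z => Prod.ext (h6 σ _ _ _) rfl) fun x y z => Prod.ext rfl ?_
  change τ _ _ = τ _ _ + τ _ _ + τ _ _
  simp only [c1]
  exact h8 c (by simpa only [c2] using h5) x y z

theorem not_isCoatom_eight {Ω : Type*} [Fintype Ω] [DecidableEq Ω] {f : Ω → Fin 4}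
    (hf : ∀ i, Nat.card {x // f x = i} = 2) :
    ¬ IsCoatom ((ps f ⊓ alternatingGroup Ω).subgroupOf (alternatingGroup Ω)) := by
  obtain ⟨φ, hφ⟩ := exists_equiv hf
  have h1 : ∀ p, f (φ.symm p) = p.1 := fun p => by rw [← hφ, φ.apply_symm_apply]
  intro hc
  have h2 := hc.2 ((agl.comap (φ.permCongrHom : Perm Ω →* _)).subgroupOf (alternatingGroup Ω))
    (lt_of_le_of_ne (fun g hg => le_agl ⟨fun x y => by simpa [h1, ← hφ] using hg.1 (φ.symm x) (φ.symm y),
      (sign_permCongr φ _).trans hg.2⟩) fun h0 => ?_)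
  · have := h2.ge (Subgroup.mem_top ⟨φ.symm.permCongr (swap (0, 0) (0, 1) * swap (0, 0) (1, 0)),
      (sign_permCongr _ _).trans (by decide)⟩) (0, 0) (2, 0) (3, 0)
    simp at this
    revert this
    decide
  · have := (h0.ge (show (⟨φ.symm.permCongr (swap (0, 1) (1, 0) * swap (2, 1) (3, 0)),
      (sign_permCongr _ _).trans (by decide)⟩ : alternatingGroup Ω) ∈ _ from fun x y z => by
        simp only [Subgroup.coe_subtype, MonoidHom.coe_coe, permCongrHom_coe, permCongr_apply,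
          symm_symm, apply_symm_apply]
        revert x y z
        decide +kernel)).1 (φ.symm (0, 0)) (φ.symm (0, 1))
    simp [h1] at this
    revert this
    decide

theorem sq_fix {Ω ι κ : Type*} {f : Ω → ι} {c : Ω → κ} {g : Perm Ω} (hg : g ∈ ps f)
    (hc : ∀ x, c (g x) = c x)
    (h : ∀ x y z, c x = c y → c y = c z → f x = f y ∨ f y = f z ∨ f x = f z) (x : Ω) :
    f ((g ^ 2) x) = f x := by
  rw [sq, Perm.mul_apply]
  rcases h x (g x) (g (g x)) (hc x).symm (hc _).symm with e | e | e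
  · exact (e.trans ((hg _ _).1 e)).symm
  · exact (((hg _ _).2 e).trans e).symm
  · exact e.symm

/-- A Sylow 2-subgroup of `S₈`. -/
def P8 : Subgroup (Perm (Fin 8)) := ps (fun i => i.1 / 4) ⊓ ps fun i => i.1 / 2

theorem isPGroup_P8 : IsPGroup 2 P8 := fun g => ⟨3, Subtype.ext (Equiv.ext fun x => by
  have h1 := sq_fix (c := fun _ => ()) g.2.1 (fun _ => rfl) (by decide +kernel)
  have h2 := sq_fix (c := fun i : Fin 8 => i.1 / 4) (pow_mem g.2.2 2) h1 (by decide +kernel)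
  have h3 := sq_fix (f := id) (c := fun i : Fin 8 => i.1 / 2) (g := (g.1 ^ 2) ^ 2)
    (fun _ _ => (Equiv.injective _).eq_iff.symm) h2
    (by decide +kernel) x
  rwa [← pow_mul, ← pow_mul] at h3)⟩

/-- The central involution. -/
def m8 : Perm (Fin 8) := swap 0 1 * swap 2 3 * swap 4 5 * swap 6 7

/-- Membership in the largest normal 2-subgroup of the centraliser of `m`. -/
def R8 (m g : Perm (Fin 8)) : Prop := (∀ i, g (m i) = m (g i)) ∧ (∀ i, g (g i) = i) ∧
  ((∀ i, g i = i ∨ g i = m i) ∨ ∀ i, g i ≠ i ∧ g i ≠ m i)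

theorem mem_P8 {g : Perm (Fin 8)} (h : R8 m8 g) : g ∈ P8 := by
  have h1 : ∀ a b c d : Fin 8, ∀ v : Fin 8 → Fin 8, v = ![a, m8 a, b, m8 b, c, m8 c, d, m8 d] →
      (∀ i, v (v i) = i) → ((∀ i, v i = i ∨ v i = m8 i) ∨ ∀ i, v i ≠ i ∧ v i ≠ m8 i) →
      (∀ x y, x.1 / 4 = y.1 / 4 ↔ (v x).1 / 4 = (v y).1 / 4) ∧
        ∀ x y, x.1 / 2 = y.1 / 2 ↔ (v x).1 / 2 = (v y).1 / 2 := by
    simp only [forall_eq]
    decide +kernel
  refine h1 (g 0) (g 2) (g 4) (g 6) g (funext fun i => ?_) h.2.1 h.2.2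
  simp only [← h.1]
  fin_cases i <;> rfl

/-- Compatibility of two values of an involution. -/
def c8 (i j a b : Fin 8) : Bool := (decide (a = j) == decide (b = i)) && a != b

set_option synthInstance.maxSize 2000 in
set_option synthInstance.maxHeartbeats 200000 in
theorem exists_R8 {m : Perm (Fin 8)} (h1 : ∀ i, m (m i) = i) (h2 : ∀ i, m i ≠ i) :
    ∃ g, g ≠ 1 ∧ R8 m8 g ∧ R8 m g := by
  have a1 : ∀ i, m8 (m8 i) = i := by decide
  have a2 : ∀ i, m8 i ≠ i := by decide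
  by_cases h3 : ∃ i, m i = m8 i
  · obtain ⟨i, hi⟩ := h3
    have : ∀ m : Perm (Fin 8), (∀ i, m (m i) = i) → R8 m (swap i (m i)) := fun m h =>
      ⟨fun j => by rw [← Perm.mul_apply m, mul_swap_eq_swap_mul, h, swap_comm]; rfl, by simp,
        Or.inl fun j => by rw [swap_apply_def]; split_ifs <;> simp_all⟩
    exact ⟨_, by simpa using (a2 i).symm, this m8 a1, hi ▸ this m h1⟩
  push Not at h3
  have h4 : ∀ a : Fin 8, a ≠ 0 →
      ∀ b : Fin 8, b ≠ 1 → c8 1 0 b a = true →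
      ∀ c : Fin 8, c ≠ 2 → c8 2 0 c a = true → c8 2 1 c b = true →
      ∀ d : Fin 8, d ≠ 3 → c8 3 0 d a = true → c8 3 1 d b = true → c8 3 2 d c = true →
      ∀ e : Fin 8, e ≠ 4 → c8 4 0 e a = true → c8 4 1 e b = true → c8 4 2 e c = true → c8 4 3 e d = true →
      ∀ f : Fin 8, f ≠ 5 → c8 5 0 f a = true → c8 5 1 f b = true → c8 5 2 f c = true → c8 5 3 f d = true → c8 5 4 f e = true →
      ∀ g h : Fin 8, ∀ v : Fin 8 → Fin 8, v = ![a, b, c, d, e, f, g, h] →
      (∀ i, v (v i) = i) → (∀ i, v i ≠ i) → (∀ i, v i ≠ m8 i) → (∀ i, m8 (v i) = v (m8 i)) ∨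
        ∀ i, m8 (v (m8 (v i))) = v (m8 (v (m8 i))) ∧ m8 (v (m8 (v i))) ≠ i := by
    simp only [forall_eq]
    decide +kernel
  have h5 : ∀ i j, m i = j ↔ m j = i := fun i j => ⟨fun e => by rw [← e, h1], fun e => by rw [← e, h1]⟩
  have h7 : ∀ i j, i ≠ j → c8 i j (m i) (m j) = true := fun i j e => by simp [c8, h5 i j, e]
  rcases h4 (m 0) (h2 _)
    (m 1) (h2 _) (h7 _ _ (by decide))
    (m 2) (h2 _) (h7 _ _ (by decide)) (h7 _ _ (by decide))
    (m 3) (h2 _) (h7 _ _ (by decide)) (h7 _ _ (by decide)) (h7 _ _ (by decide))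
    (m 4) (h2 _) (h7 _ _ (by decide)) (h7 _ _ (by decide)) (h7 _ _ (by decide)) (h7 _ _ (by decide))
    (m 5) (h2 _) (h7 _ _ (by decide)) (h7 _ _ (by decide)) (h7 _ _ (by decide)) (h7 _ _ (by decide)) (h7 _ _ (by decide))
    (m 6) (m 7) m (funext fun i => by fin_cases i <;> rfl) h1 h2 h3 with h6 | h6
  · have b1 : ∀ i, m8 (m i) ≠ i := fun i e => h3 i (by rw [← a1 (m i), e])
    exact ⟨m8 * m, fun e => b1 0 (Equiv.congr_fun e 0),
      ⟨fun i => by simp [h6], fun i => by simp [← h6, a1, h1], Or.inr fun i =>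
        ⟨b1 i, fun e => h2 i (m8.injective e)⟩⟩,
      ⟨fun i => by simp [h6, h1], fun i => by simp [← h6, a1, h1], Or.inr fun i => ⟨b1 i, a2 _⟩⟩⟩
  · have b1 : ∀ i, (m8 * m * m8 * m) ((m8 * m * m8 * m) i) = i := fun i => by
      simp only [Perm.mul_apply]; rw [(h6 _).1]; simp [a1, h1]
    refine ⟨m8 * m * m8 * m, fun e => (h6 0).2 (Equiv.congr_fun e 0),
      ⟨fun i => by simp [← (h6 i).1, a1], b1, Or.inr fun i => ⟨(h6 i).2, fun e => ?_⟩⟩,
      ⟨fun i => by simp [(h6 i).1, h1], b1, Or.inr fun i => ⟨(h6 i).2, fun e => ?_⟩⟩⟩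
    · exact a2 (m i) ((h5 _ _).1 (m8.injective e)).symm
    · exact h2 (m8 (m i)) (by rw [← a1 (m (m8 (m i)))]; exact congrArg m8 e)

theorem sylow_eight (H : Sylow 2 (Perm (Fin 8))) (x : Perm (Fin 8)) :
    (H : Subgroup (Perm (Fin 8))) ⊓ (H : Subgroup (Perm (Fin 8))).map (MulAut.conj x).toMonoidHom
      ≠ ⊥ := by
  obtain ⟨Q, hQ⟩ := isPGroup_P8.exists_le_sylow
  obtain ⟨y, rfl⟩ := exists_smul_eq (Perm (Fin 8)) Q H
  have a1 : ∀ i, m8 (m8 i) = i := by decide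
  have a2 : ∀ i, m8 i ≠ i := by decide
  obtain ⟨z, rfl⟩ : ∃ z, x = y * z * y⁻¹ := ⟨y⁻¹ * x * y, by group⟩
  obtain ⟨g, g1, g2, g3⟩ := exists_R8 (m := z * m8 * z⁻¹) (by simp [a1])
    fun i e => a2 (z⁻¹ i) (z.injective (by simpa using e))
  have h1 : ∀ k ∈ P8, y * k * y⁻¹ ∈ ((y • Q : Sylow 2 _) : Subgroup (Perm (Fin 8))) := fun k hk =>
    Subgroup.smul_mem_pointwise_smul k (MulAut.conj y) _ (hQ hk)
  have h2 : R8 m8 (z⁻¹ * g * z) := ⟨fun i => z.injective (by simpa using g3.1 (z i)),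
    fun i => by simp [g3.2.1], g3.2.2.imp
      (fun h i => (h (z i)).imp (fun e => by simp [e]) fun e => by simp [e]) fun h i =>
      ⟨fun e => (h (z i)).1 (by simpa using congrArg z e),
        fun e => (h (z i)).2 (by simpa using congrArg z e)⟩⟩
  refine fun h0 => g1 ?_
  have := h0.le (show y * g * y⁻¹ ∈ _ from ⟨h1 g (mem_P8 g2), _, h1 _ (mem_P8 h2), by
    simp [mul_assoc]⟩)
  simpa using this

end H56.Wr
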